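import Groth.Agent.LocCohBase.DepthLocal
import Groth.Agent.LocCohBase.CM

/-!
Extending along depth two: a map which is bijective wherever the depth is small is bijective.
-/

set_option autoImplicit false
universe u

namespace Groth.Calg1

open IsLocalRing

/-- Over a local ring: if `M` has depth `≥ 2` and no nonzero element of `N` is killed by `𝔪`, then
an element of `N` whose `𝔪`-multiples lie in the image of `φ : M → N` lies in the image. -/
theorem mem_range_of_two_le_depth {A : Type u} [CommRing A] [IsLocalRing A] [IsNoetherianRing A]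
    {M N : Type u} [AddCommGroup M] [Module A M] [Module.Finite A M] [AddCommGroup N] [Module A N]
    (φ : M →ₗ[A] N) (hφ : Function.Injective φ) (hd : 2 ≤ LocCoh.depth A M)
    (hN : ∀ n : N, (∀ t ∈ maximalIdeal A, t • n = 0) → n = 0) {e : N}
    (he : ∀ t ∈ maximalIdeal A, t • e ∈ LinearMap.range φ) : e ∈ LinearMap.range φ := by
  rcases subsingleton_or_nontrivial M with hM | hM
  · refine ⟨0, ?_⟩
    rw [map_zero]
    refine (hN e fun t ht => ?_).symm
    obtain ⟨c, hc⟩ := he t ht
    rw [← hc, Subsingleton.elim c 0, map_zero]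
  have hIM := Groth.LocCohBase.smul_maximalIdeal_ne_top (R := A) M (maximalIdeal.isMaximal A).ne_top
  obtain ⟨x, hxm, hx⟩ := Groth.LocCohBase.exists_regular_of_one_le hIM (le_trans (by norm_num) hd)
  have hd1 : ((1 : ℕ) : ℕ∞) ≤ LocCoh.idealDepth (maximalIdeal A) (QuotSMulTop x M) := by
    rw [LocCoh.depth, ← Groth.LocCohBase.idealDepth_quotSMulTop_add_one _ M hIM hxm hx] at hd
    exact (ENat.add_le_add_iff_right ENat.one_ne_top).1 (le_trans (by norm_num) hd)
  obtain ⟨w, hwm, hw⟩ := Groth.LocCohBase.exists_regular_of_one_le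
    (Groth.LocCohBase.smul_top_quotSMulTop_ne_top hxm hIM) hd1
  obtain ⟨a, ha⟩ := he x hxm
  obtain ⟨b, hb⟩ := he w hwm
  have hab : w • a = x • b := hφ (by rw [map_smul, map_smul, ha, hb, smul_comm])
  have h0 : (Submodule.Quotient.mk a : QuotSMulTop x M) = 0 := by
    refine hw.right_eq_zero_of_smul ?_
    rw [← Submodule.Quotient.mk_smul, Submodule.Quotient.mk_eq_zero, hab]
    exact Submodule.smul_mem_pointwise_smul _ _ _ trivial
  rw [Submodule.Quotient.mk_eq_zero, Submodule.mem_smul_pointwise_iff_exists] at h0
  obtain ⟨a', -, rfl⟩ := h0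
  refine ⟨a', (sub_eq_zero.mp (hN (e - φ a') fun t ht => ?_)).symm⟩
  obtain ⟨c, hc⟩ := he t ht
  have hca : c = t • a' := hx (show x • c = x • (t • a') from hφ (by
    rw [map_smul, hc, smul_comm x t a', map_smul, ha]
    exact smul_comm _ _ _))
  rw [smul_sub, ← hc, hca, map_smul, sub_self]

theorem bijective_of_forall_depth {R M N : Type u} [CommRing R] [IsNoetherianRing R] [AddCommGroup M]
    [Module R M] [Module.Finite R M] [AddCommGroup N] [Module R N] (φ : M →ₗ[R] N)
    (h : ∀ (p : Ideal R) [p.IsPrime],
      Function.Bijective (LocalizedModule.map p.primeCompl φ) ∨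
        (2 ≤ LocCoh.depth (Localization.AtPrime p) (LocalizedModule p.primeCompl M) ∧
          p ∉ associatedPrimes R N)) :
    Function.Bijective φ := by
  have hinj : Function.Injective φ := by
    rw [← LinearMap.ker_eq_bot]
    by_contra hne
    haveI : Nontrivial (LinearMap.ker φ) := Submodule.nontrivial_iff_ne_bot.mpr hne
    obtain ⟨p, hp⟩ := associatedPrimes.nonempty R (LinearMap.ker φ)
    obtain ⟨hpp, ⟨k, hk⟩, hz⟩ := isAssociatedPrime_iff.mp hp
    haveI := hpp
    rcases h p with hb | ⟨hd, -⟩
    · have h0 : (LocalizedModule.mk k 1 : LocalizedModule p.primeCompl M) = 0 := hb.1 (by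
        rw [LocalizedModule.map_mk, LinearMap.mem_ker.mp hk, LocalizedModule.zero_mk, map_zero])
      rw [← LocalizedModule.zero_mk 1, LocalizedModule.mk_eq] at h0
      obtain ⟨s, hs⟩ := h0
      simp only [one_smul, smul_zero, Submonoid.smul_def] at hs
      refine s.2 ((SetLike.ext_iff.mp hz _).mpr ?_)
      rw [Submodule.mem_colon_singleton, Submodule.mem_bot]
      exact Subtype.ext (by simpa using hs)
    · exact (Groth.LocCohBase.one_le_depth_localized_iff p M).1 (le_trans (by norm_num) hd)
        (associatedPrimes.subset_of_injective (f := (LinearMap.ker φ).subtype) Subtype.val_injective hp)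
  refine ⟨hinj, fun n => ?_⟩
  by_contra hn
  have hne : (LinearMap.range φ).mkQ n ≠ 0 := fun h0 =>
    hn ((Submodule.Quotient.mk_eq_zero _).mp h0)
  obtain ⟨p, hp, -⟩ := exists_le_isAssociatedPrime_of_isNoetherianRing R _ hne
  obtain ⟨hpp, z, hz⟩ := isAssociatedPrime_iff.mp hp
  haveI := hpp
  obtain ⟨n, rfl⟩ := Submodule.Quotient.mk_surjective _ z
  have hcol : ∀ r : R, r ∈ p ↔ r • n ∈ LinearMap.range φ := fun r => by
    rw [hz, Submodule.mem_colon_singleton, Submodule.mem_bot, ← Submodule.Quotient.mk_smul,
      Submodule.Quotient.mk_eq_zero]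
  let ψ := LocalizedModule.map p.primeCompl φ
  have hmem : LocalizedModule.mkLinearMap p.primeCompl N n ∈ LinearMap.range ψ := by
    rcases h p with hb | ⟨hd, hN⟩
    · exact hb.2 _
    · refine mem_range_of_two_le_depth ψ (LocalizedModule.map_injective _ φ hinj) hd (fun y hy => ?_)
        (fun t ht => ?_)
      · by_contra hy0
        suffices hass : maximalIdeal (Localization.AtPrime p) ∈
            associatedPrimes (Localization.AtPrime p) (LocalizedModule p.primeCompl N) by
          rw [← Module.associatedPrimes.preimage_comap_associatedPrimes_eq_associatedPrimes_of_isLocalizedModule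
            p.primeCompl (Localization.AtPrime p) (LocalizedModule.mkLinearMap p.primeCompl N),
            Set.mem_preimage, Groth.LocCohBase.comap_maximalIdeal_atPrime] at hass
          exact hN hass
        refine isAssociatedPrime_iff.mpr ⟨inferInstance, y, ?_⟩
        refine ((maximalIdeal.isMaximal _).eq_of_le ?_ fun t ht => ?_)
        · intro htop
          refine hy0 ?_
          have h1 : (1 : Localization.AtPrime p) ∈ Submodule.colon (⊥ : Submodule _ _) {y} :=
            htop ▸ Submodule.mem_top
          simpa [Submodule.mem_colon_singleton] using h1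
        · rw [Submodule.mem_colon_singleton, Submodule.mem_bot]; exact hy t ht
      · obtain ⟨r, s, rfl⟩ := IsLocalization.exists_mk'_eq p.primeCompl t
        rw [IsLocalization.AtPrime.mk'_mem_maximal_iff (Localization.AtPrime p) p r s, hcol] at ht
        obtain ⟨m, hm⟩ := ht
        refine ⟨LocalizedModule.mk m s, ?_⟩
        rw [LocalizedModule.map_mk, hm, LocalizedModule.mkLinearMap_apply,
          ← Localization.mk_eq_mk'_apply, LocalizedModule.mk_smul_mk, mul_one]
  obtain ⟨v, hv⟩ := hmem
  induction v using LocalizedModule.induction_on with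
  | h m s =>
    rw [LocalizedModule.map_mk, LocalizedModule.mkLinearMap_apply, LocalizedModule.mk_eq] at hv
    obtain ⟨u, hu⟩ := hv
    simp only [one_smul, Submonoid.smul_def] at hu
    have : (u : R) * s ∈ p := (hcol _).mpr ⟨(u : R) • m, by rw [map_smul, hu, mul_smul]⟩
    exact p.primeCompl.mul_mem u.2 s.2 this

end Groth.Calg1
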