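import Groth.Agent.LocCohBase.DepthLocal
import Groth.Agent.LocCohBase.CM
import Groth.Agent.Ega4Algebra1.RegularLocal
import Groth.Agent.Ega4Algebra1.LocalRk
import Groth.Agent.Ega4Algebra2.CMEquiv
import Groth.Agent.RefRank.Algebra

/-!
Serre's conditions `(R₀)`, `(R₁)`, `(S₁)`, `(S₂)` and the criteria for reducedness and normality.
-/

set_option autoImplicit false
universe u

namespace Groth.Calg1

open IsLocalRing LocCoh

variable {R : Type u} [CommRing R] [IsNoetherianRing R]

section S1

variable {M : Type u} [AddCommGroup M] [Module R M] [Module.Finite R M]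

theorem supportDim_localized_le_zero_of_minimal {p : Ideal R} [p.IsPrime]
    (hp : p ∈ (Module.annihilator R M).minimalPrimes) :
    Module.supportDim (Localization.AtPrime p) (LocalizedModule p.primeCompl M) ≤ 0 := by
  refine Order.krullDim_nonpos_iff_forall_isMax.2 fun a b hab => ?_
  have key : ∀ c : Module.support (Localization.AtPrime p) (LocalizedModule p.primeCompl M),
      c.1.asIdeal = maximalIdeal _ := by
    intro c
    have hc := Module.mem_support_iff_of_finite.1 c.2
    have h2 : Module.annihilator R M ≤ c.1.asIdeal.comap (algebraMap R _) := by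
      intro r hr
      refine hc (Module.mem_annihilator.2 fun y => ?_)
      induction y using LocalizedModule.induction_on with
      | h m s =>
        rw [algebraMap_smul, LocalizedModule.smul'_mk, Module.mem_annihilator.1 hr m,
          LocalizedModule.zero_mk]
    have h3 : c.1.asIdeal.comap (algebraMap R _) ≤ p :=
      (Ideal.comap_mono (le_maximalIdeal c.1.2.ne_top)).trans
        (Groth.LocCohBase.comap_maximalIdeal_atPrime p).le
    have h4 : c.1.asIdeal.comap (algebraMap R _) = p :=
      le_antisymm h3 (hp.2 ⟨c.1.2.comap _, h2⟩ h3)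
    calc c.1.asIdeal = (c.1.asIdeal.comap (algebraMap R _)).map (algebraMap R _) :=
          (IsLocalization.map_comap p.primeCompl _ _).symm
      _ = p.map (algebraMap R _) := by rw [h4]
      _ = maximalIdeal _ := Localization.AtPrime.map_eq_maximalIdeal
  exact le_of_eq (Subtype.ext (PrimeSpectrum.ext ((key b).trans (key a).symm)))

theorem supportDim_localized_pos_of_not_minimal {p : Ideal R} [p.IsPrime]
    (hp : p ∈ associatedPrimes R M) (hmin : p ∉ (Module.annihilator R M).minimalPrimes) :
    1 ≤ Module.supportDim (Localization.AtPrime p) (LocalizedModule p.primeCompl M) := by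
  have hle : Module.annihilator R M ≤ p :=
    le_of_eq_of_le Submodule.annihilator_top.symm (IsAssociatedPrime.annihilator_le hp)
  obtain ⟨q, hq, hqp⟩ := Ideal.exists_minimalPrimes_le hle
  have hne : q ≠ p := fun h => hmin (h ▸ hq)
  haveI := hq.1.1
  have hd : Disjoint (p.primeCompl : Set R) q :=
    Set.disjoint_left.mpr fun x hx hxq => hx (hqp hxq)
  set Q := q.map (algebraMap R (Localization.AtPrime p))
  haveI : Q.IsPrime := IsLocalization.isPrime_of_isPrime_disjoint p.primeCompl _ q ‹_› hd
  have hQ : Q.comap (algebraMap R (Localization.AtPrime p)) = q :=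
    IsLocalization.under_map_of_isPrime_disjoint p.primeCompl _ ‹q.IsPrime› hd
  have hQass : Q ∈ associatedPrimes (Localization.AtPrime p) (LocalizedModule p.primeCompl M) := by
    rw [← Module.associatedPrimes.preimage_comap_associatedPrimes_eq_associatedPrimes_of_isLocalizedModule
      p.primeCompl (Localization.AtPrime p) (LocalizedModule.mkLinearMap p.primeCompl M)]
    rw [Set.mem_preimage]
    show Q.comap _ ∈ _
    rw [hQ]
    exact Module.associatedPrimes.minimalPrimes_annihilator_subset_associatedPrimes R M hq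
  refine le_trans ?_ (Groth.LocCohBase.ringKrullDim_quotient_le_supportDim hQass)
  have hlt : Q < maximalIdeal (Localization.AtPrime p) := by
    refine lt_of_le_of_ne (le_maximalIdeal Ideal.IsPrime.ne_top') fun h => hne ?_
    rw [← hQ, h, Groth.LocCohBase.comap_maximalIdeal_atPrime]
  have h1 := Groth.LocCohBase.ringKrullDim_quotient_add_one_le
    (maximalIdeal.isMaximal _).ne_top hlt
  refine le_trans ?_ h1
  have : (0 : WithBot ℕ∞) ≤ ringKrullDim (Localization.AtPrime p ⧸ maximalIdeal (Localization.AtPrime p)) := by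
    haveI : Nontrivial (Localization.AtPrime p ⧸ maximalIdeal (Localization.AtPrime p)) :=
      Ideal.Quotient.nontrivial_iff.mpr (maximalIdeal.isMaximal _).ne_top
    exact ringKrullDim_nonneg_of_nontrivial
  simpa using add_le_add_left this 1

theorem hasSk_one_iff :
    HasSk 1 R M ↔ ∀ p ∈ associatedPrimes R M, p ∈ (Module.annihilator R M).minimalPrimes := by
  constructor
  · intro h p hp
    by_contra hmin
    haveI := hp.isPrime
    have h1 := h p
    rw [Nat.cast_one, min_eq_left (supportDim_localized_pos_of_not_minimal hp hmin)] at h1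
    exact (Groth.LocCohBase.one_le_depth_localized_iff p M).1 (WithBot.coe_le_coe.mp h1) hp
  · intro h p _
    by_cases hp : p ∈ associatedPrimes R M
    · exact (min_le_right _ _).trans ((supportDim_localized_le_zero_of_minimal (h p hp)).trans
        (WithBot.coe_le_coe.mpr zero_le))
    · exact (min_le_left _ _).trans (WithBot.coe_le_coe.mpr
        ((Groth.LocCohBase.one_le_depth_localized_iff p M).2 hp))

end S1

theorem hasSk_self_iff (k : ℕ) :
    HasSk k R R ↔ ∀ (p : Ideal R) [p.IsPrime],
      min (k : ℕ∞) p.height ≤ depth (Localization.AtPrime p) (Localization.AtPrime p) := by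
  have e : ∀ (p : Ideal R) [p.IsPrime],
      Module.supportDim (Localization.AtPrime p) (LocalizedModule p.primeCompl R) = p.height :=
    fun p _ => by
      have h : Module.supportDim (Localization.AtPrime p) (LocalizedModule p.primeCompl R) =
          ringKrullDim (Localization.AtPrime p) := Module.supportDim_self_eq_ringKrullDim _
      rw [h, IsLocalization.AtPrime.ringKrullDim_eq_height p (Localization.AtPrime p)]
  constructor
  · intro h p _
    have h1 := h p
    rw [e, ← WithBot.coe_natCast, ← WithBot.coe_min, WithBot.coe_le_coe] at h1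
    exact h1
  · intro h p _
    rw [e, ← WithBot.coe_natCast, ← WithBot.coe_min, WithBot.coe_le_coe]
    exact h p

omit [IsNoetherianRing R] in
theorem hasSk_of_le {M : Type u} [AddCommGroup M] [Module R M] {k l : ℕ} (hkl : k ≤ l)
    (h : HasSk l R M) : HasSk k R M := fun p _ =>
  (min_le_min_right _ (by exact_mod_cast hkl)).trans (h p)

theorem hasRk_atPrime {k : ℕ} (h : HasRk k R) (p : Ideal R) [p.IsPrime] :
    HasRk k (Localization.AtPrime p) :=
  (Groth.Ega4Algebra1.hasRk_localization_iff k p.primeCompl).2 fun q _ _ hq => h q hq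

theorem hasSk_atPrime {k : ℕ} (h : HasSk k R R) (p : Ideal R) [p.IsPrime] :
    HasSk k (Localization.AtPrime p) (Localization.AtPrime p) := by
  rw [hasSk_self_iff] at h ⊢
  intro P _
  have e := Groth.Ega4Algebra1.localizationLocalizationEquiv p.primeCompl P
  have hh : P.height = (P.comap (algebraMap R (Localization.AtPrime p))).height := by
    have h1 := ringKrullDim_eq_of_ringEquiv e
    rw [IsLocalization.AtPrime.ringKrullDim_eq_height P,
      IsLocalization.AtPrime.ringKrullDim_eq_height (P.comap (algebraMap R (Localization.AtPrime p)))] at h1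
    exact WithBot.coe_inj.mp h1
  refine le_trans ?_ (Groth.Ega4b.depth_eq_of_ringEquiv e).ge
  rw [hh]
  exact h _

theorem isField_of_height_eq_zero [IsReduced R] (p : Ideal R) [p.IsPrime] (hp : p.height = 0) :
    IsField (Localization.AtPrime p) := by
  haveI : Ring.KrullDimLE 0 (Localization.AtPrime p) := Ring.krullDimLE_iff.mpr (by
    rw [IsLocalization.AtPrime.ringKrullDim_eq_height p, hp]; rfl)
  exact Ring.KrullDimLE.isField_of_isReduced

theorem isReduced_iff : IsReduced R ↔ (HasRk 0 R ∧ HasSk 1 R R) := by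
  constructor
  · intro _
    refine ⟨fun p _ hp => ?_, hasSk_one_iff.mpr fun p hp => ?_⟩
    · have hf := isField_of_height_eq_zero p (le_antisymm (by simpa using hp) zero_le)
      exact Groth.Ega4Algebra1.isRegularLocalRing_of_maximalIdeal_eq_bot
        (isField_iff_maximalIdeal_eq.mp hf)
    · obtain ⟨hpp, x, hx⟩ := isAssociatedPrime_iff.mp hp
      have hx0 : x ≠ 0 := fun h => hpp.ne_top (by rw [hx, h]; simp)
      obtain ⟨q, hq, hxq⟩ : ∃ q ∈ minimalPrimes R, x ∉ q := by
        by_contra! hall
        refine hx0 (IsReduced.eq_zero x (mem_nilradical.mp ?_))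
        rw [nilradical, ← Ideal.sInf_minimalPrimes, Ideal.mem_sInf]
        exact fun q hq => hall q hq
      have hann : Module.annihilator R R = ⊥ := Module.annihilator_eq_bot.mpr inferInstance
      rw [hann]
      have hle : p ≤ q := fun r hr => by
        rw [hx, Submodule.mem_colon_singleton, Submodule.mem_bot, smul_eq_mul] at hr
        exact ((Ideal.minimalPrimes_isPrime hq).mem_or_mem (hr ▸ zero_mem q)).resolve_right hxq
      exact le_antisymm hle (hq.2 ⟨hpp, bot_le⟩ hle) ▸ hq
  · rintro ⟨hR, hS⟩
    rw [hasSk_one_iff, show Module.annihilator R R = ⊥ from Module.annihilator_eq_bot.mpr inferInstance] at hS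
    refine ⟨fun x hx => by_contra fun hx0 => ?_⟩
    obtain ⟨P, hP, hle⟩ := exists_le_isAssociatedPrime_of_isNoetherianRing R x hx0
    haveI := hP.isPrime
    haveI := hR P (le_of_eq (Ideal.height_eq_zero_iff.mpr (hS P hP)))
    haveI := Groth.Ega4Algebra1.isDomain_of_isRegularLocalRing (Localization.AtPrime P)
    obtain ⟨⟨c, hc⟩, hc0⟩ := (IsLocalization.map_eq_zero_iff P.primeCompl (Localization.AtPrime P) x).mp
      (hx.map (algebraMap R (Localization.AtPrime P))).eq_zero
    exact hc (hle (by rw [Submodule.mem_colon_singleton, Submodule.mem_bot, smul_eq_mul]; exact hc0))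

/-- In depth `≥ 2`, an element killed modulo `x` by the maximal ideal is a multiple of `x`. -/
theorem dvd_of_two_le_depth {A : Type u} [CommRing A] [IsLocalRing A] [IsNoetherianRing A]
    (hd : 2 ≤ depth A A) {x y : A} (hx : IsSMulRegular A x) (hxm : x ∈ maximalIdeal A)
    (hy : ∀ t ∈ maximalIdeal A, x ∣ t * y) : x ∣ y := by
  have hIM : maximalIdeal A • (⊤ : Submodule A A) ≠ ⊤ :=
    Groth.LocCohBase.smul_maximalIdeal_ne_top A (maximalIdeal.isMaximal A).ne_top
  have hd1 : ((1 : ℕ) : ℕ∞) ≤ idealDepth (maximalIdeal A) (QuotSMulTop x A) := by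
    rw [depth, ← Groth.LocCohBase.idealDepth_quotSMulTop_add_one _ A hIM hxm hx] at hd
    exact (ENat.add_le_add_iff_right ENat.one_ne_top).1 (le_trans (by norm_num) hd)
  obtain ⟨rs, hlen, hrs, hmem⟩ := (Groth.LocCohBase.le_idealDepth_iff_exists _
    (Groth.LocCohBase.smul_top_quotSMulTop_ne_top hxm hIM) 1).1 hd1
  obtain ⟨w, rfl⟩ := List.length_eq_one_iff.1 hlen
  have hwreg := (RingTheory.Sequence.isWeaklyRegular_singleton_iff _ _).1 hrs
  have h0 : (Submodule.Quotient.mk y : QuotSMulTop x A) = 0 := by
    refine hwreg.right_eq_zero_of_smul ?_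
    rw [← Submodule.Quotient.mk_smul, Submodule.Quotient.mk_eq_zero,
      Submodule.mem_smul_pointwise_iff_exists]
    obtain ⟨a, ha⟩ := hy w (hmem w (by simp))
    exact ⟨a, trivial, ha.symm⟩
  rw [Submodule.Quotient.mk_eq_zero, Submodule.mem_smul_pointwise_iff_exists] at h0
  obtain ⟨a, -, ha⟩ := h0
  exact ⟨a, ha.symm⟩

/-- `(S₂)`: divisibility by a non-zero-divisor can be tested in codimension `≤ 1`. -/
theorem dvd_of_forall_height_le_one (hS : HasSk 2 R R) {x a : R} (hx : IsSMulRegular R x)
    (h : ∀ (P : Ideal R) [P.IsPrime], P.height ≤ 1 → ∃ s ∉ P, x ∣ s * a) : x ∣ a := by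
  by_contra hxa
  let N : Submodule R R := Ideal.span {x}
  have hne : (Submodule.Quotient.mk a : R ⧸ N) ≠ 0 := fun h0 =>
    hxa (Ideal.mem_span_singleton.mp ((Submodule.Quotient.mk_eq_zero N).mp h0))
  obtain ⟨P, hP, hle⟩ := exists_le_isAssociatedPrime_of_isNoetherianRing R _ hne
  obtain ⟨hPp, z, hz⟩ := isAssociatedPrime_iff.mp hP
  obtain ⟨y, rfl⟩ := Submodule.Quotient.mk_surjective N z
  have hcol : ∀ r y : R, r ∈ (⊥ : Submodule R (R ⧸ N)).colon {Submodule.Quotient.mk y} ↔ x ∣ r * y :=
    fun r y => by
      rw [Submodule.mem_colon_singleton, Submodule.mem_bot, ← Submodule.Quotient.mk_smul,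
        Submodule.Quotient.mk_eq_zero, smul_eq_mul]
      exact Ideal.mem_span_singleton
  have hmem : ∀ r : R, r ∈ P ↔ x ∣ r * y := fun r => (SetLike.ext_iff.mp hz r).trans (hcol r y)
  by_cases hh : P.height ≤ 1
  · obtain ⟨s, hs, hsa⟩ := h P hh
    exact hs (hle ((hcol s a).mpr hsa))
  · set L := Localization.AtPrime P
    have hh2 : ((2 : ℕ) : ℕ∞) ≤ P.height := by
      rcases eq_or_ne P.height ⊤ with e | e
      · rw [e]; exact le_top
      · lift P.height to ℕ using e with n hn
        norm_cast at hh ⊢
        omega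
    have hd : 2 ≤ depth L L := by
      have := (hasSk_self_iff 2).mp hS P
      rwa [min_eq_left hh2] at this
    have hxP : x ∈ P := by
      rw [hmem]; exact dvd_mul_right x y
    have hxL : IsSMulRegular L (algebraMap R L x) := by
      refine isSMulRegular_iff_right_eq_zero_of_smul.mpr fun m hm => ?_
      obtain ⟨c, s, rfl⟩ := IsLocalization.exists_mk'_eq P.primeCompl m
      rw [smul_eq_mul, IsLocalization.mul_mk'_eq_mk'_of_mul, IsLocalization.mk'_eq_zero_iff] at hm
      obtain ⟨t, ht⟩ := hm
      rw [IsLocalization.mk'_eq_zero_iff]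
      exact ⟨t, hx.right_eq_zero_of_smul (by rw [smul_eq_mul, mul_left_comm]; exact ht)⟩
    have hy := dvd_of_two_le_depth hd hxL
      ((IsLocalization.AtPrime.to_map_mem_maximal_iff L P x).mpr hxP) (y := algebraMap R L y)
      (fun t ht => by
        obtain ⟨r, s, rfl⟩ := IsLocalization.exists_mk'_eq P.primeCompl t
        rw [IsLocalization.AtPrime.mk'_mem_maximal_iff L P r s, hmem] at ht
        obtain ⟨c, hc⟩ := ht
        refine ⟨IsLocalization.mk' L c s, ?_⟩
        rw [mul_comm, IsLocalization.mul_mk'_eq_mk'_of_mul, mul_comm y, hc,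
          IsLocalization.mul_mk'_eq_mk'_of_mul])
    obtain ⟨w, hw⟩ := hy
    obtain ⟨c, s, rfl⟩ := IsLocalization.exists_mk'_eq P.primeCompl w
    rw [IsLocalization.mul_mk'_eq_mk'_of_mul, IsLocalization.eq_mk'_iff_mul_eq, ← map_mul] at hw
    obtain ⟨t, ht⟩ := (IsLocalization.eq_iff_exists P.primeCompl L).mp hw
    have : (t : R) * s ∈ P := by
      rw [hmem]
      exact ⟨(t : R) * c, by linear_combination ht⟩
    exact (P.primeCompl.mul_mem t.2 s.2) this

theorem isPrincipal_maximalIdeal {A : Type u} [CommRing A] [IsRegularLocalRing A]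
    (h : ringKrullDim A ≤ 1) : (maximalIdeal A).IsPrincipal := by
  have h1 : ((maximalIdeal A).spanFinrank : WithBot ℕ∞) ≤ 1 := by
    rw [IsRegularLocalRing.spanFinrank_maximalIdeal]; exact h
  norm_cast at h1
  rcases Nat.le_one_iff_eq_zero_or_eq_one.mp h1 with h0 | h0
  · rw [Submodule.spanFinrank_eq_zero_iff_eq_bot (IsNoetherian.noetherian _)] at h0
    rw [h0]
    exact inferInstance
  · exact ((Submodule.spanFinrank_eq_one_iff _).mp h0).1

theorem isIntegrallyClosed_of_regular {A : Type u} [CommRing A] [IsRegularLocalRing A]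
    (h : ringKrullDim A ≤ 1) : IsIntegrallyClosed A := by
  haveI := Groth.Ega4Algebra1.isDomain_of_isRegularLocalRing A
  haveI : IsPrincipalIdealRing A :=
    ((tfae_of_isNoetherianRing_of_isLocalRing_of_isDomain A).out 4 0).mp (isPrincipal_maximalIdeal h)
  infer_instance

theorem exists_mul_dvd_of_isIntegral {A : Type u} [CommRing A] [IsDomain A] (P : Ideal A) [P.IsPrime]
    [IsIntegrallyClosed (Localization.AtPrime P)] {a x : A} (hx0 : x ≠ 0)
    (hz : IsIntegral A (algebraMap A (FractionRing A) a / algebraMap A (FractionRing A) x)) :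
    ∃ s ∉ P, x ∣ s * a := by
  haveI : IsDomain (Localization.AtPrime P) :=
    IsLocalization.isDomain_localization P.primeCompl_le_nonZeroDivisors
  obtain ⟨w, hw⟩ := (isIntegrallyClosed_iff (R := Localization.AtPrime P) (FractionRing A)).mp ‹_›
    (hz.tower_top)
  obtain ⟨c, s, rfl⟩ := IsLocalization.exists_mk'_eq P.primeCompl w
  have hinj := IsFractionRing.injective A (FractionRing A)
  refine ⟨s, s.2, c, hinj ?_⟩
  rw [eq_div_iff ((map_ne_zero_iff _ hinj).mpr hx0)] at hw
  rw [map_mul, map_mul, ← hw]
  have hsc : algebraMap A (FractionRing A) (s : A) *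
      algebraMap (Localization.AtPrime P) (FractionRing A) (IsLocalization.mk' _ c s) =
        algebraMap A (FractionRing A) c := by
    rw [IsScalarTower.algebraMap_apply A (Localization.AtPrime P) (FractionRing A) (s : A), ← map_mul,
      IsLocalization.mk'_spec', ← IsScalarTower.algebraMap_apply]
  linear_combination algebraMap A (FractionRing A) x * hsc

section Local

variable [IsLocalRing R]

theorem isDomain_of_R1_S2 (hR : HasRk 1 R) (hS : HasSk 2 R R) : IsDomain R := by
  classical
  have hred : IsReduced R := isReduced_iff.mpr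
    ⟨fun p _ hp => hR p (hp.trans (by norm_num)), hasSk_of_le one_le_two hS⟩
  have hzero : ∀ z : R, (∀ q ∈ minimalPrimes R, z ∈ q) → z = 0 := fun z hz =>
    IsReduced.eq_zero z (mem_nilradical.mp (by
      rw [nilradical, ← Ideal.sInf_minimalPrimes, Ideal.mem_sInf]; exact hz))
  obtain ⟨P₁, hP₁, -⟩ := Ideal.exists_minimalPrimes_le (bot_le : ⊥ ≤ maximalIdeal R)
  have hP₁' := Ideal.minimalPrimes_isPrime hP₁
  by_cases hone : minimalPrimes R ⊆ {P₁}
  · have : P₁ = ⊥ := le_bot_iff.mp fun z hz =>
      Ideal.mem_bot.mpr (hzero z fun q hq => Set.mem_singleton_iff.mp (hone hq) ▸ hz)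
    rw [this] at hP₁'
    haveI : NoZeroDivisors R := ⟨fun {a b} h => by
      simpa using hP₁'.mem_or_mem (show a * b ∈ (⊥ : Ideal R) by rw [h]; exact zero_mem _)⟩
    exact NoZeroDivisors.to_isDomain R
  exfalso
  obtain ⟨P₂, hP₂, hne⟩ := Set.not_subset.mp hone
  have hfin := minimalPrimes.finite_of_isNoetherianRing R
  have hincomp : ∀ q ∈ minimalPrimes R, ∀ q' ∈ minimalPrimes R, q ≤ q' → q = q' :=
    fun q hq q' hq' hle => le_antisymm hle (hq'.2 ⟨Ideal.minimalPrimes_isPrime hq, bot_le⟩ hle)
  obtain ⟨a, haP, ha⟩ : ∃ a ∈ P₁, ∀ q ∈ minimalPrimes R, q ≠ P₁ → a ∉ q := by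
    by_contra! hall
    obtain ⟨q, hq, hle⟩ := (Ideal.subset_union_prime_finite
      (hfin.subset (Set.diff_subset (s := minimalPrimes R) (t := {P₁}))) (f := id) 0 0
      fun q hq _ _ => Ideal.minimalPrimes_isPrime hq.1).1
      (fun z hz => by
        obtain ⟨q, hq, hqne, hzq⟩ := hall z hz
        exact Set.mem_biUnion (show q ∈ minimalPrimes R \ {P₁} from ⟨hq, hqne⟩) hzq :
        (P₁ : Set R) ⊆ ⋃ q ∈ minimalPrimes R \ {P₁}, (id q : Ideal R))
    exact hq.2 (hincomp P₁ hP₁ q hq.1 hle).symm
  obtain ⟨b, hbP, hb⟩ : ∃ b ∉ P₁, ∀ q ∈ minimalPrimes R, q ≠ P₁ → b ∈ q := by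
    by_contra! hall
    have hle : (hfin.toFinset.erase P₁).inf id ≤ P₁ := fun z hz => by
      by_contra hzP
      obtain ⟨q, hq, hqne, hzq⟩ := hall z hzP
      exact hzq (Finset.inf_le (f := id) (show q ∈ hfin.toFinset.erase P₁ by simp [hq, hqne]) hz)
    obtain ⟨q, hq, hle⟩ := (Ideal.IsPrime.inf_le' hP₁').mp hle
    simp only [Finset.mem_erase, Set.Finite.mem_toFinset] at hq
    exact hq.1 (hincomp q hq.2 P₁ hP₁ hle)
  have hab : a * b = 0 := hzero _ fun q hq => by
    rcases eq_or_ne q P₁ with e | e
    · exact e ▸ Ideal.mul_mem_right _ _ haP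
    · exact Ideal.mul_mem_left _ _ (hb q hq e)
  have hx : IsSMulRegular R (a + b) := isSMulRegular_iff_right_eq_zero_of_smul.mpr fun z hz =>
    hzero z fun q hq => by
      refine ((Ideal.minimalPrimes_isPrime hq).mem_or_mem
        (show (a + b) * z ∈ q by rw [← smul_eq_mul, hz]; exact zero_mem _)).resolve_left fun hxq => ?_
      rcases eq_or_ne q P₁ with e | e
      · exact hbP ((Ideal.add_mem_iff_right _ haP).mp (e ▸ hxq))
      · exact ha q hq e ((Ideal.add_mem_iff_left _ (hb q hq e)).mp hxq)
  obtain ⟨c, hc⟩ := dvd_of_forall_height_le_one hS hx (a := a) fun P _ hP => by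
    haveI := hR P hP
    haveI := Groth.Ega4Algebra1.isDomain_of_isRegularLocalRing (Localization.AtPrime P)
    have : algebraMap R (Localization.AtPrime P) a * algebraMap R (Localization.AtPrime P) b = 0 := by
      rw [← map_mul, hab, map_zero]
    rcases mul_eq_zero.mp this with h | h
    · obtain ⟨⟨s, hs⟩, hs0⟩ := (IsLocalization.map_eq_zero_iff P.primeCompl _ a).mp h
      exact ⟨s, hs, by rw [show s * a = 0 from hs0]; exact dvd_zero _⟩
    · obtain ⟨⟨s, hs⟩, hs0⟩ := (IsLocalization.map_eq_zero_iff P.primeCompl _ b).mp h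
      exact ⟨s, hs, s, by linear_combination -hs0⟩
  have hidem : IsIdempotentElem c := by
    have h2 : (a + b) • ((a + b) • (c * c - c)) = 0 := by
      simp only [smul_eq_mul]
      linear_combination (-(a + (a + b) * c - a - b)) * hc - hab
    exact sub_eq_zero.mp (hx.right_eq_zero_of_smul (hx.right_eq_zero_of_smul h2))
  rcases IsLocalRing.isUnit_or_isUnit_one_sub_self c with hu | hu
  · rw [hu.mul_left_cancel (show c * c = c * 1 by rw [hidem.eq, mul_one]), mul_one, left_eq_add] at hc
    exact hbP (hc ▸ zero_mem _)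
  · have : c = 0 := hu.mul_right_eq_zero.mp (by rw [sub_mul, one_mul, hidem.eq, sub_self])
    rw [this, mul_zero] at hc
    exact ha P₂ hP₂ hne (hc ▸ zero_mem _)

theorem isIntegrallyClosed_of_R1_S2 [IsDomain R] (hR : HasRk 1 R) (hS : HasSk 2 R R) :
    IsIntegrallyClosed R := by
  rw [isIntegrallyClosed_iff (FractionRing R)]
  intro z hz
  obtain ⟨a, x, hx, rfl⟩ := IsFractionRing.div_surjective (A := R) z
  have hx0 := nonZeroDivisors.ne_zero hx
  obtain ⟨c, hc⟩ := dvd_of_forall_height_le_one hS (x := x) (a := a)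
    (isSMulRegular_iff_right_eq_zero_of_smul.mpr fun m hm => (mul_eq_zero.mp hm).resolve_left hx0)
    fun P _ hP => by
      haveI := hR P hP
      haveI := isIntegrallyClosed_of_regular (A := Localization.AtPrime P)
        (by rw [IsLocalization.AtPrime.ringKrullDim_eq_height P]; exact_mod_cast hP)
      exact exists_mul_dvd_of_isIntegral P hx0 hz
  exact ⟨c, by
    rw [eq_div_iff ((map_ne_zero_iff _ (IsFractionRing.injective R (FractionRing R))).mpr hx0),
      ← map_mul, hc, mul_comm]⟩

end Local

theorem normal_iff :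
    (∀ (p : Ideal R) [p.IsPrime], IsDomain (Localization.AtPrime p) ∧
      IsIntegrallyClosed (Localization.AtPrime p)) ↔ (HasRk 1 R ∧ HasSk 2 R R) := by
  constructor
  · intro h
    refine ⟨fun p _ hp => ?_, (hasSk_self_iff 2).mpr fun p _ => ?_⟩
    · haveI := (h p).1
      haveI := (h p).2
      by_cases hf : IsField (Localization.AtPrime p)
      · exact Groth.Ega4Algebra1.isRegularLocalRing_of_maximalIdeal_eq_bot
          (isField_iff_maximalIdeal_eq.mp hf)
      have hdim : ringKrullDim (Localization.AtPrime p) ≤ 1 := by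
        rw [IsLocalization.AtPrime.ringKrullDim_eq_height p]; exact_mod_cast hp
      haveI : Ring.KrullDimLE 1 (Localization.AtPrime p) := Ring.krullDimLE_iff.mpr hdim
      have hprinc : (maximalIdeal (Localization.AtPrime p)).IsPrincipal := by
        refine (List.TFAE.out (tfae_of_isNoetherianRing_of_isLocalRing_of_isDomain
          (Localization.AtPrime p)) 3 4 rfl rfl).mp ?_
        exact ⟨inferInstance, fun P hP0 hPp => eq_maximalIdeal
            ((Ring.krullDimLE_one_iff.1 ‹_› P hPp).resolve_left fun hm => hP0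
              (by simpa [IsDomain.minimalPrimes_eq_singleton_bot] using hm))⟩
      refine IsRegularLocalRing.of_spanFinrank_maximalIdeal_le _ ?_
      have hne : maximalIdeal (Localization.AtPrime p) ≠ ⊥ := fun e =>
        hf (isField_iff_maximalIdeal_eq.mpr e)
      refine le_trans (b := (1 : WithBot ℕ∞)) ?_ ?_
      · exact_mod_cast ((Submodule.spanFinrank_eq_one_iff _).mpr ⟨hprinc, hne⟩).le
      · rw [IsLocalization.AtPrime.ringKrullDim_eq_height p]
        have h0 : p.height ≠ 0 := fun h0 => hf (by
          haveI : Ring.KrullDimLE 0 (Localization.AtPrime p) := Ring.krullDimLE_iff.mpr (by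
            rw [IsLocalization.AtPrime.ringKrullDim_eq_height p, h0]; rfl)
          exact Ring.KrullDimLE.isField_of_isReduced)
        exact WithBot.coe_le_coe.mpr ((Order.one_le_iff_ne_zero (α := ℕ∞)).mpr h0)
    · haveI := (h p).1
      haveI := (h p).2
      set L := Localization.AtPrime p
      have hIM : maximalIdeal L • (⊤ : Submodule L L) ≠ ⊤ :=
        Groth.LocCohBase.smul_maximalIdeal_ne_top L (maximalIdeal.isMaximal L).ne_top
      rcases eq_or_ne p.height 0 with h0 | h0
      · rw [h0]; simp
      have hm : maximalIdeal L ≠ ⊥ := fun e => by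
        haveI : IsField L := isField_iff_maximalIdeal_eq.mpr e
        have := IsLocalization.AtPrime.ringKrullDim_eq_height p L
        rw [ringKrullDim_eq_zero_of_isField (isField_iff_maximalIdeal_eq.mpr e)] at this
        exact h0 (by exact_mod_cast this.symm)
      obtain ⟨x, hxm, hx0⟩ := Submodule.exists_mem_ne_zero_of_ne_bot hm
      have hx : IsSMulRegular L x :=
        isSMulRegular_iff_right_eq_zero_of_smul.mpr fun m hm => (mul_eq_zero.mp hm).resolve_left hx0
      rw [depth, ← Groth.LocCohBase.idealDepth_quotSMulTop_add_one _ L hIM hxm hx]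
      by_cases h1 : (1 : ℕ∞) ≤ idealDepth (maximalIdeal L) (QuotSMulTop x L)
      · exact (min_le_left _ _).trans (le_trans (by norm_num) (add_le_add_left h1 1))
      refine (min_le_right _ _).trans (le_trans ?_ (le_add_self))
      rw [Groth.LocCohBase.one_le_idealDepth_iff] at h1
      push_neg at h1
      obtain ⟨q, hq, hle⟩ := h1
      obtain ⟨hqp, z, hz⟩ := isAssociatedPrime_iff.mp hq
      obtain ⟨y, rfl⟩ := Submodule.Quotient.mk_surjective _ z
      have hqm : q = maximalIdeal L := le_antisymm (le_maximalIdeal hqp.ne_top) hle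
      have hcol : ∀ r : L, r ∈ q ↔ x ∣ r * y := fun r => by
        rw [hz, Submodule.mem_colon_singleton, Submodule.mem_bot, ← Submodule.Quotient.mk_smul,
          Submodule.Quotient.mk_eq_zero, Submodule.mem_smul_pointwise_iff_exists]
        exact ⟨fun ⟨b, _, hb⟩ => ⟨b, hb.symm⟩, fun ⟨b, hb⟩ => ⟨b, trivial, hb.symm⟩⟩
      have hy : ¬ x ∣ y := fun hd => hqp.ne_top
        ((Ideal.eq_top_iff_one _).mpr ((hcol 1).mpr (by rwa [one_mul])))
      have hht := Groth.RefRank.height_eq_one_of_colon (p := maximalIdeal L) hm hx0 hy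
        fun r hr => (hcol r).mp (hqm ▸ hr)
      have h2 : (maximalIdeal L).height = p.height := by
        have e1 := IsLocalRing.maximalIdeal_height_eq_ringKrullDim (R := L)
        rw [IsLocalization.AtPrime.ringKrullDim_eq_height p L] at e1
        exact_mod_cast e1
      rw [← h2, hht]
  · rintro ⟨hR, hS⟩ p _
    have hR' := hasRk_atPrime hR p
    have hS' := hasSk_atPrime hS p
    haveI := isDomain_of_R1_S2 hR' hS'
    exact ⟨inferInstance, isIntegrallyClosed_of_R1_S2 hR' hS'⟩

end Groth.Calg1
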