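import Mathlib
import Groth.Prelude.Def_CAlgX

/-!
Assorted small commutative algebra lemmas.
-/

set_option autoImplicit false
universe u

namespace Groth.Calg1

open CategoryTheory Limits

theorem smooth_lift_of_isNilpotent {R S A : Type u} [CommRing R] [CommRing S] [Algebra R S]
    [Algebra.Smooth R S] [CommRing A] [Algebra R A] (I : Ideal A) (hI : ∀ x ∈ I, IsNilpotent x)
    (g : S →ₐ[R] A ⧸ I) : ∃ f : S →ₐ[R] A, (Ideal.Quotient.mkₐ R I).comp f = g := by
  obtain ⟨n, π, hπ, s, hs⟩ := (inferInstance : Algebra.FinitePresentation R S).out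
  have hlift := fun i => Ideal.Quotient.mk_surjective (g (π (MvPolynomial.X i)))
  choose a ha using hlift
  let h : MvPolynomial (Fin n) R →ₐ[R] A := MvPolynomial.aeval a
  have hh : (Ideal.Quotient.mkₐ R I).comp h = g.comp π := by
    refine MvPolynomial.algHom_ext fun i => ?_
    simp [h, ha]
  let J : Ideal A := Ideal.span (h '' (s : Set (MvPolynomial (Fin n) R)))
  have hJI : J ≤ I := by
    rw [Ideal.span_le]
    rintro _ ⟨p, hp, rfl⟩
    have hp0 : π p = 0 := RingHom.mem_ker.mp (hs ▸ Ideal.subset_span hp)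
    refine Ideal.Quotient.eq_zero_iff_mem.mp ?_
    have := AlgHom.congr_fun hh p
    rw [AlgHom.comp_apply, AlgHom.comp_apply, hp0, map_zero] at this
    exact this
  have hJ : IsNilpotent J := by
    rw [Ideal.FG.isNilpotent_iff_le_nilradical (Submodule.fg_span (s.finite_toSet.image _))]
    exact fun x hx => mem_nilradical.mpr (hI x (hJI hx))
  have hker : RingHom.ker π ≤ RingHom.ker ((Ideal.Quotient.mkₐ R J).comp h) := by
    rw [← RingHom.ker_coe_toRingHom π]
    refine hs ▸ Ideal.span_le.mpr fun p hp => ?_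
    exact Ideal.Quotient.eq_zero_iff_mem.mpr (Ideal.subset_span ⟨p, hp, rfl⟩)
  let e := Ideal.quotientKerAlgEquivOfSurjective hπ
  let g0 : S →ₐ[R] A ⧸ J :=
    (Ideal.Quotient.liftₐ (RingHom.ker π) ((Ideal.Quotient.mkₐ R J).comp h) hker).comp e.symm.toAlgHom
  obtain ⟨f, hf⟩ := Algebra.FormallySmooth.exists_lift J hJ g0
  refine ⟨f, AlgHom.ext fun x => ?_⟩
  obtain ⟨p, rfl⟩ := hπ x
  have h1 : g0 (π p) = Ideal.Quotient.mk J (h p) := by
    show Ideal.Quotient.liftₐ (RingHom.ker π) _ hker (e.symm (π p)) = _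
    have : e.symm (π p) = Ideal.Quotient.mk _ p := by
      rw [AlgEquiv.symm_apply_eq]; rfl
    rw [this]; rfl
  have h2 : f (π p) - h p ∈ J := by
    rw [← Ideal.Quotient.eq]; rw [← h1, ← hf]; rfl
  have h3 : Ideal.Quotient.mk I (f (π p)) = Ideal.Quotient.mk I (h p) :=
    Ideal.Quotient.eq.mpr (hJI h2)
  exact h3.trans (AlgHom.congr_fun hh p)

theorem henselian_of_isFilteredColimit {J : Type u} [SmallCategory J] [IsFiltered J]
    (F : J ⥤ CommRingCat.{u}) (hF : ∀ j, HenselianLocalRing (F.obj j))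
    (hloc : ∀ (i j : J) (a : i ⟶ j), IsLocalHom (F.map a).hom) (c : Cocone F) (hc : IsColimit c) :
    HenselianLocalRing c.pt := by
  let ι : ∀ j, (F.obj j : Type u) →+* (c.pt : Type u) := fun j => (c.ι.app j).hom
  have hw : ∀ {i j : J} (a : i ⟶ j) (x : F.obj i), ι j ((F.map a).hom x) = ι i x := fun a x =>
    congrArg (fun φ => φ.hom x) (c.w a)
  have hrep : ∀ x : c.pt, ∃ j, ∃ y : F.obj j, ι j y = x := fun x =>
    Concrete.isColimit_exists_rep F hc x
  have heq : ∀ {i j : J} (x : F.obj i) (y : F.obj j), ι i x = ι j y →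
      ∃ (k : J) (f : i ⟶ k) (g : j ⟶ k), (F.map f).hom x = (F.map g).hom y := fun x y h =>
    Concrete.isColimit_exists_of_rep_eq.{u} F hc x y h
  have hιloc : ∀ j, IsLocalHom (ι j) := fun j => ⟨fun x hx => by
    obtain ⟨v, hv⟩ := isUnit_iff_exists_inv.mp hx
    obtain ⟨l, y, rfl⟩ := hrep v
    let k := IsFiltered.max j l
    have : ι k ((F.map (IsFiltered.leftToMax j l)).hom x *
        (F.map (IsFiltered.rightToMax j l)).hom y) = ι k 1 := by
      rw [map_mul, hw, hw, hv, map_one]
    obtain ⟨m, f, g, hfg⟩ := heq _ _ this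
    rw [map_mul, map_one] at hfg
    have h1 : IsUnit ((F.map (IsFiltered.leftToMax j l ≫ f)).hom x) := by
      rw [F.map_comp]; exact isUnit_iff_exists_inv.mpr ⟨_, hfg⟩
    exact (hloc _ _ (IsFiltered.leftToMax j l ≫ f)).map_nonunit x h1⟩
  obtain ⟨j₀⟩ : Nonempty J := IsFiltered.nonempty
  have hnt : Nontrivial c.pt := ⟨⟨0, 1, fun h => by
    have : IsUnit (ι j₀ (0 : F.obj j₀)) := by rw [map_zero, h]; exact isUnit_one
    exact not_isUnit_zero ((hιloc j₀).map_nonunit _ this)⟩⟩
  have : IsLocalRing c.pt := IsLocalRing.of_isUnit_or_isUnit_one_sub_self fun a => by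
    obtain ⟨j, y, rfl⟩ := hrep a
    refine (IsLocalRing.isUnit_or_isUnit_one_sub_self y).imp (fun h => h.map (ι j)) fun h => ?_
    rw [← map_one (ι j), ← map_sub]; exact h.map (ι j)
  refine ⟨fun f hf a₀ h₁ h₂ => ?_⟩
  classical
  obtain ⟨ja, ya, hya⟩ := hrep a₀
  choose jc yc hyc using fun n => hrep (f.coeff n)
  obtain ⟨k, hk⟩ := IsFiltered.sup_objs_exists
    (insert ja ((Finset.range f.natDegree).image jc))
  let a : F.obj k := (F.map (hk (Finset.mem_insert_self _ _)).some).hom ya
  have ha : ι k a = a₀ := (hw _ _).trans hya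
  let b : Fin f.natDegree → F.obj k := fun n =>
    (F.map (hk (Finset.mem_insert_of_mem (Finset.mem_image_of_mem jc
      (Finset.mem_range.mpr n.2)))).some).hom (yc n)
  have hb : ∀ n, ι k (b n) = f.coeff n := fun n => (hw _ _).trans (hyc n)
  let p : Polynomial (F.obj k) :=
    Polynomial.X ^ f.natDegree + ∑ n : Fin f.natDegree, Polynomial.C (b n) * Polynomial.X ^ (n : ℕ)
  have hp : p.Monic := Polynomial.monic_X_pow_add
    (lt_of_le_of_lt (Polynomial.degree_sum_le _ _) <| (Finset.sup_lt_iff (WithBot.bot_lt_coe _)).mpr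
      fun n _ => lt_of_le_of_lt (Polynomial.degree_C_mul_X_pow_le _ _) (WithBot.coe_lt_coe.mpr n.2))
  have hpf : p.map (ι k) = f := by
    conv_rhs => rw [hf.as_sum]
    simp only [p, Polynomial.map_add, Polynomial.map_pow, Polynomial.map_X, Polynomial.map_sum,
      Polynomial.map_mul, Polynomial.map_C, hb]
    congr 1
    exact Fin.sum_univ_eq_sum_range (fun n => Polynomial.C (f.coeff n) * Polynomial.X ^ n) f.natDegree
  have e1 : ∀ (q : Polynomial (F.obj k)) (z : F.obj k), (q.map (ι k)).eval (ι k z) = ι k (q.eval z) :=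
    fun q z => by rw [Polynomial.eval_map, Polynomial.eval₂_at_apply]
  have h1 : p.eval a ∈ IsLocalRing.maximalIdeal (F.obj k) := by
    intro hu
    have := hu.map (ι k)
    rw [← e1, hpf, ha] at this
    exact h₁ this
  have h2 : IsUnit (p.derivative.eval a) := (hιloc k).map_nonunit _ (by
    rw [← e1, ← Polynomial.derivative_map, hpf, ha]; exact h₂)
  obtain ⟨r, hr, hra⟩ := (hF k).is_henselian p hp a h1 h2
  refine ⟨ι k r, ?_, ?_⟩
  · show f.eval _ = 0
    rw [← hpf, e1, hr.eq_zero, map_zero]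
  · rw [← ha, ← map_sub]
    exact fun hu => hra ((hιloc k).map_nonunit _ hu)

theorem localizedModule_map_bijective_iff {R M N : Type u} [CommRing R] [AddCommGroup M]
    [Module R M] [AddCommGroup N] [Module R N] (S : Submonoid R) (φ : M →ₗ[R] N) :
    Function.Bijective (LocalizedModule.map S φ) ↔
      (∀ m, φ m = 0 → ∃ s ∈ S, s • m = 0) ∧ (∀ n, ∃ m, ∃ s ∈ S, φ m = s • n) := by
  have hmk : ∀ m (s : S), LocalizedModule.map S φ (LocalizedModule.mk m s) =
      LocalizedModule.mk (φ m) s := fun m s => LocalizedModule.map_mk S φ m s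
  constructor
  · rintro ⟨hi, hs⟩
    refine ⟨fun m hm => ?_, fun n => ?_⟩
    · have : LocalizedModule.mk m (1 : S) = 0 := hi (by rw [hmk, hm, map_zero, LocalizedModule.zero_mk])
      obtain ⟨s, hs'⟩ := LocalizedModule.mk_eq.mp (this.trans (LocalizedModule.zero_mk 1).symm)
      exact ⟨s, s.2, by simpa [Submonoid.smul_def] using hs'⟩
    · obtain ⟨x, hx⟩ := hs (LocalizedModule.mk n 1)
      induction x using LocalizedModule.induction_on with
      | _ m t =>
        rw [hmk, LocalizedModule.mk_eq] at hx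
        obtain ⟨v, hv⟩ := hx
        refine ⟨(v : R) • m, (v * t : S), (v * t).2, ?_⟩
        rw [map_smul, Submonoid.coe_mul, mul_smul]
        simpa [Submonoid.smul_def] using hv
  · rintro ⟨hi, hs⟩
    refine ⟨(injective_iff_map_eq_zero _).mpr fun x hx => ?_, fun y => ?_⟩
    · induction x using LocalizedModule.induction_on with
      | _ m t =>
        rw [hmk, ← LocalizedModule.zero_mk t, LocalizedModule.mk_eq] at hx
        obtain ⟨v, hv⟩ := hx
        simp only [smul_zero, Submonoid.smul_def] at hv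
        obtain ⟨s, hs', hsm⟩ := hi (((v : R) * t) • m) (by rw [map_smul, mul_smul]; exact hv)
        rw [← LocalizedModule.zero_mk t, LocalizedModule.mk_eq]
        refine ⟨⟨s, hs'⟩ * v, ?_⟩
        simp only [smul_zero, Submonoid.smul_def, Submonoid.coe_mul]
        rw [smul_smul, mul_assoc, ← smul_smul, hsm]
    · induction y using LocalizedModule.induction_on with
      | _ n t =>
        obtain ⟨m, s, hs', hm⟩ := hs n
        refine ⟨LocalizedModule.mk m (⟨s, hs'⟩ * t), ?_⟩
        rw [hmk, hm, LocalizedModule.mk_eq]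
        refine ⟨1, ?_⟩
        simp only [Submonoid.smul_def, Submonoid.coe_mul, one_smul, smul_smul]
        simp [mul_comm]

theorem isOpen_bijective_locus {R M N : Type u} [CommRing R] [AddCommGroup M] [Module R M]
    [Module.Finite R M] [AddCommGroup N] [Module R N] [Module.FinitePresentation R N]
    (φ : M →ₗ[R] N) :
    IsOpen {p : PrimeSpectrum R | Function.Bijective (LocalizedModule.map p.asIdeal.primeCompl φ)} := by
  rw [isOpen_iff_forall_mem_open]
  intro p hp
  obtain ⟨g, hg, hb⟩ := Module.FinitePresentation.exists_notMem_bijective φ p.asIdeal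
    (LocalizedModule.mkLinearMap p.asIdeal.primeCompl M)
    (LocalizedModule.mkLinearMap p.asIdeal.primeCompl N) hp
  rw [localizedModule_map_bijective_iff] at hb
  refine ⟨PrimeSpectrum.basicOpen g, fun q hq => ?_, (PrimeSpectrum.basicOpen g).isOpen, hg⟩
  have hle : Submonoid.powers g ≤ q.asIdeal.primeCompl := Submonoid.powers_le.mpr hq
  exact (localizedModule_map_bijective_iff _ φ).mpr
    ⟨fun m hm => (hb.1 m hm).imp fun s hs => ⟨hle hs.1, hs.2⟩,
     fun n => (hb.2 n).imp fun m => Exists.imp fun s hs => ⟨hle hs.1, hs.2⟩⟩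

theorem ufd_of_ufd_localization {A : Type u} [CommRing A] [IsDomain A]
    (hfac : ∀ a : A, a ≠ 0 → ¬ IsUnit a →
      ∃ f : Multiset A, (∀ b ∈ f, Irreducible b) ∧ Associated f.prod a)
    (P : Set A) (hP : ∀ p ∈ P, Prime p) [IsDomain (Localization (Submonoid.closure P))]
    (hS : UniqueFactorizationMonoid (Localization (Submonoid.closure P))) :
    UniqueFactorizationMonoid A := by
  let S := Submonoid.closure P
  let L := Localization S
  refine UniqueFactorizationMonoid.iff_exists_prime_mem_of_isPrime.mpr fun Q hQ hQp => ?_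
  by_cases hmeet : ∃ p ∈ P, p ∈ Q
  · obtain ⟨p, hp, hpQ⟩ := hmeet; exact ⟨p, hpQ, hP p hp⟩
  push Not at hmeet
  have hSQ : ∀ s ∈ S, s ∉ Q := by
    intro s hs
    induction hs using Submonoid.closure_induction with
    | mem x hx => exact hmeet x hx
    | one => exact hQp.one_notMem
    | mul x y _ _ hx hy => exact fun h => (hQp.mem_or_mem h).elim hx hy
  have hS0 : S ≤ nonZeroDivisors A := fun s hs =>
    mem_nonZeroDivisors_of_ne_zero fun h => hSQ s hs (h ▸ Q.zero_mem)
  obtain ⟨a, haQ, ha0⟩ : ∃ a ∈ Q, a ≠ 0 := Submodule.exists_mem_ne_zero_of_ne_bot hQ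
  obtain ⟨f, hf, hfa⟩ := hfac a ha0 (fun hu => hQp.ne_top (Ideal.eq_top_of_isUnit_mem _ haQ hu))
  have hfQ : f.prod ∈ Q := by
    obtain ⟨v, hv⟩ := hfa.symm
    rw [← hv]; exact Q.mul_mem_right _ haQ
  obtain ⟨b, hbf, hbQ⟩ := (Ideal.IsPrime.multiset_prod_mem_iff_exists_mem hQp f).mp hfQ
  have hb := hf b hbf
  have hndvd : ∀ p ∈ P, ¬ b ∣ p ∧ ¬ p ∣ b := by
    refine fun p hp => ⟨fun h => hmeet p hp (Q.mem_of_dvd h hbQ), fun h => ?_⟩
    exact hmeet p hp (Q.mem_of_dvd ((hP p hp).irreducible.associated_of_dvd hb h).symm.dvd hbQ)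
  have key : ∀ s ∈ S, ∀ z, (∃ y, s * z = b * y) → b ∣ z := by
    intro s hs
    induction hs using Submonoid.closure_induction with
    | mem p hp =>
      rintro z ⟨y, hy⟩
      obtain ⟨w, rfl⟩ : p ∣ y := ((hP p hp).dvd_or_dvd ⟨z, hy.symm⟩).resolve_left (hndvd p hp).2
      exact ⟨w, mul_left_cancel₀ (hP p hp).ne_zero (by rw [hy]; ring)⟩
    | one => rintro z ⟨y, hy⟩; exact ⟨y, by rw [← hy, one_mul]⟩
    | mul s t _ _ hs ht =>
      rintro z ⟨y, hy⟩
      obtain ⟨w, hw⟩ := hs (t * z) ⟨y, by rw [← hy]; ring⟩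
      exact ht z ⟨w, hw⟩
  have cancel : ∀ s ∈ S, ∀ x y, s * b = x * y → (∃ t ∈ S, x ∣ t) ∨ (∃ t ∈ S, y ∣ t) := by
    intro s hs
    induction hs using Submonoid.closure_induction_left with
    | one =>
      intro x y h
      rw [one_mul] at h
      rcases hb.isUnit_or_isUnit h with hu | hu
      · exact .inl ⟨1, S.one_mem, hu.dvd⟩
      · exact .inr ⟨1, S.one_mem, hu.dvd⟩
    | mul_left p hp s hs ih =>
      intro x y h
      have hd : p ∣ x * y := ⟨s * b, by rw [← mul_assoc]; exact h.symm⟩
      rcases (hP p hp).dvd_or_dvd hd with ⟨w, rfl⟩ | ⟨w, rfl⟩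
      · rcases ih w y (mul_left_cancel₀ (hP p hp).ne_zero (by rw [← mul_assoc, h]; ring)) with
          ⟨t, ht, hw⟩ | hy
        · exact .inl ⟨p * t, S.mul_mem (Submonoid.subset_closure hp) ht, mul_dvd_mul_left p hw⟩
        · exact .inr hy
      · rcases ih x w (mul_left_cancel₀ (hP p hp).ne_zero (by rw [← mul_assoc, h]; ring)) with
          hx | ⟨t, ht, hw⟩
        · exact .inl hx
        · exact .inr ⟨p * t, S.mul_mem (Submonoid.subset_closure hp) ht, mul_dvd_mul_left p hw⟩
  have hinj : Function.Injective (algebraMap A L) := IsLocalization.injective L hS0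
  have hdvdu : ∀ x : A, (∃ t ∈ S, x ∣ t) → IsUnit (algebraMap A L x) := fun x ⟨t, ht, hxt⟩ =>
    isUnit_of_dvd_unit (map_dvd _ hxt) (IsLocalization.map_units L ⟨t, ht⟩)
  have hbL : Irreducible (algebraMap A L b) := by
    refine ⟨fun hu => ?_, fun {u v} huv => ?_⟩
    · obtain ⟨z, hz⟩ := isUnit_iff_exists_inv.mp hu
      obtain ⟨y, s, rfl⟩ := IsLocalization.exists_mk'_eq S z
      rw [IsLocalization.mul_mk'_eq_mk'_of_mul, IsLocalization.mk'_eq_iff_eq_mul, one_mul] at hz
      exact hSQ s s.2 (hinj hz ▸ Q.mul_mem_right _ hbQ)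
    · obtain ⟨x, s, rfl⟩ := IsLocalization.exists_mk'_eq S u
      obtain ⟨y, t, rfl⟩ := IsLocalization.exists_mk'_eq S v
      rw [← IsLocalization.mk'_mul, IsLocalization.eq_mk'_iff_mul_eq, ← map_mul] at huv
      have h := hinj huv
      rcases cancel (s * t : S) (s * t).2 x y (by rw [← h, mul_comm]) with hx | hy
      · refine .inl ?_
        rw [IsLocalization.mk'_eq_mul_mk'_one]
        exact (hdvdu x hx).mul (isUnit_iff_exists_inv'.mpr ⟨algebraMap A L s, by
          rw [IsLocalization.mul_mk'_eq_mk'_of_mul, mul_one, IsLocalization.mk'_self']⟩)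
      · refine .inr ?_
        rw [IsLocalization.mk'_eq_mul_mk'_one]
        exact (hdvdu y hy).mul (isUnit_iff_exists_inv'.mpr ⟨algebraMap A L t, by
          rw [IsLocalization.mul_mk'_eq_mk'_of_mul, mul_one, IsLocalization.mk'_self']⟩)
  refine ⟨b, hbQ, hb.ne_zero, hb.not_isUnit, fun x y hxy => ?_⟩
  obtain ⟨c, hc⟩ := hxy
  have hd : algebraMap A L b ∣ algebraMap A L x * algebraMap A L y := by
    rw [← map_mul]; exact ⟨algebraMap A L c, by rw [hc, map_mul]⟩
  have back : ∀ z, algebraMap A L b ∣ algebraMap A L z → b ∣ z := by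
    rintro z ⟨w, hw⟩
    obtain ⟨q, s, rfl⟩ := IsLocalization.exists_mk'_eq S w
    rw [IsLocalization.mul_mk'_eq_mk'_of_mul, IsLocalization.eq_mk'_iff_mul_eq, ← map_mul] at hw
    exact key s s.2 z ⟨q, by rw [mul_comm, hinj hw]⟩
  exact (hbL.prime.dvd_or_dvd hd).imp (back x) (back y)

theorem isJacobsonRing_of_primes {R : Type u} [CommRing R] [IsNoetherianRing R]
    (h : ∀ (p : Ideal R) [p.IsPrime], p.IsMaximal ∨ {q : PrimeSpectrum R | p ≤ q.asIdeal}.Infinite) :
    IsJacobsonRing R := by
  rw [isJacobsonRing_iff_prime_eq]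
  intro P
  induction P using WellFoundedGT.induction with
  | _ P ih =>
    intro hP
    by_contra hne
    obtain ⟨f, hfJ, hfP⟩ := SetLike.not_le_iff_exists.mp
      (fun hle => hne (le_antisymm hle Ideal.le_jacobson))
    rcases h P with hmax | hinf
    · exact hne (Ideal.jacobson_eq_self_of_isMaximal (H := hmax))
    apply hinf
    have hmem : ∀ q : Ideal R, q.IsPrime → P < q → f ∈ q := fun q hq hlt =>
      ih q hlt hq ▸ Ideal.jacobson_mono hlt.le hfJ
    let T := P ⊔ Ideal.span {f}
    have hPT : P < T := left_lt_sup.mpr fun hle => hfP (hle (Ideal.mem_span_singleton_self f))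
    have hfin : T.minimalPrimes.Finite := Ideal.finite_minimalPrimes_of_isNoetherianRing R T
    have habove : ∀ q : Ideal R, q.IsPrime → P ≤ q → q ≠ P → q ∈ T.minimalPrimes := by
      intro q hq hPq hqP
      have hlt : P < q := lt_of_le_of_ne hPq (Ne.symm hqP)
      have hTq : T ≤ q := sup_le hPq (by simpa [Ideal.span_le] using hmem q hq hlt)
      by_contra hnot
      obtain ⟨a, haq, haU⟩ : ∃ a ∈ q, ∀ Q ∈ T.minimalPrimes, a ∉ Q := by
        by_contra hcon
        push Not at hcon
        obtain ⟨Q, hQ, hqQ⟩ := (Ideal.subset_union_prime_finite hfin P P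
          (fun Q hQ _ _ => hQ.1.1)).mp (fun a ha => Set.mem_iUnion₂.mpr
            (by simpa using hcon a ha) : (q : Set R) ⊆ ⋃ i ∈ T.minimalPrimes, (i : Set R))
        exact hnot (le_antisymm hqQ (hQ.2 ⟨hq, hTq⟩ hqQ) ▸ hQ)
      obtain ⟨U, hU, hUq⟩ := Ideal.exists_minimalPrimes_le
        (show P ⊔ Ideal.span {a} ≤ q from sup_le hPq (by simpa [Ideal.span_le] using haq))
      have haU' : a ∈ U := hU.1.2 (Submodule.mem_sup_right (Ideal.mem_span_singleton_self a))
      have : U.IsPrime := hU.1.1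
      have hPU : P < U := lt_of_le_of_ne (le_sup_left.trans hU.1.2) fun e => by
        obtain ⟨Q, hQ, -⟩ := Ideal.exists_minimalPrimes_le hTq
        exact haU Q hQ ((hPT.le.trans hQ.1.2) (e ▸ haU'))
      obtain ⟨Q, hQ, hQU⟩ := Ideal.exists_minimalPrimes_le
        (show T ≤ U from sup_le hPU.le (by simpa [Ideal.span_le] using hmem U this hPU))
      have hlt2 : Q < U := lt_of_le_of_ne hQU fun e => haU Q hQ (e ▸ haU')
      have : Q.IsPrime := hQ.1.1
      have hPQ : P < Q := lt_of_lt_of_le hPT hQ.1.2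
      let π := Ideal.Quotient.mk P
      have hπ : Function.Surjective π := Ideal.Quotient.mk_surjective
      have hker : RingHom.ker π = P := Ideal.mk_ker
      have : (U.map π).IsPrime := Ideal.map_isPrime_of_surjective hπ (hker.le.trans hPU.le)
      have : (Q.map π).IsPrime := Ideal.map_isPrime_of_surjective hπ (hker.le.trans hPQ.le)
      have hcU : (U.map π).comap π = U := by
        rw [Ideal.comap_map_of_surjective π hπ]
        exact sup_eq_left.mpr (by rw [← RingHom.ker_eq_comap_bot, hker]; exact hPU.le)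
      have hcQ : (Q.map π).comap π = Q := by
        rw [Ideal.comap_map_of_surjective π hπ]
        exact sup_eq_left.mpr (by rw [← RingHom.ker_eq_comap_bot, hker]; exact hPQ.le)
      have h1 : (⊥ : Ideal (R ⧸ P)) < Q.map π := bot_lt_iff_ne_bot.mpr fun e => by
        have hc := congrArg (Ideal.comap π) e
        rw [hcQ, ← RingHom.ker_eq_comap_bot, hker] at hc
        exact hPQ.ne hc.symm
      have h2 : Q.map π < U.map π := lt_of_le_of_ne (Ideal.map_mono hQU) fun e => by
        have hc := congrArg (Ideal.comap π) e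
        rw [hcQ, hcU] at hc
        exact hlt2.ne hc
      have hmin : U.map π ∈ (Ideal.span {π a}).minimalPrimes := by
        refine ⟨⟨inferInstance, by simpa [Ideal.span_le] using Ideal.mem_map_of_mem π haU'⟩, ?_⟩
        rintro V ⟨hV, hVa⟩ hVU
        have : U ≤ V.comap π := hU.2 ⟨Ideal.comap_isPrime π V, sup_le
          (fun x hx => by simp [π, Ideal.Quotient.eq_zero_iff_mem.mpr hx])
          (by simpa [Ideal.span_le] using hVa (Ideal.mem_span_singleton_self _))⟩
          ((Ideal.comap_mono hVU).trans hcU.le)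
        rw [← Ideal.map_comap_of_surjective π hπ V]
        exact Ideal.map_mono this
      have hle1 := Ideal.height_le_one_of_isPrincipal_of_mem_minimalPrimes _ _ hmin
      have a1 := Ideal.height_add_one_le_of_lt_of_isPrime h1
      have a2 := Ideal.height_add_one_le_of_lt_of_isPrime h2
      have : (2 : ℕ∞) ≤ 1 := by
        calc (2 : ℕ∞) ≤ (⊥ : Ideal (R ⧸ P)).height + 1 + 1 := by
              rw [show (2 : ℕ∞) = 0 + 1 + 1 by norm_num]; gcongr; exact zero_le
          _ ≤ (Q.map π).height + 1 := by gcongr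
          _ ≤ (U.map π).height := a2
          _ ≤ 1 := hle1
      exact absurd this (by norm_num)
    refine ((hfin.union (Set.finite_singleton P)).preimage
      (fun x _ y _ e => PrimeSpectrum.ext e)).subset fun q hq => ?_
    by_cases e : q.asIdeal = P
    · exact Or.inr e
    · exact Or.inl (habove _ q.2 hq e)

theorem isH1Regular_append {A : Type u} [CommRing A] {n m : ℕ} (f : Fin n → A)
    (g : Fin m → A) (hf : CAlgX.IsH1Regular f)
    (hg : CAlgX.IsH1Regular (fun j => Ideal.Quotient.mk (Ideal.span (Set.range f)) (g j))) :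
    CAlgX.IsH1Regular (Fin.append f g) := by
  classical
  intro v hv
  let J := Ideal.span (Set.range f)
  let h := Fin.append f g
  let triv : ∀ {k : ℕ}, (Fin k → A) → Set (Fin k → A) := fun {k} u =>
    {w | ∃ i j : Fin k, w = Pi.single i (u j) - Pi.single j (u i)}
  let L : (Fin n → A) × (Fin m → A) →ₗ[A] (Fin (n + m) → A) :=
    { toFun := fun ab => Fin.append ab.1 ab.2
      map_add' := fun x y => funext fun i => by
        refine Fin.addCases (fun i => ?_) (fun i => ?_) i <;> simp
      map_smul' := fun r x => funext fun i => by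
        refine Fin.addCases (fun i => ?_) (fun i => ?_) i <;> simp }
  have Ll : ∀ (i : Fin n) x, L (Pi.single i x, 0) = Pi.single (Fin.castAdd m i) x := fun i x =>
    funext fun k => by
      refine Fin.addCases (fun k => ?_) (fun k => ?_) k
      · simp [L, Pi.single_apply, Fin.ext_iff]
      · have hk : n + (k : ℕ) ≠ i := by omega
        simp [L, Pi.single_apply, Fin.ext_iff, hk]
  have Lr : ∀ (i : Fin m) x, L (0, Pi.single i x) = Pi.single (Fin.natAdd n i) x := fun i x =>
    funext fun k => by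
      refine Fin.addCases (fun k => ?_) (fun k => ?_) k
      · have hk : (k : ℕ) ≠ n + i := by omega
        simp [L, Pi.single_apply, Fin.ext_iff, hk]
      · simp [L, Pi.single_apply, Fin.ext_iff]
  let W := Submodule.span A (triv h)
  have hW1 : ∀ a ∈ Submodule.span A (triv f), L (a, 0) ∈ W := by
    intro a ha
    have : Submodule.span A (triv f) ≤ W.comap (L ∘ₗ LinearMap.inl A _ _) := by
      rw [Submodule.span_le]
      rintro _ ⟨i, j, rfl⟩
      refine Submodule.subset_span ⟨Fin.castAdd m i, Fin.castAdd m j, ?_⟩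
      simp [h, ← Ll, map_sub, ← L.map_sub]
    exact this ha
  have hW2 : ∀ b ∈ Submodule.span A (triv g), L (0, b) ∈ W := by
    intro b hb
    have : Submodule.span A (triv g) ≤ W.comap (L ∘ₗ LinearMap.inr A _ _) := by
      rw [Submodule.span_le]
      rintro _ ⟨i, j, rfl⟩
      refine Submodule.subset_span ⟨Fin.natAdd n i, Fin.natAdd n j, ?_⟩
      simp [h, ← Lr, ← L.map_sub]
    exact this hb
  let φ : (Fin (n + m) → A) →ₗ[A] A := Fintype.linearCombination A h
  have hφW : W ≤ LinearMap.ker φ := by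
    rw [Submodule.span_le]
    rintro _ ⟨i, j, rfl⟩
    simp [φ, Fintype.linearCombination_apply_single, mul_comm]
  have hφv : φ v = 0 := by simpa [φ, Fintype.linearCombination_apply] using hv
  let b : Fin m → A := fun i => v (Fin.natAdd n i)
  let π : (Fin m → A) →ₗ[A] (Fin m → A ⧸ J) := (Submodule.mkQ J).compLeft (Fin m)
  have hπb : π b ∈ Submodule.span A (π '' triv g) := by
    have hsum : ∑ i, Ideal.Quotient.mk J (b i) * Ideal.Quotient.mk J (g i) = 0 := by
      have := congrArg (Ideal.Quotient.mk J) hv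
      simp only [Fin.sum_univ_add, Fin.append_left, Fin.append_right, map_add, map_sum, map_mul,
        map_zero] at this
      simpa [J, b, Ideal.Quotient.eq_zero_iff_mem.mpr (Ideal.subset_span (Set.mem_range_self (f := f) _))]
        using this
    have h1 := hg (π b) hsum
    rw [← Submodule.restrictScalars_mem A, Submodule.restrictScalars_span A (A ⧸ J)
      Ideal.Quotient.mk_surjective] at h1
    refine Submodule.span_mono ?_ h1
    rintro _ ⟨i, j, rfl⟩
    refine ⟨_, ⟨i, j, rfl⟩, funext fun k => ?_⟩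
    simp [π, Pi.single_apply, apply_ite (Ideal.Quotient.mk J), sub_eq_add_neg]
    split_ifs <;> rfl
  rw [← Submodule.map_span] at hπb
  obtain ⟨t, ht, htb⟩ := hπb
  have he : ∀ j, ∃ c : Fin n → A, ∑ i, c i * f i = b j - t j := fun j => by
    have := congrFun htb j
    exact Ideal.mem_span_range_iff_exists_fun.mp (Ideal.Quotient.eq.mp this.symm)
  choose c hc using he
  let w : Fin (n + m) → A := L (0, t) +
    ∑ j, ∑ i, c j i • (Pi.single (Fin.natAdd n j) (h (Fin.castAdd m i)) -
      Pi.single (Fin.castAdd m i) (h (Fin.natAdd n j)))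
  have hwW : w ∈ W := W.add_mem (hW2 t ht) (W.sum_mem fun j _ => W.sum_mem fun i _ =>
    W.smul_mem _ (Submodule.subset_span ⟨_, _, rfl⟩))
  have hwr : ∀ j, (v - w) (Fin.natAdd n j) = 0 := fun k => by
    have hne : ∀ i : Fin n, Fin.natAdd n k ≠ Fin.castAdd m i := fun i e => by
      simp [Fin.ext_iff] at e; omega
    simp [w, L, h, Pi.single_apply, hne, Fin.natAdd_inj, Finset.sum_ite_eq, hc, b]
  let a' : Fin n → A := fun i => (v - w) (Fin.castAdd m i)
  have hL : L (a', 0) = v - w := funext fun k => by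
    refine Fin.addCases (fun i => ?_) (fun i => ?_) k
    · simp [L, a']
    · simp only [L, LinearMap.coe_mk, AddHom.coe_mk, Fin.append_right, hwr, Pi.zero_apply]
  have h0 : φ (L (a', 0)) = 0 := by rw [hL, map_sub, hφv, hφW hwW, sub_zero]
  have := hW1 a' (hf a' (by
    simpa [φ, Fintype.linearCombination_apply, L, h, Fin.sum_univ_add] using h0))
  rw [hL] at this
  simpa using W.add_mem this hwW

end Groth.Calg1
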