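import Mathlib

/-!
Adic completeness: Noetherianity, change of ideal, finiteness.
-/

set_option autoImplicit false
universe u v

namespace Groth.Calg1

open MvPolynomial

variable {R : Type u} [CommRing R]

lemma exists_homogeneous_of_mem_pow {c : ℕ} (f : Fin c → R) (n : ℕ) :
    ∀ x ∈ Ideal.span (Set.range f) ^ n,
      ∃ P : MvPolynomial (Fin c) R, P.IsHomogeneous n ∧ eval f P = x := by
  induction n with
  | zero => exact fun x _ => ⟨C x, isHomogeneous_C _ x, eval_C _⟩
  | succ n ih =>
    intro x hx
    rw [pow_succ] at hx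
    induction hx using Submodule.mul_induction_on' with
    | mem_mul_mem r hr s hs =>
      obtain ⟨P, hP, rfl⟩ := ih r hr
      obtain ⟨a, rfl⟩ := Ideal.mem_span_range_iff_exists_fun.mp hs
      refine ⟨P * ∑ i, C (a i) * X i, hP.mul ?_, by simp⟩
      exact IsHomogeneous.sum _ _ _ fun i _ => by
        simpa using (isHomogeneous_C (Fin c) (a i)).mul (isHomogeneous_X R i)
    | add x _ y _ hx hy =>
      obtain ⟨P, hP, rfl⟩ := hx
      obtain ⟨Q, hQ, rfl⟩ := hy
      exact ⟨P + Q, hP.add hQ, by simp⟩

lemma eval_mem_pow {c : ℕ} (f : Fin c → R) {n : ℕ} {P : MvPolynomial (Fin c) R}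
    (hP : P.IsHomogeneous n) : eval f P ∈ Ideal.span (Set.range f) ^ n := by
  rw [eval_eq]
  refine Ideal.sum_mem _ fun d hd => Ideal.mul_mem_left _ _ ?_
  have hn : ∑ i ∈ d.support, d i = n := by
    simpa [Finsupp.weight_apply, Finsupp.sum] using hP (mem_support_iff.mp hd)
  rw [← hn, ← Finset.prod_pow_eq_pow_sum]
  exact Ideal.prod_mem_prod fun i _ => Ideal.pow_mem_pow (Ideal.subset_span (Set.mem_range_self i)) _

lemma eval_mem_mul_pow {c : ℕ} (f : Fin c → R) {n : ℕ} {P : MvPolynomial (Fin c) R}
    {I : Ideal R} (hI : I = Ideal.span (Set.range f)) (hP : P.IsHomogeneous n)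
    (h0 : map (Ideal.Quotient.mk I) P = 0) : eval f P ∈ I ^ (n + 1) := by
  rw [eval_eq, pow_succ']
  refine Ideal.sum_mem _ fun d hd => Ideal.mul_mem_mul ?_ ?_
  · rw [← Ideal.Quotient.eq_zero_iff_mem, ← coeff_map, h0, coeff_zero]
  · have hn : ∑ i ∈ d.support, d i = n := by
      simpa [Finsupp.weight_apply, Finsupp.sum] using hP (mem_support_iff.mp hd)
    rw [← hn, ← Finset.prod_pow_eq_pow_sum, hI]
    exact Ideal.prod_mem_prod fun i _ => Ideal.pow_mem_pow (Ideal.subset_span (Set.mem_range_self i)) _

/-- Homogeneous part of a product, one factor homogeneous. -/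
lemma homogeneousComponent_mul_of_homogeneous {σ : Type*} {A : Type*} [CommRing A]
    (h P : MvPolynomial σ A) {d : ℕ} (hP : P.IsHomogeneous d) (n : ℕ) :
    homogeneousComponent n (h * P) =
      if d ≤ n then homogeneousComponent (n - d) h * P else 0 := by
  conv_lhs => rw [← sum_homogeneousComponent h, Finset.sum_mul, map_sum]
  have key : ∀ i, homogeneousComponent n (homogeneousComponent i h * P) =
      if i + d = n then homogeneousComponent i h * P else 0 := fun i => by
    rw [homogeneousComponent_of_mem ((homogeneousComponent_isHomogeneous i h).mul hP)]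
    simp [eq_comm]
  simp only [key]
  split_ifs with hd
  · rw [Finset.sum_eq_single (n - d)]
    · simp [Nat.sub_add_cancel hd]
    · intro i _ hi; rw [if_neg]; omega
    · intro hi
      rw [if_pos (Nat.sub_add_cancel hd), homogeneousComponent_eq_zero]
      · simp
      · simp at hi; omega
  · exact Finset.sum_eq_zero fun i _ => if_neg (by omega)

theorem isNoetherianRing_of_isAdicComplete (I : Ideal R) (hI : I.FG) [IsAdicComplete I R]
    [IsNoetherianRing (R ⧸ I)] : IsNoetherianRing R := by
  classical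
  obtain ⟨c, f, hf⟩ := Submodule.fg_iff_exists_fin_generating_family.mp hI
  replace hf : I = Ideal.span (Set.range f) := hf.symm
  refine ⟨fun J => ?_⟩
  let S : Set (MvPolynomial (Fin c) R) :=
    {P | ∃ d, P.IsHomogeneous d ∧ ∃ j ∈ J, eval f P - j ∈ I ^ (d + 1)}
  let φ : MvPolynomial (Fin c) R →+* MvPolynomial (Fin c) (R ⧸ I) := map (Ideal.Quotient.mk I)
  obtain ⟨t, htS, htL⟩ := (Submodule.fg_span_iff_fg_span_finset_subset (φ '' S)).mp
    (IsNoetherian.noetherian (Submodule.span (MvPolynomial (Fin c) (R ⧸ I)) (φ '' S)))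
  have htS' : ∀ q : t, ∃ P, P ∈ S ∧ φ P = q.1 := fun q => htS q.2
  choose P hPS hPq using htS'
  choose d hd j hj hPj using hPS
  suffices ∀ x ∈ J, x ∈ Ideal.span (Set.range j) by
    refine ⟨Finset.univ.image j, le_antisymm ?_ ?_⟩
    · rw [Finset.coe_image, Finset.coe_univ, Set.image_univ, Submodule.span_le]
      rintro _ ⟨q, rfl⟩; exact hj q
    · intro y hy; simpa [Finset.coe_image, Set.image_univ, Ideal.span] using this y hy
  have step : ∀ n x, x ∈ J → x ∈ I ^ n → ∃ a : t → R,
      (∀ q, a q ∈ I ^ (n - d q)) ∧ x - ∑ q, a q * j q ∈ I ^ (n + 1) := by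
    intro n x hxJ hxI
    obtain ⟨X, hX, rfl⟩ := exists_homogeneous_of_mem_pow f n x (hf ▸ hxI)
    have hmem : φ X ∈ Submodule.span (MvPolynomial (Fin c) (R ⧸ I))
        (t : Set (MvPolynomial (Fin c) (R ⧸ I))) := by
      rw [← htL]
      exact Submodule.subset_span ⟨X, ⟨n, hX, _, hxJ, by simp⟩, rfl⟩
    obtain ⟨h, -, hh⟩ := Submodule.mem_span_finset.mp hmem
    have hsurj : Function.Surjective φ := map_surjective _ Ideal.Quotient.mk_surjective
    let H : t → MvPolynomial (Fin c) R := fun q =>
      if d q ≤ n then homogeneousComponent (n - d q) (hsurj (h q.1)).choose else 0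
    have hH : ∀ q, (H q).IsHomogeneous (n - d q) := fun q => by
      simp only [H]; split_ifs
      · exact homogeneousComponent_isHomogeneous _ _
      · exact isHomogeneous_zero _ _ _
    have hHP : ∀ q, (H q * P q).IsHomogeneous n := fun q => by
      by_cases hq : d q ≤ n
      · simpa [Nat.sub_add_cancel hq] using (hH q).mul (hd q)
      · simp only [H, if_neg hq, zero_mul]; exact isHomogeneous_zero _ _ _
    have hD : φ (X - ∑ q, H q * P q) = 0 := by
      rw [map_sub, map_sum, sub_eq_zero]
      have h1 : homogeneousComponent n (φ X) = φ X := by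
        rw [homogeneousComponent_of_mem (hX.map _), if_pos rfl]
      rw [← h1, ← hh, ← Finset.sum_coe_sort, map_sum]
      refine Finset.sum_congr rfl fun q _ => ?_
      rw [smul_eq_mul, ← hPq q, homogeneousComponent_mul_of_homogeneous _ _ ((hd q).map _),
        map_mul]
      simp only [H]
      split_ifs with hq
      · congr 1
        conv_lhs => rw [hPq q, ← (hsurj (h q.1)).choose_spec]
        simp only [φ]
        ext e
        simp only [coeff_map, coeff_homogeneousComponent]
        split_ifs <;> simp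
      · simp
    refine ⟨fun q => eval f (H q), fun q => hf ▸ eval_mem_pow f (hH q), ?_⟩
    have hhom : (X - ∑ q, H q * P q).IsHomogeneous n :=
      (mem_homogeneousSubmodule _ _).mp (sub_mem ((mem_homogeneousSubmodule _ _).mpr hX)
        (sum_mem fun q _ => (mem_homogeneousSubmodule _ _).mpr (hHP q)))
    have h2 := eval_mem_mul_pow f hf hhom hD
    simp only [map_sub, map_sum, map_mul] at h2
    have h3 : ∀ q, eval f (H q) * (eval f (P q) - j q) ∈ I ^ (n + 1) := fun q => by
      have := Ideal.mul_mem_mul (hf ▸ eval_mem_pow f (hH q)) (hPj q)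
      rw [← pow_add] at this
      exact Ideal.pow_le_pow_right (by omega) this
    have := add_mem h2 (Ideal.sum_mem _ (fun q (_ : q ∈ (Finset.univ : Finset t)) => h3 q))
    convert this using 1
    simp only [mul_sub, Finset.sum_sub_distrib]
    ring
  intro x hx
  choose! a ha₁ ha₂ using step
  let z : ℕ → R := fun n => Nat.rec x (fun n r => r - ∑ q, a n r q * j q) n
  have hz : ∀ n, z n ∈ J ∧ z n ∈ I ^ n := by
    intro n
    induction n with
    | zero => exact ⟨hx, by simp⟩
    | succ n ih =>
      exact ⟨sub_mem ih.1 (Ideal.sum_mem _ fun q _ => Ideal.mul_mem_left _ _ (hj q)),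
        ha₂ n _ ih.1 ih.2⟩
  let S' : t → ℕ → R := fun q N => ∑ n ∈ Finset.range N, a n (z n) q
  have hzS : ∀ N, x - ∑ q, S' q N * j q = z N := by
    intro N
    induction N with
    | zero => simp [S', z]
    | succ N ih =>
      show _ = z N - ∑ q, a N (z N) q * j q
      simp only [S', Finset.sum_range_succ, add_mul, Finset.sum_add_distrib]
      simp only [S'] at ih
      linear_combination ih
  have hC : ∀ q, ∃ A, ∀ N, S' q (N + d q) - A ∈ I ^ N := by
    intro q
    obtain ⟨A, hA⟩ := IsPrecomplete.prec (I := I) (M := R) inferInstance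
      (f := fun N => S' q (N + d q)) (fun {m n} hmn => by
        rw [SModEq.sub_mem, smul_eq_mul, Ideal.mul_top, ← neg_mem_iff, neg_sub]
        simp only [S']
        rw [← Finset.sum_Ico_eq_sub _ (by omega)]
        refine Ideal.sum_mem _ fun k hk => ?_
        rw [Finset.mem_Ico] at hk
        exact Ideal.pow_le_pow_right (by omega) (ha₁ k _ (hz k).1 (hz k).2 q))
    exact ⟨A, fun N => by simpa [SModEq.sub_mem] using hA N⟩
  choose A hA using hC
  suffices x = ∑ q, A q * j q by
    rw [this]
    exact Ideal.sum_mem _ fun q _ => Ideal.mul_mem_left _ _ (Ideal.subset_span ⟨q, rfl⟩)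
  rw [IsHausdorff.eq_iff_smodEq (I := I)]
  intro N
  rw [SModEq.sub_mem, smul_eq_mul, Ideal.mul_top]
  let M := N + ∑ q, d q
  have hM : ∀ q, N + d q ≤ M := fun q =>
    Nat.add_le_add_left (Finset.single_le_sum (f := d) (fun _ _ => Nat.zero_le _) (Finset.mem_univ q)) _
  have : x - ∑ q, A q * j q = z M + ∑ q, (S' q M - A q) * j q := by
    rw [← hzS M]; simp only [sub_mul, Finset.sum_sub_distrib]; ring
  rw [this]
  refine add_mem (Ideal.pow_le_pow_right (by omega) (hz M).2) (Ideal.sum_mem _ fun q _ => ?_)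
  refine Ideal.mul_mem_right _ _ (Ideal.pow_le_pow_right (m := N) (n := M - d q) ?_ ?_)
  · have := hM q; omega
  · have := hA q (M - d q)
    rwa [Nat.sub_add_cancel (by have := hM q; omega)] at this

theorem isNoetherianRing_adicCompletion (I : Ideal R) (hI : I.FG) [IsNoetherianRing (R ⧸ I)] :
    IsNoetherianRing (AdicCompletion I R) := by
  let J := I.map (algebraMap R (AdicCompletion I R))
  have : IsAdicComplete J (AdicCompletion I R) :=
    (IsAdicComplete.map_algebraMap_iff I (AdicCompletion I R)).mpr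
      (AdicCompletion.isAdicComplete hI)
  let e : (R ⧸ I) ≃+* (AdicCompletion I R ⧸ J) :=
    (RingHom.quotientKerEquivOfSurjective (AdicCompletion.evalOneₐ_surjective I)).symm.trans
      (Ideal.quotEquivOfEq (AdicCompletion.ker_evalOneₐ_eq_map I hI))
  have : IsNoetherianRing (AdicCompletion I R ⧸ J) := isNoetherianRing_of_ringEquiv _ e
  exact isNoetherianRing_of_isAdicComplete J (hI.map _)

lemma isPrecomplete_pi (I : Ideal R) [IsPrecomplete I R] (n : ℕ) :
    IsPrecomplete I (Fin n → R) where
  prec' f hf := by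
    have hc : ∀ i, ∃ L, ∀ k, f k i ≡ L [SMOD (I ^ k • ⊤ : Submodule R R)] := fun i =>
      IsPrecomplete.prec inferInstance fun {p q} hpq => by
        have h := (hf hpq).map (LinearMap.proj i : (Fin n → R) →ₗ[R] R)
        refine SModEq.mono ?_ h
        rw [Submodule.map_smul'']
        exact Submodule.smul_mono le_rfl le_top
    choose L hL using hc
    refine ⟨L, fun k => ?_⟩
    rw [SModEq.sub_mem, pi_eq_sum_univ (f k - L)]
    refine Submodule.sum_mem _ fun i _ => Submodule.smul_mem_smul ?_ Submodule.mem_top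
    have := SModEq.sub_mem.mp (hL i k)
    rwa [smul_eq_mul, Ideal.mul_top] at this

theorem module_finite_of_isHausdorff (I : Ideal R) [IsAdicComplete I R] (M : Type v)
    [AddCommGroup M] [Module R M] [IsHausdorff I M]
    (h : Module.Finite R (M ⧸ (I • ⊤ : Submodule R M))) : Module.Finite R M := by
  obtain ⟨n, g, hg⟩ := Module.Finite.exists_fin' R (M ⧸ (I • ⊤ : Submodule R M))
  let y : Fin n → M := fun i => (Submodule.mkQ_surjective _ (g (Pi.single i 1))).choose
  let φ : (Fin n → R) →ₗ[R] M := Fintype.linearCombination R y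
  have h1 : (Submodule.mkQ (I • ⊤ : Submodule R M)) ∘ₗ φ = g := by
    refine LinearMap.pi_ext' fun i => LinearMap.ext_ring ?_
    simp only [LinearMap.comp_apply, LinearMap.single_apply, φ,
      Fintype.linearCombination_apply_single, one_smul, y]
    exact (Submodule.mkQ_surjective _ (g (Pi.single i 1))).choose_spec
  have : IsPrecomplete I (Fin n → R) := isPrecomplete_pi I n
  exact Module.Finite.of_surjective φ (surjective_of_mkQ_comp_surjective (I := I) (h1 ▸ hg))

lemma exists_sum_of_mem_span_smul {M : Type v} [AddCommGroup M] [Module R M] {c : ℕ}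
    (h : Fin c → R) (N : Submodule R M) :
    ∀ x ∈ Ideal.span (Set.range h) • N, ∃ y : Fin c → M, (∀ i, y i ∈ N) ∧ x = ∑ i, h i • y i := by
  intro x hx
  induction hx using Submodule.smul_induction_on' with
  | smul r hr y hy =>
    obtain ⟨a, rfl⟩ := Ideal.mem_span_range_iff_exists_fun.mp hr
    exact ⟨fun i => a i • y, fun i => N.smul_mem _ hy, by
      rw [Finset.sum_smul]; exact Finset.sum_congr rfl fun i _ => by rw [smul_smul, mul_comm]⟩
  | add x _ y _ hx hy =>
    obtain ⟨u, hu, rfl⟩ := hx
    obtain ⟨w, hw, rfl⟩ := hy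
    exact ⟨u + w, fun i => N.add_mem (hu i) (hw i), by simp [Finset.sum_add_distrib]⟩

theorem isAdicComplete_of_le (I J : Ideal R) (hIJ : I ≤ J) (hI : I.FG) (M : Type v)
    [AddCommGroup M] [Module R M] [IsAdicComplete J M] : IsAdicComplete I M := by
  have hle : ∀ n, (I ^ n • ⊤ : Submodule R M) ≤ J ^ n • ⊤ := fun n =>
    Submodule.smul_mono_left (Ideal.pow_right_mono hIJ n)
  have hhaus : IsHausdorff I M :=
    ⟨fun x hx => IsHausdorff.haus (I := J) inferInstance x fun n => SModEq.mono (hle n) (hx n)⟩
  refine { toIsHausdorff := hhaus, prec' := ?_ }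
  intro f hf
  obtain ⟨L, hL⟩ := IsPrecomplete.prec (I := J) (M := M) inferInstance (f := f)
    fun {m n} h => SModEq.mono (hle m) (hf h)
  refine ⟨L, fun n => ?_⟩
  obtain ⟨c, h, hh⟩ := Submodule.fg_iff_exists_fin_generating_family.mp (hI.pow (n := n))
  have hsum : ∀ k, ∃ y : Fin c → M, (∀ i, y i ∈ (J ^ k • ⊤ : Submodule R M)) ∧
      f (n + (k + 1)) - f (n + k) = ∑ i, h i • y i := by
    intro k
    refine exists_sum_of_mem_span_smul h _ _ ?_
    have h1 : f (n + (k + 1)) - f (n + k) ∈ (I ^ (n + k) • ⊤ : Submodule R M) :=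
      SModEq.sub_mem.mp (hf (by omega)).symm
    rw [pow_add, ← smul_smul] at h1
    rw [show Ideal.span (Set.range h) = I ^ n from hh]
    exact Submodule.smul_mono le_rfl (hle k) h1
  choose y hy hyf using hsum
  let T : Fin c → ℕ → M := fun i k => ∑ l ∈ Finset.range k, y l i
  have hT : ∀ i, ∃ Y, ∀ k, T i k ≡ Y [SMOD (J ^ k • ⊤ : Submodule R M)] := fun i => by
    refine IsPrecomplete.prec (I := J) inferInstance fun {p q} hpq => ?_
    rw [SModEq.sub_mem, ← neg_mem_iff, neg_sub]
    simp only [T]
    rw [← Finset.sum_Ico_eq_sub _ hpq]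
    refine Submodule.sum_mem _ fun l hl => ?_
    exact Submodule.smul_mono_left (Ideal.pow_le_pow_right (Finset.mem_Ico.mp hl).1) (hy l i)
  choose Y hY using hT
  have key : L - f n = ∑ i, h i • Y i := by
    rw [IsHausdorff.eq_iff_smodEq (I := J)]
    intro k
    have h1 : f (n + k) - f n = ∑ i, h i • T i k := by
      induction k with
      | zero => simp [T]
      | succ k ih =>
        simp only [T, Finset.sum_range_succ, smul_add, Finset.sum_add_distrib]
        rw [← hyf k, ← ih]
        abel
    have h2 : L ≡ f (n + k) [SMOD (J ^ k • ⊤ : Submodule R M)] :=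
      (SModEq.mono (Submodule.smul_mono_left (Ideal.pow_le_pow_right (by omega))) (hL (n + k))).symm
    refine (h2.sub SModEq.rfl).trans ?_
    rw [h1]
    exact SModEq.sum fun i _ => (hY i k).smul _
  rw [SModEq.sub_mem, ← neg_mem_iff, neg_sub, key]
  refine Submodule.sum_mem _ fun i _ => Submodule.smul_mem_smul ?_ Submodule.mem_top
  rw [← show Ideal.span (Set.range h) = I ^ n from hh]
  exact Ideal.subset_span ⟨i, rfl⟩

theorem isAdicComplete_of_quotient [IsNoetherianRing R] (I J : Ideal R) [IsAdicComplete I R]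
    [IsAdicComplete (J.map (Ideal.Quotient.mk I)) (R ⧸ I)] : IsAdicComplete J R := by
  let K := I ⊔ J
  suffices IsAdicComplete K R from isAdicComplete_of_le J K le_sup_right (IsNoetherian.noetherian J) R
  have hKjac : K ≤ (⊥ : Ideal R).jacobson := by
    refine sup_le (IsAdicComplete.le_jacobson_bot I) fun x hx => ?_
    have h1 : Ideal.Quotient.mk I x ∈ (⊥ : Ideal (R ⧸ I)).jacobson :=
      IsAdicComplete.le_jacobson_bot _ (Ideal.mem_map_of_mem _ hx)
    rw [Ideal.mem_jacobson_bot] at h1 ⊢
    intro y
    have h2 := h1 (Ideal.Quotient.mk I y)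
    rw [← map_mul, ← map_one (Ideal.Quotient.mk I), ← map_add] at h2
    have : IsLocalHom (Ideal.Quotient.mk I) :=
      isLocalHom_of_le_jacobson_bot I (IsAdicComplete.le_jacobson_bot I)
    exact (isUnit_map_iff _ _).mp h2
  have : IsHausdorff K R := IsHausdorff.of_le_jacobson K R hKjac
  refine AdicCompletion.of_bijective_iff.mp ⟨AdicCompletion.of_injective K R, ?_⟩
  let C := AdicCompletion K R
  have hK : K.FG := IsNoetherian.noetherian K
  have : IsAdicComplete K C := AdicCompletion.isAdicComplete hK
  have : IsAdicComplete I C := isAdicComplete_of_le I K le_sup_left (IsNoetherian.noetherian I) C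
  refine surjective_of_mkQ_comp_surjective (I := I) ?_
  intro z
  obtain ⟨z, rfl⟩ := Submodule.mkQ_surjective _ z
  have hqc : IsAdicComplete K (R ⧸ I) := by
    refine (IsAdicComplete.map_algebraMap_iff K (R ⧸ I) (S := R ⧸ I)).mp ?_
    have : K.map (algebraMap R (R ⧸ I)) = J.map (Ideal.Quotient.mk I) := by
      rw [Ideal.Quotient.algebraMap_eq, Ideal.map_sup, Ideal.map_quotient_self, bot_sup_eq]
    rw [this]; infer_instance
  let q : R →ₗ[R] R ⧸ I := Submodule.mkQ I
  obtain ⟨r, hr⟩ := AdicCompletion.of_surjective K (R ⧸ I) (AdicCompletion.map K q z)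
  obtain ⟨r, rfl⟩ := Submodule.mkQ_surjective _ r
  refine ⟨r, ?_⟩
  have h0 : AdicCompletion.map K q (z - AdicCompletion.of K R r) = 0 := by
    rw [map_sub, AdicCompletion.map_of, ← hr, sub_self]
  obtain ⟨w, hw⟩ := (AdicCompletion.map_exact (I := K) (f := I.subtype) (g := q)
    (Submodule.injective_subtype I) (LinearMap.exact_subtype_mkQ I)
    (Submodule.mkQ_surjective _) _).mp h0
  simp only [LinearMap.comp_apply]
  rw [Submodule.mkQ_apply, Submodule.mkQ_apply, Submodule.Quotient.eq, ← neg_mem_iff, neg_sub, ← hw]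
  obtain ⟨T, rfl⟩ := AdicCompletion.ofTensorProduct_surjective_of_finite K I w
  clear hw
  induction T using TensorProduct.induction_on with
  | zero => simp
  | add a b ha hb => simpa using add_mem ha hb
  | tmul a b =>
    have : AdicCompletion.map K I.subtype (AdicCompletion.ofTensorProduct K I (a ⊗ₜ b)) =
        (b : R) • a := by
      ext n
      simp only [AdicCompletion.map_val_apply, AdicCompletion.ofTensorProduct_tmul,
        AdicCompletion.of_apply, AdicCompletion.val_smul_apply]
      obtain ⟨a₀, ha₀⟩ := Submodule.Quotient.mk_surjective _ (a.val n)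
      show _ = (b : R) • a.val n
      simp only [AdicCompletion.smul_eval, ← ha₀]
      show Submodule.Quotient.mk (a₀ * (b : R)) = Submodule.Quotient.mk ((b : R) * a₀)
      rw [mul_comm]
    rw [this]
    exact Submodule.smul_mem_smul b.2 Submodule.mem_top

end Groth.Calg1
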