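import Groth.Agent.Calg4.Japanese

/-!
The normal locus is open; N-1 is local. Key fact: the obstructions live in `Ass (C / fC)`.
-/

set_option autoImplicit false
universe u

namespace Groth.Calg1

open Submodule

theorem isN1_of_finite_ic {A : Type u} [CommRing A] [IsDomain A] (L : Type u) [Field L] [Algebra A L]
    [IsFractionRing A L] (h : Module.Finite A (integralClosure A L)) : CAlg.IsN1 A :=
  Groth.Calg4.finite_ic_of_algEquiv _ (FractionRing.algEquiv A L).symm h

variable {R : Type u} [CommRing R] [IsNoetherianRing R]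

theorem associatedPrimes_quotient_pow_subset {C : Type u} [AddCommGroup C] [Module R C] (f : R)
    (hf : IsSMulRegular C f) (n : ℕ) :
    associatedPrimes R (C ⧸ Ideal.span {f ^ n} • (⊤ : Submodule R C)) ⊆
      associatedPrimes R (C ⧸ Ideal.span {f} • (⊤ : Submodule R C)) := by
  have hmem : ∀ (a : R) (x : C),
      x ∈ Ideal.span {a} • (⊤ : Submodule R C) ↔ ∃ y, a • y = x := fun a x => by
    rw [Submodule.ideal_span_singleton_smul, Submodule.mem_smul_pointwise_iff_exists]
    exact ⟨fun ⟨y, _, h⟩ => ⟨y, h⟩, fun ⟨y, h⟩ => ⟨y, trivial, h⟩⟩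
  induction n with
  | zero =>
    have : Subsingleton (C ⧸ Ideal.span {f ^ 0} • (⊤ : Submodule R C)) :=
      Submodule.Quotient.subsingleton_iff.mpr (by simp)
    rw [associatedPrimes.eq_empty_of_subsingleton]
    exact Set.empty_subset _
  | succ n ih =>
    let a : (C ⧸ Ideal.span {f} • (⊤ : Submodule R C)) →ₗ[R]
        C ⧸ Ideal.span {f ^ (n + 1)} • (⊤ : Submodule R C) :=
      Submodule.mapQ _ _ (LinearMap.lsmul R C (f ^ n)) (fun x hx => by
        obtain ⟨y, rfl⟩ := (hmem _ _).mp hx
        exact (hmem _ _).mpr ⟨y, by rw [LinearMap.lsmul_apply, smul_smul, pow_succ]⟩)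
    let b : (C ⧸ Ideal.span {f ^ (n + 1)} • (⊤ : Submodule R C)) →ₗ[R]
        C ⧸ Ideal.span {f ^ n} • (⊤ : Submodule R C) :=
      Submodule.mapQ _ _ LinearMap.id (fun x hx => by
        obtain ⟨y, rfl⟩ := (hmem _ _).mp hx
        exact (hmem _ _).mpr ⟨f • y, by rw [← mul_smul, ← pow_succ]⟩)
    have ha : Function.Injective a := by
      rw [injective_iff_map_eq_zero]
      intro x hx
      obtain ⟨x, rfl⟩ := Submodule.Quotient.mk_surjective _ x
      obtain ⟨y, hy⟩ := (hmem _ _).mp ((Submodule.Quotient.mk_eq_zero _).mp hx)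
      refine (Submodule.Quotient.mk_eq_zero _).mpr ((hmem _ _).mpr ⟨y, (hf.pow n) ?_⟩)
      simpa [pow_succ, mul_smul] using hy
    have hex : Function.Exact a b := by
      intro x
      obtain ⟨x, rfl⟩ := Submodule.Quotient.mk_surjective _ x
      constructor
      · intro hx
        obtain ⟨y, hy⟩ := (hmem _ _).mp ((Submodule.Quotient.mk_eq_zero _).mp hx)
        exact ⟨Submodule.Quotient.mk y, congrArg Submodule.Quotient.mk hy⟩
      · rintro ⟨y, hy⟩
        obtain ⟨y, rfl⟩ := Submodule.Quotient.mk_surjective _ y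
        rw [← hy]
        exact (Submodule.Quotient.mk_eq_zero _).mpr ((hmem _ _).mpr ⟨y, rfl⟩)
    exact (associatedPrimes.subset_union_of_exact ha hex).trans (Set.union_subset subset_rfl ih)

theorem exists_ass_between {M : Type u} [AddCommGroup M] [Module R M] (f : R)
    (hf : IsSMulRegular M f) (C : Submodule R M) (hC : C.FG) {z : M} {n : ℕ} (hz : f ^ n • z ∈ C)
    (p : Ideal R) [hp : p.IsPrime] (hle : C.colon {z} ≤ p) :
    ∃ q ∈ associatedPrimes R (C ⧸ Ideal.span {f} • (⊤ : Submodule R C)), C.colon {z} ≤ q ∧ q ≤ p := by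
  haveI : Module.Finite R C := Module.Finite.iff_fg.mpr hC
  set Q := C ⧸ Ideal.span {f ^ n} • (⊤ : Submodule R C)
  let y : Q := Submodule.Quotient.mk ⟨f ^ n • z, hz⟩
  have hann : Module.annihilator R (span R {y} : Submodule R Q) = C.colon {z} := by
    ext r
    rw [← Submodule.annihilator, Submodule.mem_annihilator_span_singleton, Submodule.mem_colon_singleton,
      ← Submodule.Quotient.mk_smul, Submodule.Quotient.mk_eq_zero, Submodule.ideal_span_singleton_smul,
      Submodule.mem_smul_pointwise_iff_exists]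
    constructor
    · rintro ⟨⟨w, hw⟩, -, e⟩
      have e' : f ^ n • w = f ^ n • (r • z) := by
        rw [smul_comm (f ^ n) r z]; exact congrArg Subtype.val e
      exact (hf.pow n) e' ▸ hw
    · exact fun h => ⟨⟨r • z, h⟩, trivial, Subtype.ext (smul_comm _ _ _)⟩
  obtain ⟨q, hq, hqp⟩ := Ideal.exists_minimalPrimes_le hle
  refine ⟨q, associatedPrimes_quotient_pow_subset f (fun a b h => Subtype.ext (hf (congrArg Subtype.val h))) n
    (associatedPrimes.subset_of_injective (f := (span R {y}).subtype) Subtype.val_injective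
      (Module.associatedPrimes.minimalPrimes_annihilator_subset_associatedPrimes R _ (hann ▸ hq))),
    hq.1.2, hqp⟩

theorem finite_associatedPrimes_quotient {M : Type u} [AddCommGroup M] [Module R M] (f : R)
    (C : Submodule R M) (hC : C.FG) :
    (associatedPrimes R (C ⧸ Ideal.span {f} • (⊤ : Submodule R C))).Finite := by
  haveI : Module.Finite R C := Module.Finite.iff_fg.mpr hC
  exact associatedPrimes.finite R _

variable [IsDomain R]

local notation "K" => FractionRing R

omit [IsNoetherianRing R] in
theorem isSMulRegular_fractionRing {f : R} (hf : f ≠ 0) : IsSMulRegular K f := fun a b h => by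
  simp only [Algebra.smul_def] at h
  exact mul_left_cancel₀ ((map_ne_zero_iff _ (IsFractionRing.injective R K)).mpr hf) h

omit [IsNoetherianRing R] in
theorem isIntegrallyClosed_atPrime_iff (p : Ideal R) [p.IsPrime] :
    IsIntegrallyClosed (Localization.AtPrime p) ↔
      ∀ z : K, IsIntegral R z → ¬ (1 : Submodule R K).colon {z} ≤ p := by
  constructor
  · intro h z hz hle
    obtain ⟨w, hw⟩ := (isIntegrallyClosed_iff (R := Localization.AtPrime p) K).mp h hz.tower_top
    obtain ⟨c, s, rfl⟩ := IsLocalization.exists_mk'_eq p.primeCompl w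
    refine s.2 (hle ?_)
    rw [Submodule.mem_colon_singleton, Submodule.mem_one]
    refine ⟨c, ?_⟩
    rw [← hw, Algebra.smul_def, IsScalarTower.algebraMap_apply R (Localization.AtPrime p) K (s : R),
      ← map_mul, IsLocalization.mk'_spec', ← IsScalarTower.algebraMap_apply]
  · intro h
    refine (isIntegrallyClosed_iff (R := Localization.AtPrime p) K).mpr fun {z} hz => ?_
    obtain ⟨s, hs⟩ := IsIntegral.exists_multiple_integral_of_isLocalization p.primeCompl z hz
    obtain ⟨t, ht, htp⟩ := SetLike.not_le_iff_exists.mp (h _ hs)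
    rw [Submodule.mem_colon_singleton, Submodule.mem_one] at ht
    obtain ⟨c, hc⟩ := ht
    refine ⟨IsLocalization.mk' (Localization.AtPrime p) c (⟨t, htp⟩ * s : p.primeCompl), ?_⟩
    have hts : algebraMap R K (t * s) ≠ 0 := (map_ne_zero_iff _ (IsFractionRing.injective R K)).mpr
      fun h0 => (p.primeCompl.mul_mem htp s.2) (h0 ▸ zero_mem p)
    refine mul_left_cancel₀ hts ?_
    have h1 : algebraMap R K (t * s) = algebraMap (Localization.AtPrime p) K
        (algebraMap R (Localization.AtPrime p) ((⟨t, htp⟩ * s : p.primeCompl) : R)) :=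
      IsScalarTower.algebraMap_apply R (Localization.AtPrime p) K (t * s)
    have h2 : algebraMap R K c = algebraMap R K (t * s) * z := by
      rw [hc, Submonoid.smul_def, smul_smul, Algebra.smul_def]
    rw [← h2, h1, ← map_mul, IsLocalization.mk'_spec', ← IsScalarTower.algebraMap_apply]

omit [IsNoetherianRing R] in
theorem exists_pow_smul_mem_one {f : R} (hf : f ≠ 0) (hn : IsIntegrallyClosed (Localization.Away f))
    {z : K} (hz : IsIntegral R z) : ∃ n : ℕ, f ^ n • z ∈ (1 : Submodule R K) := by
  have hu : IsUnit (algebraMap R K f) :=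
    isUnit_iff_ne_zero.mpr ((map_ne_zero_iff _ (IsFractionRing.injective R K)).mpr hf)
  let φ : Localization.Away f →+* K := IsLocalization.Away.lift f hu
  letI : Algebra (Localization.Away f) K := φ.toAlgebra
  haveI : IsScalarTower R (Localization.Away f) K :=
    IsScalarTower.of_algebraMap_eq fun x => (IsLocalization.Away.lift_eq f hu x).symm
  haveI : IsDomain (Localization.Away f) := IsLocalization.isDomain_localization
    (powers_le_nonZeroDivisors_of_noZeroDivisors hf)
  haveI : FaithfulSMul (Localization.Away f) K := (faithfulSMul_iff_algebraMap_injective _ K).mpr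
    (IsLocalization.lift_injective_iff _ |>.mpr fun a b => by
      constructor
      · intro h; exact congrArg _ (IsLocalization.injective (Localization.Away f)
          (powers_le_nonZeroDivisors_of_noZeroDivisors hf) h)
      · intro h; exact congrArg _ (IsFractionRing.injective R K h))
  haveI : IsFractionRing (Localization.Away f) K :=
    Groth.Calg4.isFractionRing_of_range R (Localization.Away f) K fun a =>
      ⟨algebraMap R _ a, (IsScalarTower.algebraMap_apply R (Localization.Away f) K a).symm⟩
  obtain ⟨w, hw⟩ := (isIntegrallyClosed_iff (R := Localization.Away f) K).mp hn hz.tower_top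
  obtain ⟨c, ⟨_, n, rfl⟩, rfl⟩ := IsLocalization.exists_mk'_eq (Submonoid.powers f) w
  refine ⟨n, Submodule.mem_one.mpr ⟨c, ?_⟩⟩
  rw [← hw, Algebra.smul_def, IsScalarTower.algebraMap_apply R (Localization.Away f) K (f ^ n),
    ← map_mul, IsLocalization.mk'_spec' (Localization.Away f) c (⟨f ^ n, n, rfl⟩ : Submonoid.powers f),
    ← IsScalarTower.algebraMap_apply]

omit [IsNoetherianRing R] in
theorem fg_one : (1 : Submodule R K).FG := by
  rw [Submodule.one_eq_span]
  exact Submodule.fg_span_singleton _

theorem isOpen_normalLocus (f : R) (hf : f ≠ 0) (hn : IsIntegrallyClosed (Localization.Away f)) :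
    IsOpen {p : PrimeSpectrum R | IsIntegrallyClosed (Localization.AtPrime p.asIdeal)} := by
  let C : Submodule R K := 1
  let Bad : Set (Ideal R) := {q | q ∈ associatedPrimes R (C ⧸ Ideal.span {f} • (⊤ : Submodule R C)) ∧
    ∃ z : K, IsIntegral R z ∧ C.colon {z} ≤ q}
  have hBad : Bad.Finite := (finite_associatedPrimes_quotient f C fg_one).subset fun q hq => hq.1
  have heq : {p : PrimeSpectrum R | IsIntegrallyClosed (Localization.AtPrime p.asIdeal)}ᶜ =
      ⋃ q ∈ Bad, PrimeSpectrum.zeroLocus (q : Set R) := by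
    ext p
    simp only [Set.mem_compl_iff, Set.mem_ofPred_eq, isIntegrallyClosed_atPrime_iff, not_forall,
      not_not, Set.mem_iUnion, PrimeSpectrum.mem_zeroLocus, SetLike.coe_subset_coe, exists_prop]
    constructor
    · rintro ⟨z, hz, hle⟩
      obtain ⟨n, hn'⟩ := exists_pow_smul_mem_one hf hn hz
      obtain ⟨q, hq, h1, h2⟩ := exists_ass_between f (isSMulRegular_fractionRing hf) C fg_one hn'
        p.asIdeal hle
      exact ⟨q, ⟨hq, z, hz, h1⟩, h2⟩
    · rintro ⟨q, ⟨-, z, hz, hle⟩, hqp⟩
      exact ⟨z, hz, hle.trans hqp⟩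
  rw [← isClosed_compl_iff, heq]
  exact hBad.isClosed_biUnion fun q _ => PrimeSpectrum.isClosed_zeroLocus _

theorem exists_fgAway (f : R) (hf : f ≠ 0) (hn : IsIntegrallyClosed (Localization.Away f))
    (m : Ideal R) [m.IsPrime] (hm : Module.Finite (Localization.AtPrime m)
      (integralClosure (Localization.AtPrime m) K)) :
    ∃ r ∉ m, Groth.Calg4.FGAway R K r := by
  classical
  obtain ⟨G, hG, hGs⟩ := (Groth.Calg4.finite_ic_iff (Localization.AtPrime m) K).mp hm
  have hint : ∀ g ∈ G, ∃ s : m.primeCompl, IsIntegral R (s • g) := fun g hg =>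
    IsIntegral.exists_multiple_integral_of_isLocalization m.primeCompl g
      ((hGs g).mpr (Submodule.subset_span hg))
  choose! s hs using hint
  let T : Set K := (fun g => s g • g) '' G
  let A := Algebra.adjoin R T
  have hT : T.Finite := hG.image _
  have hTi : ∀ t ∈ T, IsIntegral R t := by rintro _ ⟨g, hg, rfl⟩; exact hs g hg
  have hA : A.toSubmodule.FG := fg_adjoin_of_finite hT hTi
  let C : Submodule R K := A.toSubmodule
  have hgood : ∀ z : K, IsIntegral R z → ¬ C.colon {z} ≤ m := by
    intro z hz hle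
    have hz' : z ∈ Submodule.span (Localization.AtPrime m) G := (hGs z).mp hz.tower_top
    suffices h : ∀ x ∈ Submodule.span (Localization.AtPrime m) G, ∃ t ∉ m, t • x ∈ C by
      obtain ⟨t, ht, htz⟩ := h z hz'
      exact ht (hle (Submodule.mem_colon_singleton.mpr htz))
    intro x hx
    induction hx using Submodule.span_induction with
    | mem g hg => exact ⟨s g, (s g).2, Algebra.subset_adjoin ⟨g, hg, rfl⟩⟩
    | zero => exact ⟨1, m.primeCompl.one_mem, by rw [smul_zero]; exact C.zero_mem⟩
    | add a b _ _ ha hb =>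
      obtain ⟨t, ht, hta⟩ := ha
      obtain ⟨t', ht', htb⟩ := hb
      refine ⟨t * t', m.primeCompl.mul_mem ht ht', ?_⟩
      rw [smul_add]
      refine C.add_mem ?_ ?_
      · rw [mul_comm, mul_smul]; exact C.smul_mem _ hta
      · rw [mul_smul]; exact C.smul_mem _ htb
    | smul c a _ ha =>
      obtain ⟨t, ht, hta⟩ := ha
      obtain ⟨⟨r, u⟩, hu⟩ := IsLocalization.surj m.primeCompl c
      refine ⟨t * u, m.primeCompl.mul_mem ht u.2, ?_⟩
      have : (t * (u : R)) • c • a = r • t • a := by
        rw [← IsScalarTower.algebraMap_smul (Localization.AtPrime m) r (t • a), ← hu,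
          mul_smul, ← IsScalarTower.algebraMap_smul (Localization.AtPrime m) (u : R) (c • a),
          smul_smul, mul_comm, ← smul_comm]
      exact this ▸ C.smul_mem _ hta
  let Bad : Set (Ideal R) := {q | q ∈ associatedPrimes R (C ⧸ Ideal.span {f} • (⊤ : Submodule R C)) ∧
    ∃ z : K, IsIntegral R z ∧ C.colon {z} ≤ q}
  have hBad : Bad.Finite := (finite_associatedPrimes_quotient f C hA).subset fun q hq => hq.1
  have hq : ∀ q ∈ Bad, ∃ a ∈ q, a ∉ m := fun q hq => SetLike.not_le_iff_exists.mp fun hqm => by
    obtain ⟨z, hz, hle⟩ := hq.2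
    exact hgood z hz (hle.trans hqm)
  choose! a haq ham using hq
  let r := ∏ q ∈ hBad.toFinset, a q
  have hr : r ∉ m := fun h => by
    obtain ⟨q, hq, hqm⟩ := Ideal.IsPrime.prod_mem_iff.mp h
    exact ham q (hBad.mem_toFinset.mp hq) hqm
  obtain ⟨G', hG'⟩ := hA
  refine ⟨r, hr, G', G'.finite_toSet, fun t ht => ?_, fun x hx => ?_⟩
  · have htA : t ∈ A.toSubmodule := hG' ▸ Submodule.subset_span ht
    exact (Algebra.adjoin_le (S := integralClosure R K) hTi) htA
  · rw [hG']
    suffices r ∈ (C.colon {x}).radical by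
      obtain ⟨k, hk⟩ := this
      exact ⟨k, Submodule.mem_colon_singleton.mp hk⟩
    rw [Ideal.radical_eq_sInf, Ideal.mem_sInf]
    rintro p ⟨hle, hp⟩
    obtain ⟨n, hn'⟩ := exists_pow_smul_mem_one hf hn hx
    have hnC : f ^ n • x ∈ C := by
      obtain ⟨c, hc⟩ := Submodule.mem_one.mp hn'
      rw [← hc]; exact A.algebraMap_mem c
    haveI := hp
    obtain ⟨q, hq, h1, h2⟩ := exists_ass_between f (isSMulRegular_fractionRing hf) C ⟨G', hG'⟩ hnC p hle
    have hqB : q ∈ Bad := ⟨hq, x, hx, h1⟩
    refine h2 ?_
    obtain ⟨c, hc⟩ := Finset.dvd_prod_of_mem a (hBad.mem_toFinset.mpr hqB)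
    show r ∈ q
    rw [show r = a q * c from hc]
    exact q.mul_mem_right _ (haq q hqB)

theorem isN1_iff :
    CAlg.IsN1 R ↔ ((∃ f : R, f ≠ 0 ∧ IsIntegrallyClosed (Localization.Away f)) ∧
      ∀ (m : Ideal R) [m.IsMaximal], CAlg.IsN1 (Localization.AtPrime m)) := by
  classical
  constructor
  · intro h
    refine ⟨?_, fun m _ => ?_⟩
    · obtain ⟨T, hT, hTs⟩ := (Groth.Calg4.finite_ic_iff R K).mp h
      obtain ⟨b, hb⟩ := IsLocalization.exist_integer_multiples_of_finset (nonZeroDivisors R) hT.toFinset
      refine ⟨b, nonZeroDivisors.ne_zero b.2, ?_⟩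
      set S := Localization.Away (b : R)
      have hu : IsUnit (algebraMap R K (b : R)) := IsLocalization.map_units K b
      letI : Algebra S K := (IsLocalization.Away.lift (b : R) hu).toAlgebra
      haveI : IsScalarTower R S K :=
        IsScalarTower.of_algebraMap_eq fun x => (IsLocalization.Away.lift_eq (b : R) hu x).symm
      haveI : IsDomain S := IsLocalization.isDomain_localization
        (powers_le_nonZeroDivisors_of_noZeroDivisors (nonZeroDivisors.ne_zero b.2))
      haveI : FaithfulSMul S K := (faithfulSMul_iff_algebraMap_injective _ K).mpr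
        (IsLocalization.lift_injective_iff _ |>.mpr fun x y => by
          constructor
          · intro h; exact congrArg _ (IsLocalization.injective S
              (powers_le_nonZeroDivisors_of_noZeroDivisors (nonZeroDivisors.ne_zero b.2)) h)
          · intro h; exact congrArg _ (IsFractionRing.injective R K h))
      haveI : IsFractionRing S K := Groth.Calg4.isFractionRing_of_range R S K fun a =>
        ⟨algebraMap R _ a, (IsScalarTower.algebraMap_apply R S K a).symm⟩
      refine (isIntegrallyClosed_iff K).mpr fun {z} hz => ?_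
      obtain ⟨⟨_, k, rfl⟩, hk⟩ :=
        IsIntegral.exists_multiple_integral_of_isLocalization (Submonoid.powers (b : R)) z hz
      have hbT : ∀ x ∈ Submodule.span R T, ∃ c, algebraMap R K c = (b : R) • x := by
        intro x hx
        induction hx using Submodule.span_induction with
        | mem t ht =>
          obtain ⟨c, hc⟩ := hb t (hT.mem_toFinset.mpr ht)
          exact ⟨c, hc⟩
        | zero => exact ⟨0, by simp⟩
        | add x y _ _ hx hy =>
          obtain ⟨c, hc⟩ := hx
          obtain ⟨d, hd⟩ := hy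
          exact ⟨c + d, by rw [map_add, hc, hd, smul_add]⟩
        | smul r x _ hx =>
          obtain ⟨c, hc⟩ := hx
          exact ⟨r * c, by rw [map_mul, hc, ← Algebra.smul_def, smul_comm]⟩
      obtain ⟨c, hc⟩ := hbT _ ((hTs _).mp hk)
      refine ⟨IsLocalization.mk' S c (⟨(b : R) ^ (k + 1), k + 1, rfl⟩ : Submonoid.powers (b : R)), ?_⟩
      apply mul_left_cancel₀ (pow_ne_zero (k + 1) hu.ne_zero)
      rw [← map_pow, IsScalarTower.algebraMap_apply R S K, ← map_mul,
        IsLocalization.mk'_spec' S c (⟨(b : R) ^ (k + 1), k + 1, rfl⟩ : Submonoid.powers (b : R)),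
        ← IsScalarTower.algebraMap_apply, hc, ← IsScalarTower.algebraMap_apply, pow_succ', map_mul,
        mul_assoc, Submonoid.smul_def, Algebra.smul_def, Algebra.smul_def]
    · haveI : IsDomain (Localization.AtPrime m) :=
        IsLocalization.isDomain_localization m.primeCompl_le_nonZeroDivisors
      exact isN1_of_finite_ic (A := Localization.AtPrime m) K
        (Groth.Calg4.finite_ic_of_isLocalization m.primeCompl (Localization.AtPrime m) K h)
  · rintro ⟨⟨f, hf, hn⟩, hloc⟩
    let S : Set R := {r | Groth.Calg4.FGAway R K r}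
    have htop : Ideal.span S = ⊤ := by
      by_contra hne
      obtain ⟨m, hm, hle⟩ := Ideal.exists_le_maximal _ hne
      obtain ⟨r, hr, hfg⟩ := exists_fgAway f hf hn m (Groth.Calg4.finite_ic_of_isN1 (hloc m) K)
      exact hr (hle (Ideal.subset_span hfg))
    obtain ⟨t, htS, ht⟩ := (Ideal.span_eq_top_iff_finite S).mp htop
    exact Groth.Calg4.finite_ic_of_span (fun i : t => (i : R))
      (by rw [Subtype.range_coe_subtype]; simpa using ht) fun i => Or.inr (htS i.2)

end Groth.Calg1
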