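import Groth.Agent.Calg1.Tate
import Groth.Agent.Calg1.NormalLocus

/-!
Polynomial rings over N-1 / N-2 domains are N-1 / N-2.
-/

set_option autoImplicit false
universe u

namespace Groth.Calg1

open Polynomial

variable {R : Type u} [CommRing R] [IsDomain R] [IsNoetherianRing R]

/-- If `R[X]` maps to a finite normal domain `B` and `L` embeds in its fraction field compatibly,
the integral closure of `R[X]` in `L` is finite. -/
theorem finite_ic_of_embedding {A B L M : Type u} [CommRing A] [IsNoetherianRing A] [CommRing B]
    [IsDomain B] [IsIntegrallyClosed B] [Algebra A B] [Module.Finite A B] [Field L] [Algebra A L]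
    [Field M] [Algebra B M] [IsFractionRing B M] (f : L →+* M)
    (hf : ∀ a, f (algebraMap A L a) = algebraMap B M (algebraMap A B a)) :
    Module.Finite A (integralClosure A L) := by
  letI : Algebra A M := ((algebraMap B M).comp (algebraMap A B)).toAlgebra
  haveI : IsScalarTower A B M := IsScalarTower.of_algebraMap_eq' rfl
  let g : L →ₐ[A] M := { f with commutes' := hf }
  have hex : ∀ z : integralClosure A L, ∃ b : B, algebraMap B M b = g z := fun z =>
    IsIntegrallyClosed.algebraMap_eq_of_integral ((z.2.map g).tower_top)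
  choose b hb using hex
  have hinj := IsFractionRing.injective B M
  let l : integralClosure A L →ₗ[A] B :=
    { toFun := b
      map_add' := fun z w => hinj (by rw [map_add, hb, hb, hb]; exact map_add g _ _)
      map_smul' := fun r z => hinj (by
        rw [RingHom.id_apply, hb, Algebra.smul_def, Algebra.smul_def, map_mul, hb, ←
          IsScalarTower.algebraMap_apply]
        show g (algebraMap A L r * (z : L)) = _
        rw [map_mul, g.commutes]) }
  haveI : IsNoetherian A B := isNoetherian_of_isNoetherianRing_of_finite A B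
  exact Module.Finite.of_injective l fun z w h => Subtype.ext (g.toRingHom.injective
    ((hb z).symm.trans ((congrArg _ h).trans (hb w))))

/-- Root extraction: `L` purely inseparable with `φ z = z ^ Q` maps to any field in which the images of
`φ` of a basis are `Q`-th powers. -/
theorem exists_root_hom {K L M : Type u} [Field K] [Field L] [Field M] [Algebra K L]
    [FiniteDimensional K L] (q e : ℕ) [ExpChar M q] (φ : L →+* K)
    (hφ : ∀ z, algebraMap K L (φ z) = z ^ q ^ e) (ι : K →+* M) {n : Type u} [Fintype n]
    (b : Module.Basis n K L) (w : n → M) (hw : ∀ i, w i ^ q ^ e = ι (φ (b i))) :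
    ∃ f : L →+* M, ∀ a, f (algebraMap K L a) = ι a := by
  have hinj : ∀ x y : M, x ^ q ^ e = y ^ q ^ e → x = y := fun x y h =>
    iterateFrobenius_inj M q e (by simpa [iterateFrobenius_def] using h)
  have hφK : ∀ a, φ (algebraMap K L a) = a ^ q ^ e := fun a =>
    (algebraMap K L).injective (by rw [hφ, map_pow])
  have hex : ∀ z : L, ∃ m : M, m ^ q ^ e = ι (φ z) := fun z => by
    refine ⟨∑ i, ι (b.repr z i) * w i, ?_⟩
    rw [← iterateFrobenius_def, map_sum]
    conv_rhs => rw [← b.sum_repr z, map_sum, map_sum]
    refine Finset.sum_congr rfl fun i _ => ?_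
    rw [iterateFrobenius_def, mul_pow, hw, Algebra.smul_def, map_mul, map_mul, hφK, map_pow]
  choose f hf using hex
  refine ⟨{ toFun := f, map_one' := ?_, map_mul' := ?_, map_zero' := ?_, map_add' := ?_ }, fun a => ?_⟩
  · exact hinj _ _ (by rw [hf]; simp)
  · exact fun x y => hinj _ _ (by rw [mul_pow, hf, hf, hf, map_mul, map_mul])
  · exact hinj _ _ (by rw [hf, map_zero, map_zero, zero_pow (pow_ne_zero e (expChar_pos M q).ne')])
  · exact fun x y => hinj _ _ (by rw [hf, add_pow_expChar_pow, hf, hf, map_add, map_add])
  · exact hinj _ _ (by show f _ ^ _ = _; rw [hf, hφK, map_pow])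

theorem finite_mvAlgebra {R' : Type u} [CommRing R'] [Algebra R R'] [Module.Finite R R'] (Q : ℕ)
    (hQ : 0 < Q) [Algebra R[X] R'[X]]
    (hmap : ∀ r, algebraMap R[X] R'[X] (C r) = C (algebraMap R R' r))
    (hX : algebraMap R[X] R'[X] X = X ^ Q) : Module.Finite R[X] R'[X] := by
  haveI : IsScalarTower R R[X] R'[X] := IsScalarTower.of_algebraMap_eq fun r => by
    rw [Polynomial.algebraMap_eq, hmap]; rfl
  haveI : Algebra.FiniteType R R'[X] :=
    Algebra.FiniteType.trans (inferInstance : Algebra.FiniteType R R') (inferInstance : Algebra.FiniteType R' R'[X])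
  haveI : Algebra.FiniteType R[X] R'[X] := Algebra.FiniteType.of_restrictScalars_finiteType R R[X] R'[X]
  haveI : Algebra.IsIntegral R[X] R'[X] := ⟨fun P => by
    induction P using Polynomial.induction_on with
    | C a => exact ((Algebra.IsIntegral.isIntegral (R := R) a).map (IsScalarTower.toAlgHom R R' R'[X])).tower_top
    | add p q hp hq => exact hp.add hq
    | monomial n a ih =>
      rw [pow_succ, ← mul_assoc]
      refine ih.mul (IsIntegral.of_pow hQ ?_)
      rw [← hX]
      exact isIntegral_algebraMap⟩
  exact Algebra.IsIntegral.finite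

/-- `R[X] → R'[X]`, `X ↦ X ^ Q`. -/
noncomputable def expandMap (R : Type u) [CommRing R] (R' : Type u) [CommRing R'] [Algebra R R'] (Q : ℕ) :
    R[X] →+* R'[X] :=
  eval₂RingHom ((C : R' →+* R'[X]).comp (algebraMap R R')) (X ^ Q)

omit [IsDomain R] [IsNoetherianRing R] in
theorem expandMap_injective {R' : Type u} [CommRing R'] [Algebra R R']
    (hinj : Function.Injective (algebraMap R R')) {Q : ℕ} (hQ : 0 < Q) :
    Function.Injective (expandMap R R' Q) := by
  rw [injective_iff_map_eq_zero]
  intro F hF
  have : expandMap R R' Q F = expand R' Q (F.map (algebraMap R R')) := by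
    rw [expandMap, coe_eval₂RingHom, expand_eq_comp_X_pow, comp, eval₂_map]
  rw [this, expand_eq_zero hQ, Polynomial.map_eq_zero_iff hinj] at hF
  exact hF

theorem isN1_polynomial (h : CAlg.IsN1 R) : CAlg.IsN1 R[X] := by
  set K := FractionRing R
  set R' := integralClosure R K
  haveI : Module.Finite R R' := h
  haveI : IsIntegrallyClosed R' := integralClosure.isIntegrallyClosedOfFiniteExtension K
  letI : Algebra R[X] R'[X] := (expandMap R R' 1).toAlgebra
  haveI := finite_mvAlgebra (R := R) (R' := R') 1 one_pos (fun r => eval₂_C _ _) (eval₂_X _ _)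
  have hinj : Function.Injective ((algebraMap R'[X] (FractionRing R'[X])).comp (algebraMap R[X] R'[X])) :=
    (IsFractionRing.injective R'[X] (FractionRing R'[X])).comp
      (expandMap_injective (FaithfulSMul.algebraMap_injective R R') one_pos)
  exact finite_ic_of_embedding (B := R'[X]) (IsFractionRing.lift (K := FractionRing R[X]) hinj)
    fun a => IsFractionRing.lift_algebraMap hinj a

theorem isN2_polynomial (h : CAlg.IsN2 R) : CAlg.IsN2 R[X] := by
  classical
  intro L _ _ _ _ hfin
  refine Groth.Calg2.N2Insep.finite_of_purelyInseparable R[X] (fun L _ _ _ _ _ _ => ?_) L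
  set K := FractionRing R
  obtain ⟨q, e, φ, hq, hq0, hφ⟩ := exists_frobenius_pow (FractionRing R[X]) L
  let b := Module.Free.chooseBasis (FractionRing R[X]) L
  have hnum : ∀ i, ∃ P D : R[X], D ≠ 0 ∧
      φ (b i) = algebraMap R[X] (FractionRing R[X]) P / algebraMap R[X] (FractionRing R[X]) D := fun i => by
    obtain ⟨P, D, hD, he⟩ := IsFractionRing.div_surjective (A := R[X]) (φ (b i))
    exact ⟨P, D, nonZeroDivisors.ne_zero hD, he.symm⟩
  choose P D hD hPD using hnum
  let coeffs : Finset R := Finset.univ.biUnion fun i => (P i).coeffs ∪ (D i).coeffs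
  let Ω := AlgebraicClosure K
  haveI : ExpChar R q := RingHom.expChar
    ((algebraMap R[X] (FractionRing R[X])).comp (C : R →+* R[X]))
    ((IsFractionRing.injective R[X] (FractionRing R[X])).comp C_injective) q
  haveI : ExpChar K q := expChar_of_injective_ringHom (IsFractionRing.injective R K) q
  choose root hroot using fun c : R =>
    IsAlgClosed.exists_pow_nat_eq (algebraMap R Ω c) (pow_pos hq0 e)
  let K' := IntermediateField.adjoin K (root '' (coeffs : Set R))
  haveI : FiniteDimensional K K' := by
    haveI : Finite (root '' (coeffs : Set R)) := (coeffs.finite_toSet.image root).to_subtype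
    exact IntermediateField.finiteDimensional_adjoin fun x _ => Algebra.IsIntegral.isIntegral x
  set R' := integralClosure R K'
  have hRK' : Function.Injective (algebraMap R K') := by
    rw [IsScalarTower.algebraMap_eq R K K']
    exact (algebraMap K K').injective.comp (IsFractionRing.injective R K)
  haveI : FaithfulSMul R R' := (faithfulSMul_iff_algebraMap_injective R R').mpr fun a b hab =>
    hRK' (congrArg Subtype.val hab)
  haveI : Module.Finite R R' := Groth.Calg4.finite_ic_of_isN2 h K K'
  haveI : IsIntegrallyClosed R' := integralClosure.isIntegrallyClosedOfFiniteExtension K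
  haveI : IsFractionRing R' K' := integralClosure.isFractionRing_of_finite_extension K K'
  letI alg : Algebra R[X] R'[X] := (expandMap R R' (q ^ e)).toAlgebra
  have hmap : ∀ r, algebraMap R[X] R'[X] (C r) = C (algebraMap R R' r) := fun r => eval₂_C _ _
  have hX : algebraMap R[X] R'[X] X = X ^ q ^ e := eval₂_X _ _
  haveI := finite_mvAlgebra (R := R) (q ^ e) (pow_pos hq0 e) hmap hX
  haveI : ExpChar R' q := expChar_of_injective_ringHom (FaithfulSMul.algebraMap_injective R R') q
  set M := FractionRing R'[X]
  let gM : R'[X] →+* M := algebraMap R'[X] M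
  haveI : ExpChar M q := expChar_of_injective_ringHom (f := gM.comp C)
    ((IsFractionRing.injective R'[X] M).comp C_injective) q
  haveI : ExpChar R'[X] q := expChar_of_injective_ringHom (f := (C : R' →+* R'[X])) C_injective q
  have hinj : Function.Injective (gM.comp (algebraMap R[X] R'[X])) :=
    (IsFractionRing.injective R'[X] M).comp
      (expandMap_injective (FaithfulSMul.algebraMap_injective R R') (pow_pos hq0 e))
  let ι : FractionRing R[X] →+* M := IsFractionRing.lift hinj
  have hι : ∀ a, ι (algebraMap R[X] _ a) = gM (algebraMap R[X] R'[X] a) :=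
    IsFractionRing.lift_algebraMap hinj
  have hpow : ∀ F : R[X], (∀ c ∈ F.coeffs, c ∈ coeffs) →
      ∃ m : M, m ^ q ^ e = gM (algebraMap R[X] R'[X] F) := by
    intro F hF
    have hmem : ∀ n ∈ F.support, ∃ r : R', r ^ q ^ e = algebraMap R R' (F.coeff n) := fun n hn => by
      have hc : F.coeff n ∈ coeffs := hF _ (Polynomial.coeff_mem_coeffs (mem_support_iff.mp hn))
      have hk : root (F.coeff n) ∈ K' :=
        IntermediateField.subset_adjoin _ _ ⟨_, hc, rfl⟩
      have hint : IsIntegral R (⟨_, hk⟩ : K') := IsIntegral.of_pow (pow_pos hq0 e) (by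
        rw [show (⟨_, hk⟩ : K') ^ q ^ e = algebraMap R K' (F.coeff n) from Subtype.ext (hroot _)]
        exact isIntegral_algebraMap)
      exact ⟨⟨_, hint⟩, Subtype.ext (Subtype.ext (hroot _))⟩
    choose! r hr using hmem
    refine ⟨gM (∑ n ∈ F.support, monomial n (r n)), ?_⟩
    rw [← map_pow]
    congr 1
    rw [← iterateFrobenius_def, map_sum]
    conv_rhs => rw [F.as_sum_support, map_sum]
    refine Finset.sum_congr rfl fun n hn => ?_
    rw [iterateFrobenius_def, monomial_pow, hr n hn, RingHom.algebraMap_toAlgebra, expandMap,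
      coe_eval₂RingHom, eval₂_monomial, RingHom.comp_apply, ← pow_mul, C_mul_X_pow_eq_monomial, mul_comm]
  have hw : ∀ i, ∃ m : M, m ^ q ^ e = ι (φ (b i)) := fun i => by
    obtain ⟨u, hu⟩ := hpow (P i) fun c hc =>
      Finset.mem_biUnion.mpr ⟨i, Finset.mem_univ _, Finset.mem_union_left _ hc⟩
    obtain ⟨v, hv⟩ := hpow (D i) fun c hc =>
      Finset.mem_biUnion.mpr ⟨i, Finset.mem_univ _, Finset.mem_union_right _ hc⟩
    exact ⟨u / v, by rw [div_pow, hu, hv, hPD, map_div₀, hι, hι]⟩
  choose w hw using hw
  obtain ⟨f, hf⟩ := exists_root_hom q e φ hφ ι b w hw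
  refine finite_ic_of_embedding (B := R'[X]) f fun a => ?_
  rw [IsScalarTower.algebraMap_apply R[X] (FractionRing R[X]) L, hf, hι]

end Groth.Calg1
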