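import Mathlib
import Groth.Prelude.Def_Found
import Groth.Agent.Calg4.Japanese

/-!
Finite extensions of Japanese domains and finite algebras over Nagata rings.
-/

set_option autoImplicit false

universe u

namespace Groth.Calg1

/-- The fraction field of a finite extension domain is a finite extension. -/
theorem finiteDimensional_fractionRing {A B : Type u} [CommRing A] [IsDomain A] [CommRing B]
    [IsDomain B] [Algebra A B] [Module.Finite A B] (K F : Type u) [Field K] [Algebra A K]
    [IsFractionRing A K] [Field F] [Algebra B F] [IsFractionRing B F] [Algebra A F]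
    [IsScalarTower A B F] [Algebra K F] [IsScalarTower A K F] : FiniteDimensional K F := by
  obtain ⟨s, hs⟩ := Module.Finite.fg_top (R := A) (M := B)
  let T : Set F := algebraMap B F '' (s : Set B)
  haveI : Finite T := (s.finite_toSet.image _).to_subtype
  have hint : ∀ x ∈ T, IsIntegral K x := by
    rintro _ ⟨b, -, rfl⟩
    exact ((Algebra.IsIntegral.isIntegral (R := A) b).map (IsScalarTower.toAlgHom A B F)).tower_top
  haveI : FiniteDimensional K (IntermediateField.adjoin K T) :=
    IntermediateField.finiteDimensional_adjoin hint
  have hb : ∀ b : B, algebraMap B F b ∈ IntermediateField.adjoin K T := by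
    intro b
    have hb : b ∈ Submodule.span A (s : Set B) := hs ▸ Submodule.mem_top
    induction hb using Submodule.span_induction with
    | mem x hx => exact IntermediateField.subset_adjoin K T ⟨x, hx, rfl⟩
    | zero => rw [map_zero]; exact zero_mem _
    | add x y _ _ hx hy => rw [map_add]; exact add_mem hx hy
    | smul a x _ hx =>
      rw [Algebra.smul_def, map_mul, ← IsScalarTower.algebraMap_apply, IsScalarTower.algebraMap_apply A K F]
      exact mul_mem (IntermediateField.algebraMap_mem _ _) hx
  have htop : IntermediateField.adjoin K T = ⊤ := by
    refine eq_top_iff.2 fun z _ => ?_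
    obtain ⟨b, c, -, rfl⟩ := IsFractionRing.div_surjective B z
    exact div_mem (hb b) (hb c)
  exact ((IntermediateField.equivOfEq htop).trans IntermediateField.topEquiv).toLinearEquiv.finiteDimensional

/-- A finite extension of a Japanese domain is Japanese. -/
theorem isN2_of_finite {A B : Type u} [CommRing A] [IsDomain A] [CommRing B] [IsDomain B]
    [IsNoetherianRing A] [Algebra A B] [Module.Finite A B]
    (hinj : Function.Injective (algebraMap A B)) (h : CAlg.IsN2 A) : CAlg.IsN2 B := by
  intro L _ _ _ _ hfin
  let K := FractionRing A
  let F := FractionRing B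
  haveI : FaithfulSMul A F := (faithfulSMul_iff_algebraMap_injective A F).mpr
    ((IsFractionRing.injective B F).comp hinj)
  letI : Algebra K F := FractionRing.liftAlgebra A F
  haveI : FiniteDimensional K F := finiteDimensional_fractionRing K F (A := A) (B := B)
  letI : Algebra K L := ((algebraMap F L).comp (algebraMap K F)).toAlgebra
  letI : Algebra A L := ((algebraMap B L).comp (algebraMap A B)).toAlgebra
  haveI : IsScalarTower A B L := IsScalarTower.of_algebraMap_eq' rfl
  haveI : IsScalarTower K F L := IsScalarTower.of_algebraMap_eq' rfl
  haveI : IsScalarTower A K L := IsScalarTower.of_algebraMap_eq fun a => by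
    change algebraMap B L (algebraMap A B a) = algebraMap F L (algebraMap K F (algebraMap A K a))
    rw [← IsScalarTower.algebraMap_apply A K F, IsScalarTower.algebraMap_apply A B F,
      ← IsScalarTower.algebraMap_apply B F L]
  haveI : FiniteDimensional K L := Module.Finite.trans F L
  obtain ⟨T, hT, hTs⟩ := (Groth.Calg4.finite_ic_iff A L).mp (Groth.Calg4.finite_ic_of_isN2 h K L)
  refine (Groth.Calg4.finite_ic_iff B L).mpr ⟨T, hT, fun x => ⟨fun hx => ?_, fun hx => ?_⟩⟩
  · exact Submodule.span_le_restrictScalars A B T ((hTs x).mp (isIntegral_trans x hx))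
  · induction hx using Submodule.span_induction with
    | mem t ht => exact ((hTs t).mpr (Submodule.subset_span ht)).tower_top
    | zero => exact isIntegral_zero
    | add a b _ _ ha hb => exact ha.add hb
    | smul r a _ ha => exact ha.smul r

/-- A finite algebra over a Nagata ring is Nagata. -/
theorem isNagata_of_finite {R S : Type u} [CommRing R] [CommRing S] [Algebra R S] [Module.Finite R S]
    (h : CAlg.IsNagata R) : CAlg.IsNagata S := by
  haveI := h.1
  refine ⟨IsNoetherianRing.of_finite R S, fun q _ => ?_⟩
  haveI : Module.Finite (R ⧸ q.comap (algebraMap R S)) (S ⧸ q) :=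
    Module.Finite.of_restrictScalars_finite R _ _
  exact isN2_of_finite (A := R ⧸ q.comap (algebraMap R S)) Ideal.algebraMap_quotient_injective (h.2 _)

/-- Quotients of Nagata rings are Nagata. -/
theorem isNagata_of_surjective {R S : Type u} [CommRing R] [CommRing S] (f : R →+* S)
    (hf : Function.Surjective f) (h : CAlg.IsNagata R) : CAlg.IsNagata S := by
  letI := f.toAlgebra
  haveI : Module.Finite R S := Module.Finite.of_surjective (Algebra.linearMap R S) hf
  exact isNagata_of_finite h

end Groth.Calg1
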