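import Groth.Agent.Calg4.Japanese
import Groth.Agent.Calg1.Completion
import Groth.Agent.Calg2.N2Insep

/-!
Tate's lemma: integral closure of a complete normal domain in a purely inseparable extension.
-/

set_option autoImplicit false
universe u

namespace Groth.Calg1

open Submodule

/-- A domain integral over a Noetherian N-2 domain, of finite rank, is finite. -/
theorem finite_of_isN2_of_rank_le {A : Type u} [CommRing A] [IsDomain A] [IsNoetherianRing A]
    (h2 : CAlg.IsN2 A) (B : Type u) [CommRing B] [IsDomain B] [Algebra A B] [FaithfulSMul A B]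
    [Algebra.IsIntegral A B] (n : ℕ) (hrank : Module.rank A B ≤ n) : Module.Finite A B := by
  let k := FractionRing A
  let F := FractionRing B
  letI : Algebra k F := FractionRing.liftAlgebra A F
  haveI : IsScalarTower A k F := inferInstance
  have h1 : Module.rank k F = Module.rank A B := by
    have := (IsLocalizedModule.isBaseChange (nonZeroDivisors A) k
      (IsScalarTower.toAlgHom A B F).toLinearMap).lift_rank_eq
    simpa using this
  haveI : FiniteDimensional k F := by
    refine Module.rank_lt_aleph0_iff.mp ?_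
    rw [h1]
    exact hrank.trans_lt Cardinal.natCast_lt_aleph0
  haveI : Module.Finite A (integralClosure A F) := h2 F inferInstance
  haveI : IsNoetherian A (integralClosure A F) := isNoetherian_of_isNoetherianRing_of_finite _ _
  refine Module.Finite.of_injective (N := integralClosure A F)
    (LinearMap.codRestrict (Subalgebra.toSubmodule (integralClosure A F))
      (IsScalarTower.toAlgHom A B F).toLinearMap
      fun z => (Algebra.IsIntegral.isIntegral z).map (IsScalarTower.toAlgHom A B F)) ?_
  exact fun a b h => IsFractionRing.injective B F (congrArg Subtype.val h)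

set_option maxHeartbeats 1600000 in
set_option synthInstance.maxHeartbeats 100000 in
theorem tate_finite {R : Type u} [CommRing R] [IsDomain R] [IsNoetherianRing R]
    (x : R) (hx : Prime x) [IsAdicComplete (Ideal.span ({x} : Set R)) R]
    [(Ideal.span ({x} : Set R)).IsPrime]
    (h2 : CAlg.IsN2 (R ⧸ Ideal.span ({x} : Set R)))
    (K : Type u) [Field K] [Algebra R K] [IsFractionRing R K] [IsIntegrallyClosed R]
    (L : Type u) [Field L] [Algebra R L] [Algebra K L] [IsScalarTower R K L] [FiniteDimensional K L]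
    (Q : ℕ) (hQ : 0 < Q) (φ : L →+* K) (hφ : ∀ z, algebraMap K L (φ z) = z ^ Q) :
    Module.Finite R (integralClosure R L) := by
  classical
  set S := integralClosure R L
  have hinjK := IsFractionRing.injective R K
  have hinjL : Function.Injective (algebraMap R L) := by
    rw [IsScalarTower.algebraMap_eq R K L]; exact (algebraMap K L).injective.comp hinjK
  have hex : ∀ z : S, ∃ r : R, algebraMap R K r = φ z := fun z => by
    refine IsIntegrallyClosed.algebraMap_eq_of_integral ?_
    refine (isIntegral_algHom_iff (IsScalarTower.toAlgHom R K L) (algebraMap K L).injective).mp ?_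
    show IsIntegral R (algebraMap K L (φ z))
    rw [hφ]; exact z.2.pow _
  choose ψ hψ using hex
  have hψL : ∀ z : S, algebraMap R L (ψ z) = (z : L) ^ Q := fun z => by
    rw [IsScalarTower.algebraMap_apply R K L, hψ, hφ]
  let Ψ : S →+* R :=
    { toFun := ψ
      map_one' := hinjK (by rw [hψ]; simp)
      map_mul' := fun a b => hinjK (by rw [map_mul, hψ, hψ, hψ]; simp)
      map_zero' := hinjK (by rw [hψ]; simp)
      map_add' := fun a b => hinjK (by rw [map_add, hψ, hψ, hψ]; simp) }
  have hΨ : ∀ r : R, Ψ (algebraMap R S r) = r ^ Q := fun r => hinjL (by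
    rw [map_pow]; exact hψL _)
  let M : ℕ → Submodule R S := fun i =>
    { carrier := {z | x ^ i ∣ Ψ z}
      add_mem' := fun {a b} ha hb => by
        show x ^ i ∣ Ψ (a + b); rw [map_add]; exact dvd_add ha hb
      zero_mem' := by show x ^ i ∣ Ψ 0; rw [map_zero]; exact dvd_zero _
      smul_mem' := fun r a ha => by
        show x ^ i ∣ Ψ (r • a)
        rw [Algebra.smul_def, map_mul]; exact Dvd.dvd.mul_left ha _ }
  -- Step 0: divisibility by `x ^ n` in `S` is seen on `Ψ`
  have hdiv : ∀ (n : ℕ) (z : S), x ^ (Q * n) ∣ Ψ z → ∃ t : S, z = algebraMap R S (x ^ n) * t := by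
    rintro n z ⟨c, hc⟩
    have hxn : algebraMap R L (x ^ n) ≠ 0 :=
      (map_ne_zero_iff _ hinjL).mpr (pow_ne_zero _ hx.ne_zero)
    have ht : IsIntegral R ((z : L) / algebraMap R L (x ^ n)) := by
      refine IsIntegral.of_pow hQ ?_
      rw [div_pow, ← hψL, show ψ z = x ^ (Q * n) * c from hc, map_mul, ← map_pow, ← pow_mul,
        mul_comm Q n, mul_div_cancel_left₀ _ ((map_ne_zero_iff _ hinjL).mpr (pow_ne_zero _ hx.ne_zero))]
      exact isIntegral_algebraMap
    exact ⟨⟨_, ht⟩, Subtype.ext (mul_div_cancel₀ (z : L) hxn).symm⟩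
  have hsep : ∀ r : R, (∀ n, x ^ n ∣ r) → r = 0 := fun r hr =>
    IsHausdorff.haus' (I := Ideal.span {x}) r fun n => by
      rw [SModEq.zero, smul_eq_mul, Ideal.mul_top, Ideal.span_singleton_pow,
        Ideal.mem_span_singleton]
      exact hr n
  -- the residue ring at the prime over `x`
  set P := Ideal.span ({x} : Set R)
  let π : S →+* R ⧸ P := (Ideal.Quotient.mk P).comp Ψ
  let J := RingHom.ker π
  haveI : J.IsPrime := RingHom.ker_isPrime π
  have hmemJ : ∀ z : S, z ∈ J ↔ x ∣ Ψ z := fun z => by
    rw [RingHom.mem_ker, RingHom.comp_apply, Ideal.Quotient.eq_zero_iff_mem, Ideal.mem_span_singleton]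
  have hPJ : P ≤ J.comap (algebraMap R S) := by
    rw [Ideal.span_singleton_le_iff_mem, Ideal.mem_comap, hmemJ, hΨ]
    exact dvd_pow_self x hQ.ne'
  letI : Algebra (R ⧸ P) (S ⧸ J) := (Ideal.quotientMap J (algebraMap R S) hPJ).toAlgebra
  haveI : IsScalarTower R (R ⧸ P) (S ⧸ J) := IsScalarTower.of_algebraMap_eq fun r => rfl
  have hinjQ : Function.Injective (algebraMap (R ⧸ P) (S ⧸ J)) := by
    rw [injective_iff_map_eq_zero]
    intro r hr
    obtain ⟨r, rfl⟩ := Ideal.Quotient.mk_surjective r
    change Ideal.Quotient.mk J (algebraMap R S r) = 0 at hr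
    rw [Ideal.Quotient.eq_zero_iff_mem, hmemJ, hΨ] at hr
    exact Ideal.Quotient.eq_zero_iff_mem.mpr (Ideal.mem_span_singleton.mpr (hx.dvd_of_dvd_pow hr))
  haveI : FaithfulSMul (R ⧸ P) (S ⧸ J) := (faithfulSMul_iff_algebraMap_injective _ _).mpr hinjQ
  haveI : Algebra.IsIntegral (R ⧸ P) (S ⧸ J) := ⟨fun z => by
    obtain ⟨z, rfl⟩ := Ideal.Quotient.mk_surjective z
    exact ((integralClosure.isIntegral z).map (Ideal.Quotient.mkₐ R J)).tower_top⟩
  have hrank : Module.rank (R ⧸ P) (S ⧸ J) ≤ Module.finrank K L := by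
    refine rank_le fun s hs => ?_
    choose t ht using fun i : s => Ideal.Quotient.mk_surjective (i : S ⧸ J)
    have hli : LinearIndependent R (fun i : s => ((t i : S) : L)) := by
      rw [Fintype.linearIndependent_iff]
      intro g hg i
      refine hsep _ fun n => ?_
      induction n generalizing g with
      | zero => exact ⟨g i, by simp⟩
      | succ n ih =>
        have hg0 : ∑ j, g j • t j = 0 := Subtype.ext (by
          rw [ZeroMemClass.coe_zero, ← hg]; push_cast; rfl)
        have h0 : ∀ j, x ∣ g j := fun j => by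
          have h1 : ∑ j, Ideal.Quotient.mk P (g j) • (j : S ⧸ J) = 0 := by
            have h2 := congrArg (Ideal.Quotient.mkₐ R J) hg0
            rw [map_sum, map_zero] at h2
            rw [← h2]
            refine Finset.sum_congr rfl fun j _ => ?_
            rw [map_smul, Ideal.Quotient.mkₐ_eq_mk, ht, ← algebraMap_smul (R ⧸ P) (g j)]
            rfl
          exact Ideal.mem_span_singleton.mp (Ideal.Quotient.eq_zero_iff_mem.mp
            (Fintype.linearIndependent_iff.mp hs (fun j => Ideal.Quotient.mk P (g j)) h1 j))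
        choose g' hg' using h0
        have hg'0 : ∑ j, g' j • ((t j : S) : L) = 0 := by
          have : x • ∑ j, g' j • ((t j : S) : L) = 0 := by
            rw [Finset.smul_sum, ← hg]
            exact Finset.sum_congr rfl fun j _ => by rw [smul_smul, ← hg']
          rw [Algebra.smul_def] at this
          exact (mul_eq_zero.mp this).resolve_left ((map_ne_zero_iff _ hinjL).mpr hx.ne_zero)
        rw [hg' i, pow_succ']
        exact mul_dvd_mul_left x (ih g' hg'0)
    have hliK := LinearIndependent.iff_fractionRing R K |>.mp hli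
    simpa using hliK.fintype_card_le_finrank
  haveI hfinSJ : Module.Finite (R ⧸ P) (S ⧸ J) :=
    finite_of_isN2_of_rank_le h2 (S ⧸ J) (Module.finrank K L) hrank
  haveI : Module.Finite R (S ⧸ J) := Module.Finite.trans (R ⧸ P) (S ⧸ J)
  haveI : IsNoetherian R (S ⧸ J) := isNoetherian_of_isNoetherianRing_of_finite R _
  -- the filtration
  have hstep : ∀ i, ∃ W : Submodule R S, W.FG ∧ ⊤ ≤ W ⊔ M i := by
    intro i
    induction i with
    | zero => exact ⟨⊥, Submodule.fg_bot, fun z _ => Submodule.mem_sup_right (show x ^ 0 ∣ Ψ z by rw [pow_zero]; exact one_dvd _)⟩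
    | succ i ih =>
      obtain ⟨W, hW, hWM⟩ := ih
      suffices h : ∃ W' : Submodule R S, W'.FG ∧ M i ≤ W' ⊔ M (i + 1) by
        obtain ⟨W', hW', hle⟩ := h
        refine ⟨W ⊔ W', hW.sup hW', hWM.trans ?_⟩
        rw [sup_assoc]
        exact sup_le_sup le_rfl hle
      by_cases hu : ∀ u ∈ M i, u ∈ M (i + 1)
      · exact ⟨⊥, Submodule.fg_bot, fun z hz => Submodule.mem_sup_right (hu z hz)⟩
      obtain ⟨u, ⟨a, ha⟩, hu'⟩ := by push Not at hu; exact hu
      have hxa : ¬ x ∣ a := fun h => hu' (by
        show x ^ (i + 1) ∣ Ψ u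
        rw [ha, pow_succ]; exact mul_dvd_mul_left _ h)
      have hs : ∀ z : M i, ∃ s : S, algebraMap R S (x ^ i) * s = (z : S) * u ^ (Q - 1) := fun z => by
        obtain ⟨b, hb⟩ := z.2
        obtain ⟨s, hs⟩ := hdiv i ((z : S) * u ^ (Q - 1)) (by
          refine ⟨b * a ^ (Q - 1), ?_⟩
          rw [map_mul, map_pow, hb, ha, mul_pow, ← pow_mul]
          obtain ⟨q, rfl⟩ := Nat.exists_eq_succ_of_ne_zero hQ.ne'
          rw [Nat.succ_sub_one, show Nat.succ q * i = i + i * q by rw [Nat.succ_eq_add_one]; ring,
            pow_add]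
          ring)
        exact ⟨s, hs.symm⟩
      choose s hs using hs
      have hreg : ∀ w w' : S, algebraMap R S (x ^ i) * w = algebraMap R S (x ^ i) * w' → w = w' :=
        fun w w' h => Subtype.ext (mul_left_cancel₀
          ((map_ne_zero_iff _ hinjL).mpr (pow_ne_zero i hx.ne_zero)) (congrArg Subtype.val h))
      let g : M i →ₗ[R] S ⧸ J :=
        (Ideal.Quotient.mkₐ R J).toLinearMap.comp
          { toFun := s
            map_add' := fun z w => hreg _ _ (by rw [mul_add, hs, hs, hs, Submodule.coe_add, add_mul])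
            map_smul' := fun r z => hreg _ _ (by
              rw [hs, RingHom.id_apply, Submodule.coe_smul, Algebra.smul_def, Algebra.smul_def,
                mul_left_comm, hs, mul_assoc]) }
      have hker : ∀ z : M i, g z = 0 → (z : S) ∈ M (i + 1) := fun z hz => by
        obtain ⟨b, hb⟩ := z.2
        have h1 : x ∣ Ψ (s z) := (hmemJ _).mp (Ideal.Quotient.eq_zero_iff_mem.mp hz)
        have h2 := congrArg Ψ (hs z)
        rw [map_mul, hΨ, map_mul, map_pow, hb, ha, mul_pow, ← pow_mul, ← pow_mul] at h2
        have h3 : Ψ (s z) = b * a ^ (Q - 1) := by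
          apply mul_left_cancel₀ (pow_ne_zero (i * Q) hx.ne_zero)
          rw [h2]
          obtain ⟨q, rfl⟩ := Nat.exists_eq_succ_of_ne_zero hQ.ne'
          rw [Nat.succ_sub_one, show i * Nat.succ q = i + i * q by rw [Nat.succ_eq_add_one]; ring,
            pow_add]
          ring
        rw [h3] at h1
        show x ^ (i + 1) ∣ Ψ (z : S)
        rw [hb, pow_succ]
        refine mul_dvd_mul_left _ ((hx.dvd_or_dvd h1).resolve_right fun h => hxa ?_)
        exact hx.dvd_of_dvd_pow h
      obtain ⟨G, hG⟩ := IsNoetherian.noetherian (LinearMap.range g)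
      have hpre : ∀ y ∈ G, ∃ z : M i, g z = y := fun y hy => by
        have : y ∈ LinearMap.range g := hG ▸ Submodule.subset_span hy
        exact this
      choose! pre hpre using hpre
      refine ⟨Submodule.span R ((fun y => (pre y : S)) '' (G : Set (S ⧸ J))),
        Submodule.fg_span (G.finite_toSet.image _), fun z hz => ?_⟩
      have hgz : g ⟨z, hz⟩ ∈ Submodule.span R (g '' (pre '' (G : Set (S ⧸ J)))) := by
        rw [← Set.image_comp, Set.image_congr (f := g ∘ pre) (g := id) fun y hy => hpre y hy,
          Set.image_id, hG]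
        exact ⟨_, rfl⟩
      rw [Submodule.span_image] at hgz
      obtain ⟨w, hw, hwz⟩ := hgz
      refine Submodule.mem_sup.mpr ⟨(w : S), ?_, z - (w : S), hker (⟨z, hz⟩ - w) ?_, by abel⟩
      · have := Submodule.mem_map_of_mem (f := (M i).subtype) hw
        rw [Submodule.map_span, ← Set.image_comp] at this
        exact this
      · rw [map_sub, ← hwz, sub_self]
  obtain ⟨W, hW, hWM⟩ := hstep Q
  obtain ⟨m, v, hv⟩ := Submodule.fg_iff_exists_fin_generating_family.mp hW
  haveI : IsHausdorff P S := ⟨fun z hz => by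
    have h0 : Ψ z = 0 := hsep _ fun n => by
      have h1 := hz n
      rw [SModEq.zero, Ideal.span_singleton_pow, Submodule.ideal_span_singleton_smul,
        Submodule.mem_smul_pointwise_iff_exists] at h1
      obtain ⟨w, -, rfl⟩ := h1
      rw [Algebra.smul_def, map_mul, hΨ, ← pow_mul]
      exact Dvd.dvd.mul_right (pow_dvd_pow x (Nat.le_mul_of_pos_right n hQ)) _
    have h2 := hψL z
    rw [show ψ z = 0 from h0, map_zero] at h2
    exact Subtype.ext (pow_eq_zero_iff hQ.ne' |>.mp h2.symm)⟩
  haveI : IsPrecomplete P (Fin m → R) := isPrecomplete_pi P m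
  refine Module.Finite.of_surjective (Fintype.linearCombination R v)
    (surjective_of_mkQ_comp_surjective (I := P) fun y => ?_)
  obtain ⟨z, rfl⟩ := Submodule.mkQ_surjective _ y
  obtain ⟨w, hw, r, hr, rfl⟩ := Submodule.mem_sup.mp (hWM (Submodule.mem_top (x := z)))
  obtain ⟨c, hc⟩ : ∃ c, Fintype.linearCombination R v c = w := by
    rw [← hv, Submodule.mem_span_range_iff_exists_fun] at hw
    obtain ⟨c, hc⟩ := hw
    exact ⟨c, by rw [Fintype.linearCombination_apply]; exact hc⟩
  refine ⟨c, ?_⟩
  show Submodule.mkQ _ (Fintype.linearCombination R v c) = Submodule.mkQ _ (w + r)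
  rw [hc]
  refine (Submodule.Quotient.eq _).mpr ?_
  rw [sub_add_cancel_left]
  refine neg_mem ?_
  obtain ⟨t, rfl⟩ := hdiv 1 r (by rw [mul_one]; exact hr)
  rw [pow_one, ← Algebra.smul_def]
  exact Submodule.smul_mem_smul (Ideal.mem_span_singleton_self x) trivial

end Groth.Calg1

namespace Groth.Calg1

theorem exists_frobenius_pow (K L : Type u) [Field K] [Field L] [Algebra K L] [FiniteDimensional K L]
    [IsPurelyInseparable K L] :
    ∃ (q e : ℕ) (φ : L →+* K), ExpChar K q ∧ 0 < q ∧ ∀ z, algebraMap K L (φ z) = z ^ q ^ e := by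
  obtain ⟨q, hq⟩ := ExpChar.exists K
  haveI : IsPurelyInseparable.HasExponent K L := by
    rw [IsPurelyInseparable.hasExponent_iff' K L q]
    refine ⟨Module.finrank K L, fun a => ?_⟩
    obtain ⟨n, y, hy⟩ := IsPurelyInseparable.minpoly_eq_X_pow_sub_C K q a
    have hn : a ^ q ^ n = algebraMap K L y := by
      have := minpoly.aeval K a
      rw [hy] at this
      simpa [sub_eq_zero] using this
    rcases le_or_gt n (Module.finrank K L) with hle | hlt
    · refine ⟨y ^ q ^ (Module.finrank K L - n), ?_⟩
      rw [map_pow, ← hn, ← pow_mul, ← pow_add, Nat.add_sub_cancel' hle]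
    · have hdeg : q ^ n ≤ Module.finrank K L := by
        have h1 := minpoly.natDegree_le (A := K) a
        rw [hy, Polynomial.natDegree_X_pow_sub_C] at h1
        exact h1
      cases hq with
      | zero => exact ⟨y, by rw [← hn]; simp⟩
      | prime hprime =>
        exfalso
        have : n < q ^ n := Nat.lt_pow_self hprime.one_lt
        omega
  exact ⟨q, IsPurelyInseparable.exponent K L, IsPurelyInseparable.iterateFrobenius K L q le_rfl,
    inferInstance, expChar_pos K q,
    fun z => IsPurelyInseparable.algebraMap_iterateFrobenius K q le_rfl z⟩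

theorem exists_frobenius_to_base (K L : Type u) [Field K] [Field L] [Algebra K L] [FiniteDimensional K L]
    [IsPurelyInseparable K L] :
    ∃ (Q : ℕ) (φ : L →+* K), 0 < Q ∧ ∀ z, algebraMap K L (φ z) = z ^ Q := by
  obtain ⟨q, e, φ, -, hq, hφ⟩ := exists_frobenius_pow K L
  exact ⟨q ^ e, φ, pow_pos hq e, hφ⟩

theorem finite_ic_of_ringEquiv {A B : Type u} [CommRing A] [IsDomain A] [CommRing B] [IsDomain B]
    (e : A ≃+* B) (h : CAlg.IsN2 A) (K L : Type u) [Field K] [Algebra B K] [IsFractionRing B K]
    [Field L] [Algebra K L] [Algebra B L] [IsScalarTower B K L] [FiniteDimensional K L] :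
    Module.Finite B (integralClosure B L) := by
  letI : Algebra A B := e.toRingHom.toAlgebra
  letI : Algebra A L := ((algebraMap B L).comp e.toRingHom).toAlgebra
  letI : Algebra A K := ((algebraMap B K).comp e.toRingHom).toAlgebra
  haveI : IsScalarTower A B L := IsScalarTower.of_algebraMap_eq' rfl
  haveI : IsScalarTower A K L :=
    IsScalarTower.of_algebraMap_eq fun a => IsScalarTower.algebraMap_apply B K L (e a)
  haveI : FaithfulSMul A K := (faithfulSMul_iff_algebraMap_injective _ _).mpr
    ((IsFractionRing.injective B K).comp e.injective)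
  haveI : IsFractionRing A K := Groth.Calg4.isFractionRing_of_range B A K fun b =>
    ⟨e.symm b, congrArg (algebraMap B K) (e.apply_symm_apply b)⟩
  exact (Groth.Calg4.finite_ic_iff_of_surjective A B L e.surjective).mp
    (Groth.Calg4.finite_ic_of_isN2 h K L)

theorem isN2_of_tate {R : Type u} [CommRing R] [IsDomain R] [IsNoetherianRing R] [IsIntegrallyClosed R]
    (x : R) [(Ideal.span ({x} : Set R)).IsPrime]
    (h2 : CAlg.IsN2 (R ⧸ Ideal.span ({x} : Set R))) [IsAdicComplete (Ideal.span ({x} : Set R)) R] :
    CAlg.IsN2 R := by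
  rcases eq_or_ne x 0 with rfl | hx
  · have hbot : Ideal.span ({0} : Set R) = ⊥ := by simp
    intro L _ _ _ _ hfin
    exact finite_ic_of_ringEquiv ((Ideal.quotEquivOfEq hbot).trans (RingEquiv.quotientBot R)) h2
      (FractionRing R) L
  intro L _ _ _ _ hfin
  refine Groth.Calg2.N2Insep.finite_of_purelyInseparable R (fun K' _ _ _ _ _ _ => ?_) L
  obtain ⟨Q, φ, hQ, hφ⟩ := exists_frobenius_to_base (FractionRing R) K'
  exact tate_finite x ((Ideal.span_singleton_prime hx).mp inferInstance) h2 (FractionRing R) K' Q hQ φ hφ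

end Groth.Calg1
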