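import Groth.Agent.Calg1.NagataMonogenic
import Groth.Agent.Calg1.JapanesePolynomial
import Groth.Agent.Calg2.CompleteNagata

/-!
Nagata's theorem: algebras of finite type over Nagata rings are Nagata.
-/

set_option autoImplicit false

universe u

open Polynomial

namespace Groth.Calg1

/-- At a maximal ideal of a monogenic algebra the generator is algebraic over the residue field below. -/
theorem exists_aeval_mem_of_isMaximal {A B : Type u} [CommRing A] [CommRing B] [Algebra A B]
    [Algebra.FiniteType A B] (x : B) (q : Ideal B) [q.IsMaximal] :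
    ∃ g : A[X], aeval x g ∈ q ∧ algebraMap A B g.leadingCoeff ∉ q := by
  classical
  let p := q.comap (algebraMap A B)
  letI : Field (B ⧸ q) := Ideal.Quotient.field q
  haveI : Algebra.FiniteType A (B ⧸ q) :=
    Algebra.FiniteType.of_surjective (Ideal.Quotient.mkₐ A q) Ideal.Quotient.mk_surjective
  haveI : Algebra.FiniteType (A ⧸ p) (B ⧸ q) := Algebra.FiniteType.of_restrictScalars_finiteType A _ _
  let K₀ := FractionRing (A ⧸ p)
  haveI : FaithfulSMul (A ⧸ p) (B ⧸ q) :=
    (faithfulSMul_iff_algebraMap_injective _ _).2 Ideal.algebraMap_quotient_injective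
  letI : Algebra K₀ (B ⧸ q) := FractionRing.liftAlgebra (A ⧸ p) (B ⧸ q)
  haveI : Algebra.FiniteType K₀ (B ⧸ q) := Algebra.FiniteType.of_restrictScalars_finiteType (A ⧸ p) _ _
  haveI : Module.Finite K₀ (B ⧸ q) := finite_of_finite_type_of_isJacobsonRing K₀ (B ⧸ q)
  have halg : IsAlgebraic (A ⧸ p) (Ideal.Quotient.mk q x) :=
    (IsFractionRing.isAlgebraic_iff (A ⧸ p) K₀ (B ⧸ q)).2 (Algebra.IsAlgebraic.isAlgebraic _)
  obtain ⟨gb, hgb, hgx⟩ := halg
  obtain ⟨g, hg, hdeg⟩ := exists_degree_eq_of_mem_lifts
    (f := Ideal.Quotient.mk p) (p := gb) (Polynomial.mem_lifts _ |>.2 (Polynomial.map_surjective _ Ideal.Quotient.mk_surjective gb))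
  refine ⟨g, ?_, fun hl => ?_⟩
  · rw [← Ideal.Quotient.eq_zero_iff_mem, ← hgx, ← hg,
      show (Ideal.Quotient.mk p) = algebraMap A (A ⧸ p) from rfl, aeval_map_algebraMap]
    exact (aeval_algHom_apply (Ideal.Quotient.mkₐ A q) x g).symm
  · have h1 : gb.leadingCoeff = Ideal.Quotient.mk p g.leadingCoeff := by
      rw [← hg, leadingCoeff, leadingCoeff, Polynomial.natDegree_map_eq_iff.2 ?_, coeff_map]
      by_cases h0 : g.natDegree = 0
      · exact Or.inr h0
      · left
        intro h2
        have := Polynomial.degree_map_lt (f := Ideal.Quotient.mk p) h2 (fun h3 => h0 (by simp [h3]))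
        rw [hg, hdeg] at this
        exact lt_irrefl _ this
    apply hgb
    rw [← leadingCoeff_eq_zero, h1, Ideal.Quotient.eq_zero_iff_mem]
    exact hl

/-- A birational monogenic extension of a normal Nagata domain is N-1. -/
theorem isN1_adjoin_singleton {A L : Type u} [CommRing A] [IsDomain A] [IsIntegrallyClosed A]
    (hA : CAlg.IsNagata A) (hA2 : CAlg.IsN2 A) [Field L] [Algebra A L] [IsFractionRing A L] (x : L) :
    CAlg.IsN1 (Algebra.adjoin A {x}) := by
  classical
  haveI := hA.1
  let B := Algebra.adjoin A ({x} : Set L)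
  have hmem : ∀ {z : L}, z ∈ B → ∃ p : A[X], aeval x p = z := fun {z} hz => by
    have hz' : z ∈ Algebra.adjoin A ({x} : Set L) := hz
    rw [Algebra.adjoin_singleton_eq_range_aeval] at hz'
    exact hz'
  haveI : Algebra.FiniteType A B := Algebra.FiniteType.of_surjective
    ((Polynomial.aeval x).codRestrict B fun p => aeval_mem_adjoin_singleton A x)
    fun z => by
      obtain ⟨p, hp⟩ := hmem z.2
      exact ⟨p, Subtype.ext hp⟩
  haveI : IsNoetherianRing B := Algebra.FiniteType.isNoetherianRing A B
  haveI : IsFractionRing B L :=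
    Groth.Calg4.isFractionRing_of_range A B L fun a => ⟨algebraMap A B a, rfl⟩
  let xB : B := ⟨x, Algebra.self_mem_adjoin_singleton A x⟩
  have hgenB : ∀ b : B, ∃ g : A[X], aeval xB g = b := by
    rintro ⟨b, hb⟩
    obtain ⟨g, rfl⟩ := hmem hb
    exact ⟨g, Subtype.ext (aeval_algHom_apply B.val xB g).symm⟩
  obtain ⟨u, v, hv, huv⟩ := IsFractionRing.div_surjective A x
  have hv0 : algebraMap A L v ≠ 0 := IsFractionRing.to_map_ne_zero_of_mem_nonZeroDivisors hv
  refine isN1_iff.2 ⟨⟨algebraMap A B v, fun h0 => hv0 (congrArg Subtype.val h0), ?_⟩, fun q _ => ?_⟩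
  · have hne : algebraMap A B v ≠ 0 := fun h0 => hv0 (congrArg Subtype.val h0)
    haveI : IsDomain (Localization.Away (algebraMap A B v)) := IsLocalization.isDomain_localization
      (powers_le_nonZeroDivisors_of_noZeroDivisors hne)
    have hinjA : Function.Injective (algebraMap A (Localization.Away (algebraMap A B v))) := by
      intro a b hab
      rw [IsScalarTower.algebraMap_apply A B (Localization.Away (algebraMap A B v)) a,
        IsScalarTower.algebraMap_apply A B (Localization.Away (algebraMap A B v)) b] at hab
      exact IsFractionRing.injective A L (congrArg Subtype.val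
        (IsLocalization.injective (Localization.Away (algebraMap A B v))
          (powers_le_nonZeroDivisors_of_noZeroDivisors hne) hab) :)
    refine isIntegrallyClosed_of_unit_denominators (A := A) hinjA fun w => ?_
    obtain ⟨b, ⟨_, i, rfl⟩, rfl⟩ := IsLocalization.exists_mk'_eq (Submonoid.powers (algebraMap A B v)) w
    have hvx : algebraMap A B v * xB = algebraMap A B u := Subtype.ext (by
      change algebraMap A L v * x = algebraMap A L u
      rw [← huv, mul_div_cancel₀ _ hv0])
    obtain ⟨g, rfl⟩ := hgenB b
    obtain ⟨k, a, ha⟩ : ∃ (k : ℕ) (a : A), algebraMap A B v ^ k * aeval xB g = algebraMap A B a := by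
      induction g using Polynomial.induction_on' with
      | add p p' hp hp' =>
        obtain ⟨k, a, ha⟩ := hp
        obtain ⟨l, b, hb⟩ := hp'
        refine ⟨k + l, v ^ l * a + v ^ k * b, ?_⟩
        simp only [map_add, map_mul, map_pow, ← ha, ← hb]
        ring
      | monomial n a =>
        refine ⟨n, a * u ^ n, ?_⟩
        rw [aeval_monomial, map_mul, map_pow, ← hvx]
        ring
    refine ⟨a, v ^ (k + i), ?_, ?_⟩
    · rw [IsScalarTower.algebraMap_apply A B (Localization.Away (algebraMap A B v)) (v ^ (k + i)),
        map_pow, map_pow]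
      exact (IsLocalization.Away.algebraMap_isUnit _).pow _
    · rw [IsScalarTower.algebraMap_apply A B (Localization.Away (algebraMap A B v)) (v ^ (k + i)),
        IsScalarTower.algebraMap_apply A B (Localization.Away (algebraMap A B v)) a,
        IsLocalization.mul_mk'_eq_mk'_of_mul, IsLocalization.mk'_eq_iff_eq_mul, ← map_mul, ← ha, map_pow]
      congr 1
      ring
  · obtain ⟨g, hg, hc⟩ := exists_aeval_mem_of_isMaximal (A := A) xB q
    haveI : IsDomain (Localization.AtPrime q) :=
      IsLocalization.isDomain_localization q.primeCompl_le_nonZeroDivisors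
    have hu : ∀ y : q.primeCompl, IsUnit (algebraMap B L y) := fun y =>
      isUnit_iff_ne_zero.2 ((map_ne_zero_iff _ (IsFractionRing.injective B L)).2
        fun h0 => y.2 (by rw [h0]; exact zero_mem _))
    letI : Algebra (Localization.AtPrime q) L := (IsLocalization.lift hu).toAlgebra
    haveI : IsScalarTower B (Localization.AtPrime q) L :=
      IsScalarTower.of_algebraMap_eq fun b => (IsLocalization.lift_eq hu b).symm
    haveI : IsFractionRing (Localization.AtPrime q) L :=
      IsFractionRing.isFractionRing_of_isDomain_of_isLocalization q.primeCompl _ L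
    exact isN1_atPrime_of_algebraic (L := L) hA hA2 xB hgenB q g hg hc (Localization.AtPrime q)

theorem isN2_self_of_isNagata {R : Type u} [CommRing R] [IsDomain R] (h : CAlg.IsNagata R) :
    CAlg.IsN2 R := by
  haveI := h.1
  exact Groth.Calg2.CompleteNagata.isN2_of_ringEquiv (RingEquiv.quotientBot R) (h.2 ⊥)

/-- An algebraic monogenic extension domain of a Nagata domain is Japanese. -/
theorem isN2_of_monogenic {R S : Type u} [CommRing R] [IsDomain R] (hR : CAlg.IsNagata R)
    [CommRing S] [IsDomain S] [Algebra R S] (hinj : Function.Injective (algebraMap R S)) (a : S)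
    (hgen : ∀ s : S, ∃ g : R[X], aeval a g = s) (halg : IsAlgebraic R a) : CAlg.IsN2 S := by
  classical
  haveI := hR.1
  intro L _ _ _ _ hfin
  let K := FractionRing R
  let F := FractionRing S
  haveI : IsNoetherianRing S := by
    exact isNoetherianRing_of_surjective R[X] S (aeval a).toRingHom fun s => hgen s
  letI : Algebra R L := ((algebraMap S L).comp (algebraMap R S)).toAlgebra
  haveI : IsScalarTower R S L := IsScalarTower.of_algebraMap_eq' rfl
  haveI : FaithfulSMul R L := (faithfulSMul_iff_algebraMap_injective R L).2 (by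
    rw [IsScalarTower.algebraMap_eq R S L, IsScalarTower.algebraMap_eq S F L]
    exact ((algebraMap F L).injective.comp (IsFractionRing.injective S F)).comp hinj)
  letI : Algebra K L := FractionRing.liftAlgebra R L
  haveI hKL : FiniteDimensional K L := by
    have hint : IsIntegral K (algebraMap S L a) :=
      isAlgebraic_iff_isIntegral.1 ((IsFractionRing.isAlgebraic_iff R K L).1
        ((halg.algHom (IsScalarTower.toAlgHom R S L))))
    haveI : FiniteDimensional K (IntermediateField.adjoin K {algebraMap S L a}) :=
      IntermediateField.adjoin.finiteDimensional hint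
    let F₀ := IntermediateField.adjoin K {algebraMap S L a}
    have hS : ∀ s : S, algebraMap S L s ∈ F₀ := fun s => by
      obtain ⟨g, rfl⟩ := hgen s
      rw [← aeval_algebraMap_apply, ← aeval_map_algebraMap K]
      exact (aeval_algHom_apply F₀.val ⟨_, IntermediateField.mem_adjoin_simple_self K _⟩ _) ▸
        Subtype.coe_prop _
    let φ : F →+* F₀ := (algebraMap F L).codRestrict F₀ fun z => by
      obtain ⟨s, t, -, rfl⟩ := IsFractionRing.div_surjective S z
      rw [map_div₀, ← IsScalarTower.algebraMap_apply, ← IsScalarTower.algebraMap_apply]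
      exact div_mem (hS s) (hS t)
    letI : Algebra F F₀ := φ.toAlgebra
    haveI : IsScalarTower F F₀ L := IsScalarTower.of_algebraMap_eq fun _ => rfl
    haveI : Module.Finite F₀ L := Module.Finite.of_restrictScalars_finite F F₀ L
    exact Module.Finite.trans F₀ L
  haveI hfinR : Module.Finite R (integralClosure R L) :=
    Groth.Calg4.finite_ic_of_isN2 (isN2_self_of_isNagata hR) K L
  let A := integralClosure R L
  haveI : IsFractionRing A L := integralClosure.isFractionRing_of_finite_extension K L
  haveI : IsIntegrallyClosed A := integralClosure.isIntegrallyClosedOfFiniteExtension K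
  have hA : CAlg.IsNagata A := isNagata_of_finite (S := A) hR
  have hN1 := isN1_adjoin_singleton hA (isN2_self_of_isNagata hA) (algebraMap S L a)
  let B := Algebra.adjoin A ({algebraMap S L a} : Set L)
  haveI : IsFractionRing B L :=
    Groth.Calg4.isFractionRing_of_range A B L fun z => ⟨algebraMap A B z, rfl⟩
  haveI : Module.Finite B (integralClosure B L) := Groth.Calg4.finite_ic_of_isN1 hN1 L
  -- `B` is a finite `S`-algebra inside `L`
  obtain ⟨G, hG⟩ := Module.Finite.fg_top (R := R) (M := A)
  let C : Subalgebra S L := Algebra.adjoin S ((↑) '' (G : Set A))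
  haveI hfinC : Module.Finite S C := Module.Finite.iff_fg.2 (fg_adjoin_of_finite (G.finite_toSet.image _) (by
    rintro _ ⟨z, -, rfl⟩
    exact (z.2 : IsIntegral R (z : L)).tower_top))
  have hAC : ∀ z : A, (z : L) ∈ C := fun z => by
    have hz : z ∈ Submodule.span R (G : Set A) := hG ▸ Submodule.mem_top
    induction hz using Submodule.span_induction with
    | mem w hw => exact Algebra.subset_adjoin ⟨w, hw, rfl⟩
    | zero => exact zero_mem _
    | add w w' _ _ h1 h2 => exact add_mem h1 h2
    | smul r w _ h1 =>
      change r • (w : L) ∈ C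
      rw [Algebra.smul_def, IsScalarTower.algebraMap_apply R S L]
      exact mul_mem (C.algebraMap_mem _) h1
  have hBC : ∀ z : B, (z : L) ∈ C := by
    rintro ⟨z, hz⟩
    induction hz using Algebra.adjoin_induction with
    | mem w hw => obtain rfl := hw; exact C.algebraMap_mem a
    | algebraMap r => exact hAC r
    | add _ _ _ _ h1 h2 => exact add_mem h1 h2
    | mul _ _ _ _ h1 h2 => exact mul_mem h1 h2
  have hSB : ∀ s : S, algebraMap S L s ∈ B := fun s => by
    obtain ⟨g, rfl⟩ := hgen s
    rw [← aeval_algebraMap_apply, ← aeval_map_algebraMap A]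
    exact aeval_mem_adjoin_singleton A _
  letI : Algebra S B := ((algebraMap S L).codRestrict B hSB).toAlgebra
  haveI : IsScalarTower S B L := IsScalarTower.of_algebraMap_eq fun _ => rfl
  haveI : IsNoetherian S C := isNoetherian_of_isNoetherianRing_of_finite S C
  haveI : Module.Finite S B := Module.Finite.of_injective
    ({ toFun := fun z => ⟨(z : L), hBC z⟩
       map_add' := fun _ _ => rfl
       map_smul' := fun s z => Subtype.ext (by
        change ((algebraMap S B s * z : B) : L) = s • (z : L)
        rw [Algebra.smul_def]; rfl) } : B →ₗ[S] C)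
    fun z w h => Subtype.ext (congrArg Subtype.val h :)
  haveI : Module.Finite S (integralClosure B L) := Module.Finite.trans B _
  haveI : IsNoetherian S (integralClosure B L) := isNoetherian_of_isNoetherianRing_of_finite S (integralClosure B L)
  exact Module.Finite.of_injective
    ({ toFun := fun z => ⟨(z : L), (z.2 : IsIntegral S (z : L)).tower_top⟩
       map_add' := fun _ _ => rfl
       map_smul' := fun s z => Subtype.ext rfl } : integralClosure S L →ₗ[S] integralClosure B L)
    fun z w h => Subtype.ext (congrArg Subtype.val h :)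

/-- Domains generated by one element over a Nagata ring are Japanese. -/
theorem isN2_quotient_polynomial {R : Type u} [CommRing R] (hR : CAlg.IsNagata R) (P : Ideal R[X])
    [P.IsPrime] : CAlg.IsN2 (R[X] ⧸ P) := by
  classical
  haveI := hR.1
  let p := P.comap (algebraMap R R[X])
  have hbar : CAlg.IsNagata (R ⧸ p) := isNagata_of_surjective _ Ideal.Quotient.mk_surjective hR
  let a : R[X] ⧸ P := Ideal.Quotient.mk P X
  have hgen : ∀ s : R[X] ⧸ P, ∃ g : (R ⧸ p)[X], aeval a g = s := by
    intro s
    obtain ⟨s, rfl⟩ := Ideal.Quotient.mk_surjective s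
    refine ⟨s.map (algebraMap R (R ⧸ p)), ?_⟩
    rw [aeval_map_algebraMap]
    exact (aeval_algHom_apply (Ideal.Quotient.mkₐ R P) X s).trans (congrArg _ (aeval_X_left_apply s))
  have hinj : Function.Injective (algebraMap (R ⧸ p) (R[X] ⧸ P)) := Ideal.algebraMap_quotient_injective
  by_cases halg : IsAlgebraic (R ⧸ p) a
  · exact isN2_of_monogenic hbar hinj a hgen halg
  · have hbij : Function.Bijective (aeval (R := R ⧸ p) a) :=
      ⟨(transcendental_iff_injective).1 halg, fun s => hgen s⟩
    haveI : IsNoetherianRing (R ⧸ p)[X] := inferInstance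
    exact Groth.Calg2.CompleteNagata.isN2_of_ringEquiv (RingEquiv.ofBijective _ hbij)
      (isN2_polynomial (isN2_self_of_isNagata hbar))

theorem isNagata_polynomial {R : Type u} [CommRing R] (hR : CAlg.IsNagata R) : CAlg.IsNagata R[X] := by
  haveI := hR.1
  exact ⟨inferInstance, fun P _ => isN2_quotient_polynomial hR P⟩

theorem isNagata_mvPolynomial {R : Type u} [CommRing R] (hR : CAlg.IsNagata R) (n : ℕ) :
    CAlg.IsNagata (MvPolynomial (Fin n) R) := by
  induction n with
  | zero => exact Groth.PropsBasic.isNagata_of_ringEquiv (MvPolynomial.isEmptyRingEquiv R (Fin 0)).symm hR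
  | succ n ih =>
    exact Groth.PropsBasic.isNagata_of_ringEquiv (MvPolynomial.finSuccEquiv R n).symm.toRingEquiv
      (isNagata_polynomial ih)

/-- An algebra of finite type over a Nagata ring is Nagata. -/
theorem isNagata_of_finiteType {R S : Type u} [CommRing R] [CommRing S] [Algebra R S]
    [Algebra.FiniteType R S] (hR : CAlg.IsNagata R) : CAlg.IsNagata S := by
  obtain ⟨n, f, hf⟩ := Algebra.FiniteType.iff_quotient_mvPolynomial''.1 ‹Algebra.FiniteType R S›
  exact isNagata_of_surjective f.toRingHom hf (isNagata_mvPolynomial hR n)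

end Groth.Calg1
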