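import Mathlib
import Groth.Prelude.Def_Found

/-!
Catenarity is local and passes along convex order embeddings of spectra.
-/

set_option autoImplicit false
universe u

namespace Groth.Calg1

open PrimeSpectrum
attribute [local instance] MvPolynomial.algebraMvPolynomial

/-- The order-theoretic content of `CAlg.IsCatenary`. -/
def CatOrd (α : Type u) [PartialOrder α] : Prop :=
  (∀ p q : α, p ≤ q → ∃ n : ℕ, ∀ s : LTSeries α, s.head = p → s.last = q → s.length ≤ n) ∧
  ∀ s t : LTSeries α, s.head = t.head → s.last = t.last →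
    (∀ i : Fin s.length, s (Fin.castSucc i) ⋖ s (Fin.succ i)) →
    (∀ i : Fin t.length, t (Fin.castSucc i) ⋖ t (Fin.succ i)) →
    s.length = t.length

theorem isCatenary_iff_catOrd (R : Type u) [CommRing R] :
    CAlg.IsCatenary R ↔ CatOrd (PrimeSpectrum R) := Iff.rfl

theorem CatOrd.of_embedding {α β : Type u} [PartialOrder α] [PartialOrder β] (f : β ↪o α)
    (hf : (Set.range f).OrdConnected) (h : CatOrd α) : CatOrd β := by
  refine ⟨fun p q hpq => ?_, fun s t h1 h2 hs ht => ?_⟩
  · obtain ⟨n, hn⟩ := h.1 (f p) (f q) (f.monotone hpq)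
    refine ⟨n, fun s hsp hsq => ?_⟩
    exact hn (s.map f f.strictMono) (by rw [← hsp]; rfl) (by rw [← hsq]; rfl)
  · exact h.2 (s.map f f.strictMono) (t.map f f.strictMono) (congrArg f h1) (congrArg f h2)
      (fun i => (hs i).image f hf) (fun i => (ht i).image f hf)

theorem catOrd_of_below {α : Type u} [PartialOrder α]
    (h : ∀ q : α, ∃ (β : Type u) (_ : PartialOrder β) (f : β ↪o α),
      CatOrd β ∧ ∀ x, x ≤ q → x ∈ Set.range f) : CatOrd α := by
  have lift : ∀ (β : Type u) [PartialOrder β] (f : β ↪o α) (s : LTSeries α),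
      (∀ x, x ≤ s.last → x ∈ Set.range f) → ∃ t : LTSeries β, ∃ hl : t.length = s.length,
        ∀ i, f (t i) = s (Fin.cast (by rw [hl]) i) := by
    intro β _ f s hs
    choose g hg using fun i => hs (s i) (s.monotone (Fin.le_last i))
    refine ⟨⟨s.length, g, fun i => ?_⟩, rfl, fun i => hg i⟩
    show g _ < g _
    rw [← f.lt_iff_lt, hg, hg]
    exact s.step i
  refine ⟨fun p q hpq => ?_, fun s t h1 h2 hs ht => ?_⟩
  · obtain ⟨β, _, f, hβ, hf⟩ := h q
    obtain ⟨p', rfl⟩ := hf p hpq
    obtain ⟨q', rfl⟩ := hf q le_rfl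
    obtain ⟨n, hn⟩ := hβ.1 p' q' (f.le_iff_le.mp hpq)
    refine ⟨n, fun s hsp hsq => ?_⟩
    obtain ⟨t, hl, ht⟩ := lift β f s (hsq ▸ hf)
    rw [← hl]
    apply hn
    · apply f.injective; rw [← hsp]; exact ht 0
    · apply f.injective; rw [← hsq]
      refine (ht _).trans (congrArg s (Fin.ext ?_)); simp [hl]
  · obtain ⟨β, _, f, hβ, hf⟩ := h s.last
    obtain ⟨s', hls, hs'⟩ := lift β f s hf
    obtain ⟨t', hlt, ht'⟩ := lift β f t (h2 ▸ hf)
    have key := hβ.2 s' t' ?_ ?_ ?_ ?_
    · rw [← hls, ← hlt]; exact key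
    · apply f.injective; exact (hs' 0).trans (h1.trans (ht' 0).symm)
    · apply f.injective
      calc f s'.last = s.last := (hs' _).trans (congrArg s (Fin.ext (by simp [hls])))
        _ = t.last := h2
        _ = f t'.last := ((ht' _).trans (congrArg t (Fin.ext (by simp [hlt])))).symm
    · intro i
      refine CovBy.of_image f ?_
      rw [hs', hs']
      exact hs (Fin.cast hls i)
    · intro i
      refine CovBy.of_image f ?_
      rw [ht', ht']
      exact ht (Fin.cast hlt i)

/-- `Spec` of a localization embeds into `Spec`. -/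
noncomputable def localizationEmbedding {R : Type u} [CommRing R] (M : Submonoid R) (S : Type u)
    [CommRing S] [Algebra R S] [IsLocalization M S] : PrimeSpectrum S ↪o PrimeSpectrum R :=
  OrderEmbedding.ofMapLEIff (comap (algebraMap R S)) fun a b => by
    refine ⟨fun h => ?_, fun h => Ideal.comap_mono h⟩
    have h' : a.asIdeal.under R ≤ b.asIdeal.under R := h
    show a.asIdeal ≤ b.asIdeal
    rw [← IsLocalization.map_under M S a.asIdeal, ← IsLocalization.map_under M S b.asIdeal]
    exact Ideal.map_mono h'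

theorem range_localizationEmbedding {R : Type u} [CommRing R] (M : Submonoid R) (S : Type u)
    [CommRing S] [Algebra R S] [IsLocalization M S] :
    Set.range (localizationEmbedding M S) = {p | Disjoint (M : Set R) p.asIdeal} :=
  localization_comap_range S M

theorem ordConnected_localizationEmbedding {R : Type u} [CommRing R] (M : Submonoid R) (S : Type u)
    [CommRing S] [Algebra R S] [IsLocalization M S] :
    (Set.range (localizationEmbedding M S)).OrdConnected := by
  rw [range_localizationEmbedding]
  exact ⟨fun _ _ _ hb c hc => Set.disjoint_of_subset_right hc.2 hb⟩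

theorem catOrd_localization {R : Type u} [CommRing R] (M : Submonoid R) (S : Type u)
    [CommRing S] [Algebra R S] [IsLocalization M S] (h : CAlg.IsCatenary R) :
    CAlg.IsCatenary S :=
  CatOrd.of_embedding (localizationEmbedding M S) (ordConnected_localizationEmbedding M S) h

theorem isCatenary_of_surjective {R S : Type u} [CommRing R] [CommRing S] (φ : R →+* S)
    (hφ : Function.Surjective φ) (h : CAlg.IsCatenary R) : CAlg.IsCatenary S := by
  refine CatOrd.of_embedding (OrderEmbedding.ofMapLEIff (comap φ) fun a b => ?_) ?_ h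
  · refine ⟨fun h => ?_, fun h => Ideal.comap_mono h⟩
    have h' : a.asIdeal.comap φ ≤ b.asIdeal.comap φ := h
    show a.asIdeal ≤ b.asIdeal
    rw [← Ideal.map_comap_of_surjective φ hφ a.asIdeal, ← Ideal.map_comap_of_surjective φ hφ b.asIdeal]
    exact Ideal.map_mono h'
  · rw [OrderEmbedding.coe_ofMapLEIff, range_comap_of_surjective S φ hφ]
    exact ⟨fun a ha _ _ c hc =>
      (mem_zeroLocus _ _).mpr (((mem_zeroLocus _ _).mp ha).trans hc.1)⟩

theorem isCatenary_iff_localization (R : Type u) [CommRing R] :
    CAlg.IsCatenary R ↔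
      ∀ (m : Ideal R) [m.IsMaximal], CAlg.IsCatenary (Localization.AtPrime m) := by
  refine ⟨fun h m _ => catOrd_localization m.primeCompl _ h, fun h => catOrd_of_below fun q => ?_⟩
  obtain ⟨m, hm, hle⟩ := q.asIdeal.exists_le_maximal q.2.ne_top
  refine ⟨_, inferInstance, localizationEmbedding m.primeCompl (Localization.AtPrime m), h m, ?_⟩
  intro x hx
  rw [range_localizationEmbedding]
  exact Set.disjoint_compl_left_iff_subset.mpr (fun a ha => hle (hx ha))

theorem isUniversallyCatenary_iff_mvPolynomial (R : Type u) [CommRing R] :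
    CAlg.IsUniversallyCatenary R ↔
      IsNoetherianRing R ∧ ∀ n, CAlg.IsCatenary (MvPolynomial (Fin n) R) := by
  refine ⟨fun h => ⟨h.1, fun n => h.2 _ inferInstance⟩, fun h => ⟨h.1, fun S _ _ hS => ?_⟩⟩
  obtain ⟨n, f, hf⟩ := Algebra.FiniteType.iff_quotient_mvPolynomial''.mp hS
  exact isCatenary_of_surjective f.toRingHom hf (h.2 n)

theorem isUniversallyCatenary_iff_localization (R : Type u) [CommRing R] [IsNoetherianRing R] :
    CAlg.IsUniversallyCatenary R ↔
      ∀ (m : Ideal R) [m.IsMaximal], CAlg.IsUniversallyCatenary (Localization.AtPrime m) := by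
  simp only [isUniversallyCatenary_iff_mvPolynomial]
  constructor
  · intro h m _
    refine ⟨IsLocalization.isNoetherianRing m.primeCompl _ inferInstance, fun n => ?_⟩
    exact catOrd_localization (R := MvPolynomial (Fin n) R)
      (m.primeCompl.map (MvPolynomial.C (σ := Fin n))) _ (h.2 n)
  · intro h
    refine ⟨inferInstance, fun n => catOrd_of_below fun q => ?_⟩
    obtain ⟨m, hm, hle⟩ := (q.asIdeal.comap MvPolynomial.C).exists_le_maximal
      (Ideal.IsPrime.ne_top inferInstance)
    refine ⟨_, inferInstance, localizationEmbedding (R := MvPolynomial (Fin n) R)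
      (m.primeCompl.map (MvPolynomial.C (σ := Fin n)))
      (MvPolynomial (Fin n) (Localization.AtPrime m)), (h m).2 n, ?_⟩
    intro x hx
    rw [range_localizationEmbedding, Set.mem_setOf_eq, Set.disjoint_left]
    rintro _ ⟨a, ha, rfl⟩ hax
    exact ha (hle (hx hax))

end Groth.Calg1
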