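import Groth.Agent.Calg1.Completion

/-!
Dimension and regularity of completions of Noetherian local rings.
-/

set_option autoImplicit false
universe u

namespace Groth.Calg1

open IsLocalRing

variable (A : Type u) [CommRing A] [IsLocalRing A] [IsNoetherianRing A]

theorem ringKrullDim_adicCompletion :
    ringKrullDim (AdicCompletion (maximalIdeal A) A) = ringKrullDim A := by
  let C := AdicCompletion (maximalIdeal A) A
  have : IsNoetherianRing C :=
    isNoetherianRing_adicCompletion _ (IsNoetherian.noetherian (maximalIdeal A))
  have : (maximalIdeal C).LiesOver (maximalIdeal A) :=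
    ⟨(IsLocalRing.maximalIdeal_comap (algebraMap A C)).symm⟩
  have h := Ideal.height_eq_height_add_of_liesOver_of_hasGoingDown (maximalIdeal A) (maximalIdeal C)
  have h0 : (maximalIdeal C).map
      (Ideal.Quotient.mk <| (maximalIdeal A).map (algebraMap A C)) = ⊥ := by
    rw [← AdicCompletion.maximalIdeal_eq_map]; exact Ideal.map_quotient_self _
  rw [h0] at h
  have : Nontrivial (C ⧸ (maximalIdeal A).map (algebraMap A C)) := by
    rw [Ideal.Quotient.nontrivial_iff, ← AdicCompletion.maximalIdeal_eq_map]
    exact (maximalIdeal.isMaximal C).ne_top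
  rw [Ideal.height_bot, add_zero] at h
  rw [← maximalIdeal_height_eq_ringKrullDim, ← maximalIdeal_height_eq_ringKrullDim, h]

theorem isRegularLocalRing_adicCompletion_iff :
    IsRegularLocalRing A ↔ IsRegularLocalRing (AdicCompletion (maximalIdeal A) A) := by
  have : IsNoetherianRing (AdicCompletion (maximalIdeal A) A) :=
    isNoetherianRing_adicCompletion _ (IsNoetherian.noetherian (maximalIdeal A))
  rw [isRegularLocalRing_iff, isRegularLocalRing_iff, ringKrullDim_adicCompletion,
    AdicCompletion.spanFinrank_maximalIdeal_eq]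

theorem isDVR_iff_regular_dim_one :
    (∃ _ : IsDomain A, IsDiscreteValuationRing A) ↔ IsRegularLocalRing A ∧ ringKrullDim A = 1 := by
  constructor
  · rintro ⟨_, _⟩
    exact ⟨inferInstance, IsPrincipalIdealRing.ringKrullDim_eq_one A
      (IsDiscreteValuationRing.not_isField A)⟩
  · rintro ⟨hreg, hdim⟩
    have h1 : (maximalIdeal A).spanFinrank = 1 := by
      have := (isRegularLocalRing_iff A).mp hreg
      rw [hdim] at this; exact_mod_cast this
    have fg : (maximalIdeal A).FG := IsNoetherian.noetherian _
    obtain ⟨x, hx⟩ : ∃ x, maximalIdeal A = Ideal.span {x} := by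
      obtain ⟨x, hx⟩ := Set.ncard_eq_one.mp ((Submodule.FG.generators_ncard fg).trans h1)
      exact ⟨x, by rw [← hx]; exact (Submodule.span_generators _).symm⟩
    have hnil : ¬ IsNilpotent x := by
      intro hn
      have : maximalIdeal A ≤ nilradical A := by
        rw [hx, Ideal.span_le, Set.singleton_subset_iff]; exact hn
      have : Ring.KrullDimLE 0 A := .mk₀ fun q hq =>
        (maximalIdeal.isMaximal A).eq_of_le hq.ne_top
          (this.trans (nilradical_le_prime q)) ▸ maximalIdeal.isMaximal A
      have h0 : ringKrullDim A ≤ 0 := Ring.krullDimLE_iff.mp this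
      rw [hdim] at h0
      norm_num at h0
    have hdec : ∀ a : A, a ≠ 0 → ∃ (n : ℕ) (v : Aˣ), a = v * x ^ n := by
      intro a ha
      by_contra hcon
      push Not at hcon
      have : ∀ n, a ∈ maximalIdeal A ^ n := by
        intro n
        induction n with
        | zero => simp
        | succ n ih =>
          rw [hx, Ideal.span_singleton_pow, Ideal.mem_span_singleton] at ih ⊢
          obtain ⟨b, rfl⟩ := ih
          have hb : b ∈ maximalIdeal A := fun hu => hcon n hu.unit (by rw [IsUnit.unit_spec, mul_comm])
          rw [hx, Ideal.mem_span_singleton] at hb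
          rw [pow_succ]; exact mul_dvd_mul_left _ hb
      apply ha
      have h2 : a ∈ ⨅ n, maximalIdeal A ^ n := by simpa [Ideal.mem_iInf] using this
      rwa [Ideal.iInf_pow_eq_bot_of_isLocalRing _ (maximalIdeal.isMaximal A).ne_top] at h2
    have : NoZeroDivisors A := ⟨fun {a b} hab => by
      by_contra hcon
      push Not at hcon
      obtain ⟨n, v, rfl⟩ := hdec a hcon.1
      obtain ⟨m, w, rfl⟩ := hdec b hcon.2
      refine hnil ⟨n + m, ?_⟩
      have : (v * w : A) * x ^ (n + m) = 0 := by rw [pow_add, ← hab]; ring
      exact (v * w).isUnit.mul_right_eq_zero.mp (by simpa using this)⟩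
    have : IsDomain A := NoZeroDivisors.to_isDomain A
    refine ⟨this, ?_⟩
    have hnf : ¬ IsField A := fun hf => by
      rw [ringKrullDim_eq_zero_of_isField hf] at hdim; simp at hdim
    refine ((IsDiscreteValuationRing.TFAE A hnf).out 4 0).mp ?_
    exact ⟨⟨x, hx⟩⟩

theorem isDVR_iff_adicCompletion :
    (∃ _ : IsDomain A, IsDiscreteValuationRing A) ↔
      ∃ _ : IsDomain (AdicCompletion (maximalIdeal A) A),
        IsDiscreteValuationRing (AdicCompletion (maximalIdeal A) A) := by
  have : IsNoetherianRing (AdicCompletion (maximalIdeal A) A) :=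
    isNoetherianRing_adicCompletion _ (IsNoetherian.noetherian (maximalIdeal A))
  rw [isDVR_iff_regular_dim_one A, isDVR_iff_regular_dim_one, ← isRegularLocalRing_adicCompletion_iff,
    ringKrullDim_adicCompletion]

end Groth.Calg1
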