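import Groth.Agent.DualCore.CM
import Groth.Agent.Ega4Algebra2.CMEquiv
import Groth.Agent.S1762
import Groth.Prelude.Def_DualSch

/-!
# Dualizing complexes on schemes, pointwise

Homology commutes with exact functors, stalks of the derived tilde, and the resulting reading of the
cohomology stalks of a dualizing complex on a scheme through an affine chart.
-/

set_option autoImplicit false

universe u

open CategoryTheory CategoryTheory.Limits AlgebraicGeometry

attribute [local instance] HasDerivedCategory.standard

namespace Groth.Calg1.DualSch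

/-- Homology of the image under an exact functor. -/
theorem nonempty_homology_mapDerivedCategory {C D : Type*} [Category C] [Category D] [Abelian C] [Abelian D]
    [HasDerivedCategory C] [HasDerivedCategory D] (F : C ⥤ D) [F.Additive] [PreservesFiniteLimits F]
    [PreservesFiniteColimits F] (K : DerivedCategory C) (i : ℤ) :
    Nonempty ((DerivedCategory.homologyFunctor D i).obj (F.mapDerivedCategory.obj K) ≅
      F.obj ((DerivedCategory.homologyFunctor C i).obj K)) := by
  let L := DerivedCategory.Q.objPreimage K
  let e : DerivedCategory.Q.obj L ≅ K := DerivedCategory.Q.objObjPreimageIso K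
  exact ⟨(DerivedCategory.homologyFunctor D i).mapIso
      (F.mapDerivedCategory.mapIso e.symm ≪≫ F.mapDerivedCategoryFactors.app L) ≪≫
    (DerivedCategory.homologyFunctorFactors D i).app _ ≪≫ (L.sc i).mapHomologyIso F ≪≫
    F.mapIso (((DerivedCategory.homologyFunctorFactors C i).app L).symm ≪≫
      (DerivedCategory.homologyFunctor C i).mapIso e)⟩

/-- Isomorphic module sheaves have equally trivial stalks. -/
theorem nontrivial_stalk_iff_of_iso {X : Scheme.{u}} {F G : X.Modules} (e : F ≅ G) (x : X) :
    Nontrivial (F.presheaf.stalk x) ↔ Nontrivial (G.presheaf.stalk x) :=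
  ((Scheme.Modules.toPresheaf X ⋙ TopCat.Presheaf.stalkFunctor _ x).mapIso e).addCommGroupIsoToAddEquiv.toEquiv.nontrivial_congr

/-- Homology of the derived tilde. -/
theorem nonempty_homology_tildeD (R : CommRingCat.{u}) [PreservesFiniteLimits (tilde.functor R)]
    (K : DerivedCategory (ModuleCat.{u} R)) (i : ℤ) :
    Nonempty (DCoh.HD ((DCoh.tildeD R).obj K) i ≅
      (tilde.functor R).obj ((DerivedCategory.homologyFunctor (ModuleCat.{u} R) i).obj K)) :=
  nonempty_homology_mapDerivedCategory (tilde.functor R) K i

theorem nontrivial_stalk_restrict {X U : Scheme.{u}} (j : U ⟶ X) [IsOpenImmersion j] (F : X.Modules) (x : U) :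
    Nontrivial (((Scheme.Modules.restrictFunctor j).obj F).presheaf.stalk x) ↔
      Nontrivial (F.presheaf.stalk (j x)) :=
  ((Scheme.Modules.restrictStalkNatIso j x).app F).addCommGroupIsoToAddEquiv.toEquiv.nontrivial_congr

set_option backward.isDefEq.respectTransparency.types false in
theorem nontrivial_stalk_tilde {R : CommRingCat.{u}} (M : ModuleCat.{u} R) (x : PrimeSpectrum R) :
    Nontrivial ((tilde M).presheaf.stalk x) ↔ Nontrivial (LocalizedModule x.asIdeal.primeCompl M) :=
  (IsLocalizedModule.iso x.asIdeal.primeCompl (tilde.toStalk M x).hom).toEquiv.nontrivial_congr.symm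

variable {A : Type u} [CommRing A] [IsNoetherianRing A]

theorem nontrivial_localized_hom_iff_HD (ω : Dual.D A) (p : Ideal A) [p.IsPrime] (i : ℤ) :
    Nontrivial (LocalizedModule p.primeCompl (Dual.inD A A ⟶ ω⟦i⟧)) ↔
      Nontrivial (LocalizedModule p.primeCompl (Dual.HD A ω i)) :=
  (IsLocalizedModule.mapEquiv p.primeCompl (LocalizedModule.mkLinearMap p.primeCompl _)
    (LocalizedModule.mkLinearMap p.primeCompl _) (Localization.AtPrime p)
    (Groth.DualCore.homAEquiv ω i)).toEquiv.nontrivial_congr

/-- A prime sees some cohomology of a dualizing complex. -/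
theorem exists_nontrivial_localized_HD (ω : Dual.D A) (hω : Dual.IsDualizing A ω) (p : Ideal A) [p.IsPrime] :
    ∃ i : ℤ, Nontrivial (LocalizedModule p.primeCompl (Dual.HD A ω i)) := by
  obtain ⟨q, hq, hqp⟩ := Ideal.exists_minimalPrimes_le (bot_le : (⊥ : Ideal A) ≤ p)
  obtain ⟨i, hi, -⟩ := Groth.Agent.S1762.result A ω hω q hq
  have hmem : (⟨q, hq.1.1⟩ : PrimeSpectrum A) ∈ Module.support A (Dual.HD A ω i) := hi
  exact ⟨i, Module.mem_support_mono (q := ⟨p, inferInstance⟩) hqp hmem⟩

set_option backward.isDefEq.respectTransparency.types false in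
/-- The cohomology stalks on a chart are the localizations of the cohomology modules. -/
theorem nontrivial_stalk_chart {X : Scheme.{u}}
    [∀ (U : Scheme.{u}) (j : U ⟶ X) [IsOpenImmersion j], PreservesFiniteLimits (Scheme.Modules.restrictFunctor j)]
    [∀ (R : CommRingCat.{u}), PreservesFiniteLimits (tilde.functor R)]
    (K : DCoh.D X) (j : Spec (CommRingCat.of A) ⟶ X) [IsOpenImmersion j] (ω : Dual.D A)
    (e : (DCoh.restrictD j).obj K ≅ (DCoh.tildeD (CommRingCat.of A)).obj ω)
    (p : PrimeSpectrum A) (i : ℤ) :
    Nontrivial ((DCoh.HD K i).presheaf.stalk (j p)) ↔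
      Nontrivial (LocalizedModule p.asIdeal.primeCompl (Dual.HD A ω i)) := by
  obtain ⟨e1⟩ := nonempty_homology_mapDerivedCategory (Scheme.Modules.restrictFunctor j) K i
  obtain ⟨e2⟩ := nonempty_homology_tildeD (CommRingCat.of A) ω i
  rw [← nontrivial_stalk_restrict j (DCoh.HD K i) p,
    nontrivial_stalk_iff_of_iso (e1.symm ≪≫ (DerivedCategory.homologyFunctor _ i).mapIso e ≪≫ e2) p]
  exact nontrivial_stalk_tilde (R := CommRingCat.of A) ((DerivedCategory.homologyFunctor (ModuleCat.{u} A) i).obj ω) p

set_option backward.isDefEq.respectTransparency.types false in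
omit [IsNoetherianRing A] in
/-- The stalk of a scheme at a point of a chart is the localization. -/
theorem isCM_stalk_chart {X : Scheme.{u}} (j : Spec (CommRingCat.of A) ⟶ X) [IsOpenImmersion j]
    (p : PrimeSpectrum A) :
    LocCoh.IsCohenMacaulayLocalRing (X.presheaf.stalk (j p)) ↔
      LocCoh.IsCohenMacaulayLocalRing (Localization.AtPrime p.asIdeal) := by
  haveI : IsLocalization.AtPrime ((Spec.structureSheaf A).presheaf.stalk p) p.asIdeal := inferInstance
  let e : X.presheaf.stalk (j p) ≃+* Localization.AtPrime p.asIdeal :=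
    (asIso (j.stalkMap p)).commRingCatIsoToRingEquiv.trans
      (IsLocalization.algEquiv p.asIdeal.primeCompl ((Spec.structureSheaf A).presheaf.stalk p)
        (Localization.AtPrime p.asIdeal)).toRingEquiv
  exact ⟨fun h => Groth.Ega4b.isCohenMacaulayLocalRing_of_ringEquiv e h,
    fun h => Groth.Ega4b.isCohenMacaulayLocalRing_of_ringEquiv e.symm h⟩

end Groth.Calg1.DualSch
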