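import Groth.Agent.DAlg.Classes
import Groth.Agent.DAlg.PCoh
import Groth.Agent.PCohPunctual.Infinite

/-!
Pseudo-coherent objects of `D(A)`: equivalences, triangles, top cohomology.
-/

set_option autoImplicit false

universe u

open CategoryTheory CategoryTheory.Limits CategoryTheory.Pretriangulated

attribute [local instance] HasDerivedCategory.standard

namespace Groth.Calg1

open Groth.DAlg PCohPunctual

variable {R : Type u} [CommRing R]

theorem forall_iff_exists_finProj (K : Dual.D R) :
    (∀ m : ℤ, DRing.IsPseudoCoherent R m K) ↔ ∃ (E : DRing.Cx R) (b : ℤ), DRing.VanishesAbove E b ∧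
      DRing.TermwiseFiniteProjective E ∧ Nonempty (DRing.toD E ≅ K) := by
  constructor
  · intro h
    obtain ⟨E, b, hb, hE, he⟩ := isPseudoCoherent'_iff_forall.2 h
    exact ⟨E, b, hb, fun i => ⟨(hE i).1, haveI := (hE i).2; inferInstance⟩, he⟩
  · rintro ⟨E, b, hb, hE, he⟩
    exact isPseudoCoherent'_iff_forall.1 (isPseudoCoherent'_iff_isPC.2 (isPC_finProj_iff.1 fun n =>
      ⟨E, ⟨⟨b, hb⟩, fun i _ => hE i⟩, he⟩))

theorem isPseudoCoherent_triangle (T : Triangle (Dual.D R)) (hT : T ∈ distinguishedTriangles) (m : ℤ) :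
    (DRing.IsPseudoCoherent R (m + 1) T.obj₁ → DRing.IsPseudoCoherent R m T.obj₂ →
        DRing.IsPseudoCoherent R m T.obj₃) ∧
      (DRing.IsPseudoCoherent R m T.obj₁ → DRing.IsPseudoCoherent R m T.obj₃ →
        DRing.IsPseudoCoherent R m T.obj₂) ∧
      (DRing.IsPseudoCoherent R (m + 1) T.obj₂ → DRing.IsPseudoCoherent R m T.obj₃ →
        DRing.IsPseudoCoherent R (m + 1) T.obj₁) := by
  simp only [isPseudoCoherent_iff]
  exact ⟨PCn.cone (isAdditiveSub_finFree R) (isQuasiStable_finFree R) (isQuasiLiftable_finFree R) hT,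
    PCn.ext (isAdditiveSub_finFree R) (isQuasiStable_finFree R) (isQuasiLiftable_finFree R) hT,
    PCn.fiber (isAdditiveSub_finFree R) (isQuasiStable_finFree R) (isQuasiLiftable_finFree R) hT⟩

theorem finite_top (K : Dual.D R) (m : ℤ) (h : DRing.IsPseudoCoherent R m K)
    (hac : ∀ i : ℤ, m < i → IsZero ((DerivedCategory.homologyFunctor (ModuleCat.{u} R) i).obj K)) :
    Module.Finite R ((DerivedCategory.homologyFunctor (ModuleCat.{u} R) m).obj K) :=
  (finite_iff_ft R _).1 (ft_of_pcn (isQuasiStable_finFree R) hac (isPseudoCoherent_iff.1 h))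

theorem finitePresentation_top (K : Dual.D R) (m : ℤ) (h : DRing.IsPseudoCoherent R m K)
    (hac : ∀ i : ℤ, m + 1 < i → IsZero ((DerivedCategory.homologyFunctor (ModuleCat.{u} R) i).obj K)) :
    Module.FinitePresentation R ((DerivedCategory.homologyFunctor (ModuleCat.{u} R) (m + 1)).obj K) := by
  obtain ⟨E, hE, hz, ⟨e⟩⟩ := exists_vanishing_above (isAdditiveSub_finFree R) (isQuasiStable_finFree R)
    (isQuasiLiftable_finFree R) (isPseudoCoherent_iff.1 h) (m := m + 2) (fun i hi => hac i (by omega))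
  obtain ⟨hf₁, hfree₁⟩ := hE.2 (m + 1) (by omega)
  obtain ⟨hf₀, hfree₀⟩ := hE.2 m le_rfl
  haveI := ModuleCat.subsingleton_of_isZero (hz (m + 1 + 1) (by omega))
  let L := LinearMap.ker (E.d (m + 1) (m + 1 + 1)).hom
  have htop : L = ⊤ := eq_top_iff.2 fun x _ => Subsingleton.elim _ _
  let S := LinearMap.range (E.d m (m + 1)).hom
  haveI : Module.FinitePresentation R (E.X (m + 1)) := Module.finitePresentation_of_projective R _
  have hS : S.FG := by
    rw [show S = Submodule.map (E.d m (m + 1)).hom ⊤ from (Submodule.map_top _).symm]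
    exact Module.Finite.fg_top.map _
  haveI : Module.FinitePresentation R (E.X (m + 1) ⧸ S) :=
    Module.finitePresentation_of_surjective S.mkQ (Submodule.mkQ_surjective S) (by rwa [Submodule.ker_mkQ])
  have e1 : (L ⧸ S.comap L.subtype) ≃ₗ[R] E.X (m + 1) ⧸ S :=
    Submodule.Quotient.equiv _ _ (LinearEquiv.ofTop L htop) (by
      ext x
      constructor
      · rintro ⟨y, hy, rfl⟩
        exact hy
      · intro hx
        exact ⟨⟨x, htop ▸ Submodule.mem_top⟩, hx, rfl⟩)
  exact Module.FinitePresentation.of_equiv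
    (((HDEquiv E (m + 1)).trans (FlatCxBase.homologyEquivQuot E (CochainComplex.prev ℤ (m + 1) |>.trans (by omega))
      (CochainComplex.next ℤ (m + 1))).symm).trans e1 |>.symm.trans (HDCongr e (m + 1)))

end Groth.Calg1
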