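import Mathlib
import Groth.Prelude.Def_CAlg
import Groth.Agent.Calg6.CMSop
import Groth.Agent.FlatMorOne.LocalCriterion
import Groth.Agent.Ega4Algebra2.FlatRegular

/-!
Miracle flatness.
-/

set_option autoImplicit false

universe u

open IsLocalRing RingTheory.Sequence

namespace Groth.Calg1

/-- A local map from a regular local ring to a Cohen–Macaulay local ring satisfying the dimension
equality is flat. -/
theorem flat_of_isRegularLocalRing_of_isCohenMacaulay (R S : Type u) [CommRing R] [CommRing S]
    [hR : IsRegularLocalRing R] [hS : LocCoh.IsCohenMacaulayLocalRing S] [Algebra R S]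
    [IsLocalHom (algebraMap R S)]
    (hdim : ringKrullDim S = ringKrullDim R + ringKrullDim (S ⧸ (maximalIdeal R).map (algebraMap R S))) :
    Module.Flat R S := by
  have hfg : (maximalIdeal R).FG := IsNoetherian.noetherian _
  have hfin := Submodule.FG.finite_generators hfg
  let d := hfin.toFinset.card
  let f : Fin d → R := fun i => (hfin.toFinset.equivFin.symm i).1
  have hd : ringKrullDim R = (d : WithBot ℕ∞) := by
    rw [← hR.spanFinrank_maximalIdeal, ← Submodule.FG.generators_ncard hfg, Set.ncard_eq_toFinset_card _ hfin]
  have hspan : Ideal.span (Set.range f) = maximalIdeal R := by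
    have hr : Set.range f = Submodule.generators (maximalIdeal R) := by
      ext x
      constructor
      · rintro ⟨i, rfl⟩
        exact hfin.mem_toFinset.1 (hfin.toFinset.equivFin.symm i).2
      · intro hx
        exact ⟨hfin.toFinset.equivFin ⟨x, hfin.mem_toFinset.2 hx⟩, by simp [f]⟩
    rw [hr]
    exact Submodule.span_generators _
  have hmem : ∀ x ∈ (List.ofFn f).map (algebraMap R S), x ∈ maximalIdeal S := by
    intro x hx
    obtain ⟨r, hr, rfl⟩ := List.mem_map.1 hx
    obtain ⟨i, rfl⟩ := List.mem_ofFn.1 hr
    have : f i ∈ maximalIdeal R := hspan ▸ Ideal.subset_span ⟨i, rfl⟩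
    exact fun hu => this (isUnit_of_map_unit _ _ hu)
  have hmap : Ideal.ofList ((List.ofFn f).map (algebraMap R S)) = (maximalIdeal R).map (algebraMap R S) := by
    rw [← Ideal.map_ofList, ← hspan]
    congr 1
    simp [Ideal.ofList, List.mem_ofFn, Set.range]
  have hweak : IsWeaklyRegular S ((List.ofFn f).map (algebraMap R S)) := by
    refine Groth.Calg6.isWeaklyRegular_of_supportDim_add_length_le _ S hS.supportDim_eq_depth hmem ?_
    rw [hmap, smul_eq_mul, Ideal.mul_top, Module.supportDim_quotient_eq_ringKrullDim,
      Module.supportDim_self_eq_ringKrullDim, hdim, hd, add_comm]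
    simp
  have hweakR : IsWeaklyRegular S (List.ofFn f) := (isWeaklyRegular_map_algebraMap_iff S S _).1 hweak
  have h1 : Function.Injective ((maximalIdeal R).subtype.rTensor S) := by
    have h := Groth.Ega4b.rTensor_injective_of_isWeaklyRegular f hweakR
    rwa [hspan] at h
  haveI := Groth.FlatMorOne.flat_residue_quotient R (TensorProduct R (R ⧸ maximalIdeal R) S)
  exact Groth.FlatMorOne.flat_of_rTensor_injective (S := S) (maximalIdeal R)
    (Groth.FlatMorOne.map_le_jacobson_of_isLocalHom Ideal.IsPrime.ne_top') h1

end Groth.Calg1
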