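import Mathlib

/-!
Coefficient fields of complete local rings of residue characteristic zero.
-/

set_option autoImplicit false
universe u

namespace Groth.Calg1

open IsLocalRing

theorem formallySmooth_rat (k : Type u) [Field k] [Algebra ℚ k] : Algebra.FormallySmooth ℚ k := by
  obtain ⟨s, hs⟩ := exists_isTranscendenceBasis ℚ k
  have := hs.isAlgebraic_field
  have : CharZero k := charZero_of_injective_algebraMap (algebraMap ℚ k).injective
  have : Algebra.IsSeparable (IntermediateField.adjoin ℚ (Set.range ((↑) : s → k))) k :=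
    Algebra.IsAlgebraic.isSeparable_of_perfectField
  exact Algebra.FormallySmooth.of_algebraicIndependent_of_isSeparable hs.1

theorem exists_section (R : Type u) [CommRing R] [IsLocalRing R]
    [IsAdicComplete (maximalIdeal R) R] [CharZero (ResidueField R)] :
    ∃ s : ResidueField R →+* R, (residue R).comp s = RingHom.id _ := by
  let m := maximalIdeal R
  let φ : ℚ →+* R := IsLocalization.lift (M := nonZeroDivisors ℤ) (g := Int.castRingHom R)
    (fun y => by
      by_contra hu
      have h0 : residue R ((y : ℤ) : R) = 0 := Ideal.Quotient.eq_zero_iff_mem.mpr hu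
      rw [map_intCast, Int.cast_eq_zero] at h0
      exact nonZeroDivisors.coe_ne_zero y h0)
  let : Algebra ℚ R := φ.toAlgebra
  let : Algebra ℚ (ResidueField R) := ((residue R).comp φ).toAlgebra
  have : IsScalarTower ℚ R (ResidueField R) := IsScalarTower.of_algebraMap_eq fun _ => rfl
  have := formallySmooth_rat (ResidueField R)
  have hle : m ^ 1 ≤ m := by simp
  let q0 : (R ⧸ m ^ 1) →ₐ[ℚ] ResidueField R :=
    { Ideal.Quotient.factor hle with commutes' := fun r => rfl }
  have hq0 : Function.Bijective q0 := by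
    refine ⟨(RingHom.injective_iff_ker_eq_bot _).mpr ?_, Ideal.Quotient.factor_surjective hle⟩
    show RingHom.ker (Ideal.Quotient.factor hle) = ⊥
    rw [Ideal.Quotient.factor_ker, Ideal.map_mk_eq_bot_of_le]
    simp
  let π : ∀ n, (R ⧸ m ^ (n + 2)) →ₐ[ℚ] R ⧸ m ^ (n + 1) := fun n =>
    Ideal.Quotient.factorₐ ℚ (Ideal.pow_le_pow_right (by omega))
  have hnil : ∀ n, IsNilpotent (RingHom.ker (π n : (R ⧸ m ^ (n + 2)) →+* R ⧸ m ^ (n + 1))) := by
    intro n
    refine ⟨2, ?_⟩
    have : RingHom.ker (π n : (R ⧸ m ^ (n + 2)) →+* R ⧸ m ^ (n + 1)) =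
        (m ^ (n + 1)).map (Ideal.Quotient.mk _) :=
      Ideal.Quotient.factor_ker (Ideal.pow_le_pow_right (by omega))
    rw [this, ← Ideal.map_pow, ← pow_mul]
    exact Ideal.map_mk_eq_bot_of_le (Ideal.pow_le_pow_right (by omega))
  let f : ∀ n, ResidueField R →ₐ[ℚ] R ⧸ m ^ (n + 1) := fun n =>
    Nat.rec (AlgEquiv.ofBijective q0 hq0).symm.toAlgHom
      (fun n fn => Algebra.FormallySmooth.liftOfSurjective fn (π n)
        (Ideal.Quotient.factor_surjective (Ideal.pow_le_pow_right (by omega))) (hnil n)) n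
  have hf : ∀ n, (π n).comp (f (n + 1)) = f n := fun n =>
    Algebra.FormallySmooth.comp_liftOfSurjective _ _ _ _
  have ha : StrictMono (fun n : ℕ => n + 1) := fun a b h => by simpa using h
  let s := IsAdicComplete.StrictMono.liftRingHom m ha (fun n => (f n).toRingHom)
    (fun {k} => congrArg AlgHom.toRingHom (hf k))
  refine ⟨s, RingHom.ext fun x => ?_⟩
  have h1 : Ideal.Quotient.mk (m ^ 1) (s x) = f 0 x :=
    IsAdicComplete.StrictMono.mk_liftRingHom m ha _ _ (n := 0) x
  have h2 : q0 (f 0 x) = x := (AlgEquiv.ofBijective q0 hq0).apply_symm_apply x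
  rw [← h1] at h2
  exact h2

end Groth.Calg1
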