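import Mathlib
import Groth.Prelude.Def_CAlgX

/-!
Tensor products and products; universal injectivity; base change of Hom for torsion modules.
-/

set_option autoImplicit false
universe u

namespace Groth.Calg1

open TensorProduct

section piRight

variable {R : Type u} [CommRing R]

lemma piRightHom_lTensor {M N : Type u} [AddCommGroup M] [Module R M] [AddCommGroup N] [Module R N]
    {ι : Type u} {Q : ι → Type u} [∀ i, AddCommGroup (Q i)] [∀ i, Module R (Q i)]
    (f : M →ₗ[R] N) (x : M ⊗[R] (∀ i, Q i)) (i : ι) :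
    piRightHom R R N Q (f.rTensor _ x) i = f.rTensor _ (piRightHom R R M Q x i) := by
  induction x using TensorProduct.induction_on with
  | zero => simp
  | tmul m q => simp
  | add a b ha hb => simp [ha, hb]

lemma exists_pi_tmul (n : ℕ) {N : Type u} [AddCommGroup N] [Module R N]
    (x : (Fin n → R) ⊗[R] N) : ∃ q : Fin n → N, x = ∑ k, Pi.single k (1 : R) ⊗ₜ[R] q k := by
  induction x using TensorProduct.induction_on with
  | zero => exact ⟨0, by simp⟩
  | tmul v m =>
    refine ⟨fun k => v k • m, ?_⟩
    conv_lhs => rw [pi_eq_sum_univ' v, TensorProduct.sum_tmul]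
    exact Finset.sum_congr rfl fun k _ => by rw [smul_tmul]
  | add a b ha hb =>
    obtain ⟨q, rfl⟩ := ha
    obtain ⟨r, rfl⟩ := hb
    exact ⟨q + r, by simp [tmul_add, Finset.sum_add_distrib]⟩

lemma piRightHom_pi_bijective (n : ℕ) {ι : Type u} (Q : ι → Type u) [∀ i, AddCommGroup (Q i)]
    [∀ i, Module R (Q i)] : Function.Bijective (piRightHom R R (Fin n → R) Q) := by
  refine ⟨(injective_iff_map_eq_zero _).mpr fun x hx => ?_, fun y => ?_⟩
  · obtain ⟨q, rfl⟩ := exists_pi_tmul n x
    refine Finset.sum_eq_zero fun k _ => ?_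
    have hk : q k = 0 := funext fun i => by
      have h := congrArg (fun z => (piScalarRight R R (Q i) (Fin n))
        (TensorProduct.comm R (Fin n → R) (Q i) z) k) (congrFun hx i)
      simpa [Finset.sum_apply, Pi.single_apply, Finset.sum_ite_eq, ite_smul] using h
    simp [hk]
  · choose q hq using fun i => exists_pi_tmul n (y i)
    exact ⟨∑ k, Pi.single k (1 : R) ⊗ₜ[R] fun i => q i k, funext fun i => by simp [hq i]⟩

variable {M : Type u} [AddCommGroup M] [Module R M]

lemma piRightHom_surjective_of_finite [Module.Finite R M] {ι : Type u} (Q : ι → Type u)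
    [∀ i, AddCommGroup (Q i)] [∀ i, Module R (Q i)] :
    Function.Surjective (piRightHom R R M Q) := by
  obtain ⟨n, π, hπ⟩ := Module.Finite.exists_fin' R M
  intro y
  choose z hz using fun i => LinearMap.rTensor_surjective (Q i) hπ (y i)
  obtain ⟨w, hw⟩ := (piRightHom_pi_bijective n Q).2 z
  exact ⟨π.rTensor _ w, funext fun i => by rw [piRightHom_lTensor, hw, hz]⟩

theorem module_finite_iff_piRightHom_surjective :
    Module.Finite R M ↔ ∀ (ι : Type u) (Q : ι → Type u) [∀ i, AddCommGroup (Q i)]
      [∀ i, Module R (Q i)], Function.Surjective (piRightHom R R M Q) := by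
  refine ⟨fun _ ι Q _ _ => piRightHom_surjective_of_finite Q, fun h => ?_⟩
  obtain ⟨x, hx⟩ := h M (fun _ => R) fun m => m ⊗ₜ[R] 1
  obtain ⟨S, hS⟩ := TensorProduct.exists_finset x
  classical
  refine ⟨⟨S.image Prod.fst, top_le_iff.mp fun m _ => ?_⟩⟩
  have := congrArg (TensorProduct.rid R M) (congrFun hx m)
  simp only [hS, map_sum, Finset.sum_apply, piRightHom_tmul, rid_tmul, one_smul] at this
  rw [← this]
  exact Submodule.sum_mem _ fun p hp => Submodule.smul_mem _ _
    (Submodule.subset_span (Finset.mem_coe.mpr (Finset.mem_image_of_mem Prod.fst hp)))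

theorem finitePresentation_iff_piRightHom_bijective :
    Module.FinitePresentation R M ↔ ∀ (ι : Type u) (Q : ι → Type u) [∀ i, AddCommGroup (Q i)]
      [∀ i, Module R (Q i)], Function.Bijective (piRightHom R R M Q) := by
  constructor
  · intro hfp ι Q _ _
    refine ⟨(injective_iff_map_eq_zero _).mpr fun x hx => ?_, piRightHom_surjective_of_finite Q⟩
    obtain ⟨n, π, hπ⟩ := Module.Finite.exists_fin' R M
    have : Module.Finite R (LinearMap.ker π) := ⟨(Submodule.fg_top _).mpr (Module.FinitePresentation.fg_ker π hπ)⟩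
    have hex : ∀ (N : Type u) [AddCommGroup N] [Module R N],
        Function.Exact ((LinearMap.ker π).subtype.rTensor N) (π.rTensor N) := fun N _ _ =>
      rTensor_exact N π.exact_subtype_ker_map hπ
    obtain ⟨y, rfl⟩ := LinearMap.rTensor_surjective _ hπ x
    choose z hz using fun i => (hex (Q i) (piRightHom R R _ Q y i)).mp
      (by rw [← piRightHom_lTensor, hx]; rfl)
    obtain ⟨w, hw⟩ := piRightHom_surjective_of_finite Q z
    have : y = (LinearMap.ker π).subtype.rTensor _ w :=
      (piRightHom_pi_bijective n Q).1 (funext fun i => by rw [piRightHom_lTensor, hw, hz])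
    rw [this]
    exact (hex _).apply_apply_eq_zero w
  · intro h
    have : Module.Finite R M :=
      module_finite_iff_piRightHom_surjective.mpr fun ι Q _ _ => (h ι Q).2
    obtain ⟨n, π, hπ⟩ := Module.Finite.exists_fin' R M
    refine Module.finitePresentation_of_surjective π hπ ?_
    let K := LinearMap.ker π
    obtain ⟨y, hy⟩ := piRightHom_surjective_of_finite (M := Fin n → R) (fun _ : K => R)
      fun k => (k : Fin n → R) ⊗ₜ[R] 1
    have h0 : π.rTensor _ y = 0 := (h _ _).1 (funext fun k => by
      rw [piRightHom_lTensor, hy]; simp [LinearMap.mem_ker.mp k.2])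
    obtain ⟨z, rfl⟩ := (rTensor_exact _ π.exact_subtype_ker_map hπ y).mp h0
    obtain ⟨S, hS⟩ := TensorProduct.exists_finset z
    classical
    refine ⟨S.image fun p => (p.1 : Fin n → R), le_antisymm ?_ fun k hk => ?_⟩
    · rw [Submodule.span_le, Finset.coe_image]
      rintro _ ⟨p, -, rfl⟩
      exact p.1.2
    · have := congrArg (TensorProduct.rid R _) (congrFun hy ⟨k, hk⟩)
      simp only [hS, map_sum, Finset.sum_apply, LinearMap.rTensor_tmul, piRightHom_tmul, rid_tmul,
        one_smul] at this
      rw [← this]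
      exact Submodule.sum_mem _ fun p hp => Submodule.smul_mem _ _
        (Submodule.subset_span (Finset.mem_coe.mpr (Finset.mem_image_of_mem _ hp)))

end piRight

theorem universallyInjective_of_finitePresentation {R M N : Type u} [CommRing R] [AddCommGroup M]
    [Module R M] [AddCommGroup N] [Module R N] (f : M →ₗ[R] N)
    (h : ∀ (Q : Type u) [AddCommGroup Q] [Module R Q], Module.FinitePresentation R Q →
      Function.Injective (f.rTensor Q)) : CAlgX.UniversallyInjective R f := by
  intro Q _ _
  refine (injective_iff_map_eq_zero _).mpr fun x hx => ?_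
  classical
  obtain ⟨S, hS⟩ := TensorProduct.exists_finset x
  obtain ⟨e⟩ : Nonempty (Fin S.card ≃ S) := ⟨S.equivFin.symm⟩
  let π : (Fin S.card → R) →ₗ[R] Q := Fintype.linearCombination R fun i => (e i).1.2
  let x' : M ⊗[R] (Fin S.card → R) := ∑ i, (e i).1.1 ⊗ₜ[R] Pi.single i (1 : R)
  have hx' : π.lTensor M x' = x := by
    rw [hS, ← Finset.sum_coe_sort, ← e.sum_comp, map_sum]
    simp [π, Fintype.linearCombination_apply_single]
  let π' := π.rangeRestrict
  have hπ' : Function.Surjective π' := π.surjective_rangeRestrict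
  let P := LinearMap.range π
  have h0 : π.lTensor N (f.rTensor _ x') = 0 := by
    rw [← LinearMap.comp_apply, LinearMap.lTensor_comp_rTensor, ← LinearMap.rTensor_comp_lTensor,
      LinearMap.comp_apply, hx', hx]
  -- kernel of `N ⊗ π`: go through `Q / range π`-free presentation of a larger module
  let σ : (Fin S.card → R) × (Q →₀ R) →ₗ[R] Q := π.coprod (Finsupp.linearCombination R id)
  have hσ : Function.Surjective σ := fun q => ⟨(0, Finsupp.single q 1), by simp [σ]⟩
  have h1 : σ.lTensor N ((LinearMap.inl R _ (Q →₀ R)).lTensor N (f.rTensor _ x')) = 0 := by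
    rw [← LinearMap.comp_apply (σ.lTensor N), ← LinearMap.lTensor_comp, LinearMap.coprod_inl, h0]
  have hsub : Function.Exact ((LinearMap.ker σ).subtype) σ := LinearMap.exact_subtype_ker_map σ
  obtain ⟨z, hz⟩ := (lTensor_exact (R := R) (M := ↥(LinearMap.ker σ)) (f := (LinearMap.ker σ).subtype) (g := σ) N hsub hσ _).mp h1
  obtain ⟨T, hT⟩ := TensorProduct.exists_finset z
  let V : Set Q := ↑((T.biUnion fun t => (t.2 : (Fin S.card → R) × (Q →₀ R)).2.support))
  let emb : (V →₀ R) →ₗ[R] (Q →₀ R) := Finsupp.lmapDomain R R Subtype.val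
  let ret : (Q →₀ R) →ₗ[R] (V →₀ R) := Finsupp.lcomapDomain Subtype.val Subtype.val_injective
  let F := (Fin S.card → R) × (V →₀ R)
  let j : F →ₗ[R] (Fin S.card → R) × (Q →₀ R) := LinearMap.id.prodMap emb
  let r : (Fin S.card → R) × (Q →₀ R) →ₗ[R] F := LinearMap.id.prodMap ret
  let K₀ : Submodule R F := Submodule.span R ((fun t : N × LinearMap.ker σ => r (t.2 : (Fin S.card → R) × (Q →₀ R))) '' (T : Set (N × LinearMap.ker σ)))
  have hrj : ∀ t ∈ T, j (r (t.2 : (Fin S.card → R) × (Q →₀ R))) = t.2 := by
    intro t ht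
    refine Prod.ext rfl ?_
    exact Finsupp.mapDomain_comapDomain _ Subtype.val_injective _ (by
      intro q hq; exact ⟨⟨q, Finset.mem_coe.mpr (Finset.mem_biUnion.mpr ⟨t, ht, hq⟩)⟩, rfl⟩)
  have : Module.FinitePresentation R (F ⧸ K₀) :=
    Module.finitePresentation_of_surjective K₀.mkQ K₀.mkQ_surjective (by
      rw [Submodule.ker_mkQ]; exact Submodule.fg_span (T.finite_toSet.image _))
  have hK : K₀ ≤ LinearMap.ker (σ ∘ₗ j) := by
    rw [Submodule.span_le]
    rintro _ ⟨t, ht, rfl⟩
    show σ (j (r _)) = 0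
    rw [hrj t ht]; exact t.2.2
  let g : (Fin S.card → R) →ₗ[R] F ⧸ K₀ := K₀.mkQ ∘ₗ LinearMap.inl R _ _
  have h2 : g.lTensor N (f.rTensor _ x') = 0 := by
    have : g = K₀.mkQ ∘ₗ r ∘ₗ LinearMap.inl R _ (Q →₀ R) := LinearMap.ext fun v =>
      congrArg K₀.mkQ (Prod.ext rfl (map_zero ret).symm)
    rw [this, ← LinearMap.comp_assoc, LinearMap.lTensor_comp, LinearMap.comp_apply, ← hz, hT,
      map_sum, map_sum]
    refine Finset.sum_eq_zero fun t ht => ?_
    have : K₀.mkQ (r (t.2 : (Fin S.card → R) × (Q →₀ R))) = 0 :=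
      (Submodule.Quotient.mk_eq_zero _).mpr (Submodule.subset_span (Set.mem_image_of_mem _ ht))
    simp only [LinearMap.lTensor_tmul, LinearMap.comp_apply, Submodule.subtype_apply]
    rw [this, tmul_zero]
  have h3 : g.lTensor M x' = 0 := by
    apply h (F ⧸ K₀) this
    rw [← LinearMap.comp_apply, LinearMap.rTensor_comp_lTensor, ← LinearMap.lTensor_comp_rTensor,
      LinearMap.comp_apply, h2, map_zero]
  rw [← hx']
  have : π = (K₀.liftQ (σ ∘ₗ j) hK) ∘ₗ g := LinearMap.ext fun v => by
    show π v = π v + Finsupp.linearCombination R id (emb 0)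
    rw [map_zero, map_zero, add_zero]
  rw [this, LinearMap.lTensor_comp, LinearMap.comp_apply, h3, map_zero]

section torsion

variable {R S : Type u} [CommRing R] [CommRing S] [Algebra R S] (I : Ideal R)

variable (R S) in
/-- `t ↦ 1 ⊗ t`. -/
noncomputable abbrev one₁ (T : Type u) [AddCommGroup T] [Module R T] : T →ₗ[R] S ⊗[R] T :=
  TensorProduct.mk R S T 1

lemma exists_sub_mem_pow (hq : Function.Surjective (algebraMap (R ⧸ I) (S ⧸ I.map (algebraMap R S))))
    (n : ℕ) (s : S) : ∃ r : R, s - algebraMap R S r ∈ (I ^ n).map (algebraMap R S) := by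
  induction n generalizing s with
  | zero => exact ⟨0, by simp [Ideal.map_top]⟩
  | succ n ih =>
    obtain ⟨c, hc⟩ := hq (Ideal.Quotient.mk _ s)
    obtain ⟨r₀, rfl⟩ := Ideal.Quotient.mk_surjective c
    have h0 : s - algebraMap R S r₀ ∈ I.map (algebraMap R S) := Ideal.Quotient.eq.mp hc.symm
    suffices ∀ x ∈ I.map (algebraMap R S), ∃ r : R,
        x - algebraMap R S r ∈ (I ^ (n + 1)).map (algebraMap R S) by
      obtain ⟨r, hr⟩ := this _ h0
      exact ⟨r₀ + r, by rwa [map_add, ← sub_sub]⟩
    intro x hx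
    rw [Ideal.map, ← Ideal.submodule_span_eq] at hx
    induction hx using Submodule.span_induction with
    | mem y hy => obtain ⟨a, -, rfl⟩ := hy; exact ⟨a, by simp⟩
    | zero => exact ⟨0, by simp⟩
    | add a b _ _ ha hb =>
      obtain ⟨r, hr⟩ := ha
      obtain ⟨r', hr'⟩ := hb
      exact ⟨r + r', by simpa [add_sub_add_comm] using add_mem hr hr'⟩
    | smul c y hy ih' =>
      obtain ⟨r, hr⟩ := ih c
      obtain ⟨r', hr'⟩ := ih'
      refine ⟨r * r', ?_⟩
      have e : c • y - algebraMap R S (r * r') =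
          (c - algebraMap R S r) * y + algebraMap R S r * (y - algebraMap R S r') := by
        rw [smul_eq_mul, map_mul]; ring
      rw [e]
      refine add_mem ?_ (Ideal.mul_mem_left _ _ hr')
      rw [pow_succ, Ideal.map_mul]
      exact Ideal.mul_mem_mul hr hy

lemma mk_one_bijective [Module.Flat R S]
    (hq : Function.Bijective (algebraMap (R ⧸ I) (S ⧸ I.map (algebraMap R S))))
    (T : Type u) [AddCommGroup T] [Module R T] (hT : ∀ x : T, ∃ n : ℕ, ∀ a ∈ I ^ n, a • x = 0) :
    Function.Bijective (one₁ R S T) := by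
  have surj : ∀ (T' : Type u) [AddCommGroup T'] [Module R T'],
      (∀ x : T', ∃ n : ℕ, ∀ a ∈ I ^ n, a • x = 0) → Function.Surjective (one₁ R S T') := by
    intro T' _ _ hT' y
    induction y using TensorProduct.induction_on with
    | zero => exact ⟨0, map_zero _⟩
    | add a b ha hb =>
      obtain ⟨u, rfl⟩ := ha
      obtain ⟨v, rfl⟩ := hb
      exact ⟨u + v, map_add _ _ _⟩
    | tmul s t =>
      obtain ⟨n, hn⟩ := hT' t
      obtain ⟨r, hr⟩ := exists_sub_mem_pow I hq.2 n s
      refine ⟨r • t, ?_⟩
      have : ∀ x ∈ (I ^ n).map (algebraMap R S), x ⊗ₜ[R] t = 0 := by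
        intro x hx
        rw [Ideal.map, ← Ideal.submodule_span_eq] at hx
        have key : ∀ c : S, (c • x) ⊗ₜ[R] t = 0 := by
          induction hx using Submodule.span_induction with
          | mem y hy =>
            obtain ⟨a, ha, rfl⟩ := hy
            intro c
            rw [smul_eq_mul, ← Algebra.commutes, ← Algebra.smul_def, smul_tmul, hn a ha, tmul_zero]
          | zero => simp
          | add a b _ _ ha hb => intro c; rw [smul_add, add_tmul, ha c, hb c, add_zero]
          | smul d y _ hy => intro c; rw [smul_smul]; exact hy _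
        simpa using key 1
      have := this _ hr
      rw [sub_tmul, sub_eq_zero] at this
      rw [this, one₁, TensorProduct.mk_apply, ← smul_tmul, Algebra.algebraMap_eq_smul_one]
  refine ⟨?_, surj T hT⟩
  have inj : ∀ (n : ℕ) (T' : Type u) [AddCommGroup T'] [Module R T'],
      (∀ x : T', ∀ a ∈ I ^ n, a • x = 0) → Function.Injective (one₁ R S T') := by
    intro n
    induction n with
    | zero =>
      intro T' _ _ h a b _
      have : ∀ x : T', x = 0 := fun x => by simpa using h x 1 (by simp)
      rw [this a, this b]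
    | succ n ih =>
      intro T' _ _ h
      refine (injective_iff_map_eq_zero _).mpr fun x hx => ?_
      let U : Submodule R T' := I • ⊤
      let σ : S →ₗ[R] R ⧸ I :=
        ((LinearEquiv.ofBijective (Algebra.linearMap (R ⧸ I) (S ⧸ I.map (algebraMap R S))) hq).symm.toLinearMap.restrictScalars R).comp
          (Ideal.Quotient.mkₐ R (I.map (algebraMap R S))).toLinearMap
      have hσ : σ 1 = 1 := by
        show (LinearEquiv.ofBijective (Algebra.linearMap (R ⧸ I) (S ⧸ I.map (algebraMap R S))) hq).symm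
          (Ideal.Quotient.mk _ 1) = 1
        rw [LinearEquiv.symm_apply_eq]; exact (map_one (algebraMap (R ⧸ I) (S ⧸ I.map (algebraMap R S)))).symm
      let Φ := ((TensorProduct.quotTensorEquivQuotSMul T' I).toLinearMap).comp (σ.rTensor T')
      have hx0 : (Submodule.Quotient.mk x : T' ⧸ U) = 0 := by
        have h2 : Φ ((1 : S) ⊗ₜ[R] x) = Submodule.Quotient.mk x := by
          simp only [Φ, LinearMap.comp_apply, LinearMap.rTensor_tmul, hσ, LinearEquiv.coe_coe]
          rw [← map_one (Ideal.Quotient.mk I), TensorProduct.quotTensorEquivQuotSMul_mk_tmul, one_smul]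
        rw [← h2, show (1 : S) ⊗ₜ[R] x = 0 from hx, map_zero]
      have hxU : x ∈ U := (Submodule.Quotient.mk_eq_zero _).mp hx0
      have hU : ∀ y : U, ∀ a ∈ I ^ n, a • y = 0 := by
        rintro ⟨y, hy⟩ a ha
        refine Subtype.ext ?_
        show a • y = 0
        induction hy using Submodule.smul_induction_on' with
        | smul b hb z _ => rw [smul_smul]; exact h z _ (by rw [pow_succ]; exact Ideal.mul_mem_mul ha hb)
        | add y _ z _ hy hz => rw [smul_add, hy, hz, add_zero]
      have h2 : one₁ R S U ⟨x, hxU⟩ = 0 :=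
        Module.Flat.lTensor_preserves_injective_linearMap (M := S) U.subtype U.injective_subtype
          (by simpa using hx)
      have := ih U hU (h2.trans (map_zero _).symm)
      exact congrArg Subtype.val this
  refine (injective_iff_map_eq_zero _).mpr fun x hx => ?_
  obtain ⟨n, hn⟩ := hT x
  let U : Submodule R T := R ∙ x
  have hU : ∀ y : U, ∀ a ∈ I ^ n, a • y = 0 := by
    rintro ⟨y, hy⟩ a ha
    obtain ⟨c, rfl⟩ := Submodule.mem_span_singleton.mp hy
    exact Subtype.ext (by show a • c • x = 0; rw [smul_comm, hn a ha, smul_zero])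
  have h2 : one₁ R S U ⟨x, Submodule.mem_span_singleton_self x⟩ = 0 :=
    Module.Flat.lTensor_preserves_injective_linearMap (M := S) U.subtype U.injective_subtype
      (by simpa using hx)
  exact congrArg Subtype.val (inj n U hU (h2.trans (map_zero _).symm))

variable {M N : Type u} [AddCommGroup M] [Module R M] [AddCommGroup N] [Module R N]

/-- The `I`-power torsion. -/
def powTorsion (I : Ideal R) (N : Type u) [AddCommGroup N] [Module R N] : Submodule R N where
  carrier := {x | ∃ n : ℕ, ∀ a ∈ I ^ n, a • x = 0}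
  add_mem' := by
    rintro x y ⟨n, hn⟩ ⟨m, hm⟩
    exact ⟨n + m, fun a ha => by
      rw [smul_add, hn a (Ideal.pow_le_pow_right (by omega) ha),
        hm a (Ideal.pow_le_pow_right (by omega) ha), add_zero]⟩
  zero_mem' := ⟨0, fun a _ => smul_zero a⟩
  smul_mem' := fun c x ⟨n, hn⟩ => ⟨n, fun a ha => by rw [smul_comm, hn a ha, smul_zero]⟩

theorem baseChange_hom_bijective [Module.Flat R S] (hI : I.FG)
    (hq : Function.Bijective (algebraMap (R ⧸ I) (S ⧸ I.map (algebraMap R S))))
    (hMN : (∀ x : M, ∃ n : ℕ, ∀ a ∈ I ^ n, a • x = 0) ∨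
      (∀ y : N, ∃ n : ℕ, ∀ a ∈ I ^ n, a • y = 0)) :
    Function.Bijective (fun f : M →ₗ[R] N => LinearMap.baseChange S f) := by
  classical
  let Γ := powTorsion I N
  have hb := mk_one_bijective I hq Γ fun x => x.2.imp fun n hn a ha => Subtype.ext (hn a ha)
  let j : Γ →ₗ[R] S ⊗[R] N := one₁ R S N ∘ₗ Γ.subtype
  have hje : j = Γ.subtype.lTensor S ∘ₗ one₁ R S Γ := LinearMap.ext fun x => by simp [j]
  have hjinj : Function.Injective j := by
    rw [hje, LinearMap.coe_comp]
    exact (Module.Flat.lTensor_preserves_injective_linearMap _ Γ.injective_subtype).comp hb.1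
  have hrange : ∀ y : S ⊗[R] N, (∃ n : ℕ, ∀ a ∈ I ^ n, a • y = 0) → y ∈ LinearMap.range j := by
    rintro y ⟨n, hn⟩
    obtain ⟨c, a, ha⟩ := Submodule.fg_iff_exists_fin_generating_family.mp (hI.pow (n := n))
    have haI : ∀ k, a k ∈ I ^ n := fun k => ha ▸ Submodule.subset_span ⟨k, rfl⟩
    let φ : N →ₗ[R] (Fin c → N) := LinearMap.pi fun k => a k • LinearMap.id
    have h0 : φ.lTensor S y = 0 := (piRight R R S (fun _ : Fin c => N)).injective <| by
      rw [map_zero]
      funext k
      have : ∀ z : S ⊗[R] N, piRight R R S (fun _ : Fin c => N) (φ.lTensor S z) k = a k • z := by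
        intro z
        induction z using TensorProduct.induction_on with
        | zero => simp
        | tmul s x => simp [φ]
        | add u v hu hv => rw [map_add, map_add, Pi.add_apply, hu, hv, smul_add]
      rw [this, hn _ (haI k)]; rfl
    obtain ⟨w, hw⟩ := (Module.Flat.lTensor_exact S (f := (LinearMap.ker φ).subtype) (g := φ)
      φ.exact_subtype_ker_map y).mp h0
    have hle : LinearMap.ker φ ≤ Γ := fun x hx => ⟨n, fun r hr => by
      rw [← ha] at hr
      obtain ⟨d, rfl⟩ := (Submodule.mem_span_range_iff_exists_fun R).mp hr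
      rw [Finset.sum_smul]
      refine Finset.sum_eq_zero fun k _ => ?_
      have : a k • x = 0 := by simpa [φ] using congrFun (LinearMap.mem_ker.mp hx) k
      rw [smul_assoc, this, smul_zero]⟩
    obtain ⟨x, hx⟩ := hb.2 ((Submodule.inclusion hle).lTensor S w)
    refine ⟨x, ?_⟩
    rw [hje, LinearMap.comp_apply, hx, ← LinearMap.comp_apply, ← LinearMap.lTensor_comp,
      Submodule.subtype_comp_inclusion, hw]
  have htor : ∀ f : M →ₗ[R] S ⊗[R] N, ∀ m, ∃ n : ℕ, ∀ a ∈ I ^ n, a • f m = 0 := by
    intro f m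
    rcases hMN with h | h
    · exact (h m).imp fun n hn a ha => by rw [← map_smul, hn a ha, map_zero]
    · generalize f m = y
      induction y using TensorProduct.induction_on with
      | zero => exact ⟨0, fun a _ => smul_zero a⟩
      | tmul s x => exact (h x).imp fun n hn a ha => by rw [← tmul_smul, hn a ha, tmul_zero]
      | add u v hu hv =>
        obtain ⟨n, hn⟩ := hu
        obtain ⟨k, hk⟩ := hv
        exact ⟨n + k, fun a ha => by
          rw [smul_add, hn a (Ideal.pow_le_pow_right (by omega) ha),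
            hk a (Ideal.pow_le_pow_right (by omega) ha), add_zero]⟩
  have hN : ∀ (f : M →ₗ[R] N) m, f m ∈ Γ := fun f m => by
    rcases hMN with h | h
    · exact (h m).imp fun n hn a ha => by rw [← map_smul, hn a ha, map_zero]
    · exact h _
  refine ⟨fun f g hfg => LinearMap.ext fun m => ?_, fun h => ?_⟩
  · have := congrArg (fun z : S ⊗[R] M →ₗ[S] S ⊗[R] N => z (1 ⊗ₜ m)) hfg
    simp only [LinearMap.baseChange_tmul] at this
    exact congrArg Subtype.val (@hjinj ⟨f m, hN f m⟩ ⟨g m, hN g m⟩ this)
  · let h₀ : M →ₗ[R] S ⊗[R] N := h.restrictScalars R ∘ₗ one₁ R S M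
    let f : M →ₗ[R] N := Γ.subtype ∘ₗ (LinearEquiv.ofInjective j hjinj).symm.toLinearMap ∘ₗ
      h₀.codRestrict (LinearMap.range j) fun m => hrange _ (htor h₀ m)
    refine ⟨f, ?_⟩
    refine TensorProduct.AlgebraTensorModule.ext fun s m => ?_
    have hjm : j ((LinearEquiv.ofInjective j hjinj).symm ⟨h₀ m, hrange _ (htor h₀ m)⟩) = h₀ m :=
      congrArg Subtype.val ((LinearEquiv.ofInjective j hjinj).apply_symm_apply _)
    calc LinearMap.baseChange S f (s ⊗ₜ m) = s • ((1 : S) ⊗ₜ[R] f m) := by
          simp [LinearMap.baseChange_tmul, smul_tmul']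
      _ = s • h₀ m := congrArg (s • ·) hjm
      _ = h (s ⊗ₜ m) := by
          show s • h ((1 : S) ⊗ₜ[R] m) = _
          rw [← map_smul, smul_tmul', smul_eq_mul, mul_one]

end torsion

end Groth.Calg1
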