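import Groth.Agent.Calg1.Kaplansky
import Groth.Agent.Calg1.Tensor
import Groth.Agent.Calg2.ML

/-!
Projectivity: flat + Mittag-Leffler + sums of countably generated; faithfully flat descent.
-/

set_option autoImplicit false
universe u

namespace Groth.Calg1

open TensorProduct

variable {R : Type u} [CommRing R]

theorem isMittagLeffler_of_retract {M M' : Type u} [AddCommGroup M] [Module R M] [AddCommGroup M']
    [Module R M'] (s : M →ₗ[R] M') (p : M' →ₗ[R] M) (h : p ∘ₗ s = LinearMap.id)
    (hM' : CAlg.IsMittagLeffler R M') : CAlg.IsMittagLeffler R M := by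
  intro ι Q _ _
  refine (injective_iff_map_eq_zero _).mpr fun x hx => ?_
  have h0 : s.rTensor _ x = 0 := hM' ι Q <| funext fun i => by
    rw [piRightHom_lTensor, hx, Pi.zero_apply, map_zero, map_zero, Pi.zero_apply]
  have : p.rTensor _ (s.rTensor _ x) = x := by
    rw [← LinearMap.rTensor_comp_apply, h, LinearMap.rTensor_id_apply]
  rw [← this, h0, map_zero]

theorem isMittagLeffler_free (X : Type u) : CAlg.IsMittagLeffler R (X →₀ R) := by
  classical
  intro ι Q _ _
  refine (injective_iff_map_eq_zero _).mpr fun z hz => ?_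
  have key : ∀ w : (X →₀ R) ⊗[R] (∀ i, Q i), ∀ x i,
      (TensorProduct.finsuppScalarLeft R (Q i) X) (piRightHom R R _ Q w i) x =
        (TensorProduct.finsuppScalarLeft R (∀ i, Q i) X) w x i := by
    intro w x i
    induction w with
    | zero => simp
    | tmul f q => simp
    | add a b ha hb => simp [ha, hb]
  apply (TensorProduct.finsuppScalarLeft R (∀ i, Q i) X).injective
  rw [map_zero]
  ext x i
  rw [← key, hz]; simp

theorem isMittagLeffler_of_projective (M : Type u) [AddCommGroup M] [Module R M]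
    [Module.Projective R M] : CAlg.IsMittagLeffler R M := by
  obtain ⟨s, hs⟩ := Module.projective_def'.mp ‹Module.Projective R M›
  exact isMittagLeffler_of_retract s _ hs (isMittagLeffler_free M)

theorem projective_of_flat_mittagLeffler {M : Type u} [AddCommGroup M] [Module R M]
    [Module.Flat R M] (hML : CAlg.IsMittagLeffler R M) (hc : CAlg.IsCountablyGenerated R M) :
    Module.Projective R M := by
  classical
  obtain ⟨S, hS, hspan⟩ := hc
  obtain ⟨g, hg⟩ : ∃ g : ℕ → M, S ⊆ Set.range g := by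
    rcases S.eq_empty_or_nonempty with rfl | hne
    · exact ⟨0, Set.empty_subset _⟩
    · obtain ⟨g, hg⟩ := hS.exists_eq_range hne
      exact ⟨g, hg.le⟩
  -- one step
  have step : ∀ (n : ℕ) (b : (Fin n → R) →ₗ[R] M) (x : M), ∃ (m : ℕ) (b' : (Fin m → R) →ₗ[R] M)
      (a : (Fin n → R) →ₗ[R] (Fin m → R)), b' ∘ₗ a = b ∧ x ∈ LinearMap.range b' ∧
      ∀ (N : Type u) [AddCommGroup N] [Module R N],
        LinearMap.ker (b.rTensor N) ≤ LinearMap.ker (a.rTensor N) := by
    intro n b x
    let f : ((Fin n → R) × R) →ₗ[R] M := b.coprod (LinearMap.toSpanSingleton R M x)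
    obtain ⟨Q, _, _, _, a, c, hca, hker⟩ := Groth.Calg2.dominated_of_isMittagLeffler hML f
    obtain ⟨m, h₂, h₃, hc⟩ := Module.Flat.exists_factorization_of_finitePresentation c
    let e := Finsupp.linearEquivFunOnFinite R R (Fin m)
    refine ⟨m, h₃ ∘ₗ e.symm.toLinearMap, e.toLinearMap ∘ₗ h₂ ∘ₗ a ∘ₗ LinearMap.inl R _ _,
      ?_, ⟨e (h₂ (a (0, 1))), ?_⟩, fun N _ _ w hw => ?_⟩
    · refine LinearMap.ext fun v => ?_
      have h1 := LinearMap.congr_fun hca (v, 0)
      rw [hc] at h1
      simpa [f] using h1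
    · have h1 := LinearMap.congr_fun hca (0, 1)
      rw [hc] at h1
      simpa [f] using h1
    · have h1 : f.rTensor N ((LinearMap.inl R (Fin n → R) R).rTensor N w) = 0 := by
        rw [← LinearMap.rTensor_comp_apply, LinearMap.coprod_inl]; exact hw
      have h2 : a.rTensor N ((LinearMap.inl R (Fin n → R) R).rTensor N w) = 0 := by
        have : (LinearMap.inl R (Fin n → R) R).rTensor N w ∈ LinearMap.ker (a.rTensor N) :=
          hker N ▸ LinearMap.mem_ker.mpr h1
        exact this
      rw [LinearMap.mem_ker, LinearMap.rTensor_comp_apply, LinearMap.rTensor_comp_apply,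
        LinearMap.rTensor_comp_apply, h2, map_zero, map_zero]
  choose nx bx ax hax hgx hkx using step
  let T : ℕ → Σ n : ℕ, (Fin n → R) →ₗ[R] M := fun k =>
    Nat.rec ⟨0, 0⟩ (fun k p => ⟨nx p.1 p.2 (g k), bx p.1 p.2 (g k)⟩) k
  let b : ∀ k, (Fin (T k).1 → R) →ₗ[R] M := fun k => (T k).2
  let a : ∀ k, (Fin (T k).1 → R) →ₗ[R] (Fin (T (k + 1)).1 → R) := fun k => ax _ _ (g k)
  have hba : ∀ k, b (k + 1) ∘ₗ a k = b k := fun k => hax _ _ (g k)
  have hk : ∀ k (N : Type u) [AddCommGroup N] [Module R N],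
      LinearMap.ker ((b k).rTensor N) ≤ LinearMap.ker ((a k).rTensor N) := fun k => hkx _ _ (g k)
  have hd : ∀ k, ∃ d : (Fin (T (k + 2)).1 → R) →ₗ[R] (Fin (T (k + 1)).1 → R),
      d ∘ₗ (a (k + 1) ∘ₗ a k) = a k := fun k => by
    refine Groth.Calg2.exists_factor_of_ker_rTensor_le _ _ fun N _ _ w hw => hk k N ?_
    rw [LinearMap.mem_ker] at hw ⊢
    rw [← hba k, ← hba (k + 1), LinearMap.comp_assoc, LinearMap.rTensor_comp_apply, hw, map_zero]
  choose d hd using hd
  let π : (M →₀ R) →ₗ[R] M := Finsupp.linearCombination R id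
  have hπ : Function.Surjective π := fun x => ⟨Finsupp.single x 1, by simp [π]⟩
  choose lift hlift using fun k => Module.projective_lifting_property π (b k) hπ
  -- modified lifts
  let t : ∀ k, {t : (Fin (T (k + 1)).1 → R) →ₗ[R] (M →₀ R) // π ∘ₗ t = b (k + 1)} := fun k =>
    Nat.rec ⟨lift 1, hlift 1⟩ (fun k tk =>
      ⟨lift (k + 2) + (tk.1 - lift (k + 2) ∘ₗ a (k + 1)) ∘ₗ d k, by
        rw [LinearMap.comp_add, ← LinearMap.comp_assoc, LinearMap.comp_sub, ← LinearMap.comp_assoc,
          hlift, tk.2]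
        show b (k + 2) + (b (k + 1) - b (k + 2) ∘ₗ a (k + 1)) ∘ₗ d k = b (k + 2)
        rw [show b (k + 2) ∘ₗ a (k + 1) = b (k + 1) from hba (k + 1), sub_self, LinearMap.zero_comp,
          add_zero]⟩) k
  let s : ∀ k, (Fin (T k).1 → R) →ₗ[R] (M →₀ R) := fun k => (t k).1 ∘ₗ a k
  have hπs : ∀ k, π ∘ₗ s k = b k := fun k => by
    rw [← LinearMap.comp_assoc, (t k).2, hba]
  have hss : ∀ k, s (k + 1) ∘ₗ a k = s k := fun k => by
    show ((lift (k + 2) + ((t k).1 - lift (k + 2) ∘ₗ a (k + 1)) ∘ₗ d k) ∘ₗ a (k + 1)) ∘ₗ a k =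
      (t k).1 ∘ₗ a k
    rw [LinearMap.comp_assoc, LinearMap.add_comp, LinearMap.comp_assoc _ (d k), hd,
      LinearMap.sub_comp, LinearMap.comp_assoc]
    abel
  have hzero : ∀ k v, b k v = 0 → s k v = 0 := fun k v hv => by
    have h0 : v ⊗ₜ[R] (1 : R) ∈ LinearMap.ker ((b k).rTensor R) := by simp [hv]
    have := congrArg (TensorProduct.rid R _) (LinearMap.mem_ker.mp (hk k R h0))
    simp only [LinearMap.rTensor_tmul, rid_tmul, one_smul, map_zero] at this
    simp [s, this]
  have hup : ∀ {j k}, j ≤ k → ∀ v, ∃ w, b k w = b j v ∧ s k w = s j v := by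
    intro j k hjk v
    induction k, hjk using Nat.le_induction with
    | base => exact ⟨v, rfl, rfl⟩
    | succ k _ ih =>
      obtain ⟨w, h1, h2⟩ := ih
      exact ⟨a k w, by rw [← h1, ← hba k]; rfl, by rw [← h2, ← hss k]; rfl⟩
  have hcover : ∀ x : M, ∃ k v, b k v = x := by
    intro x
    have hx : x ∈ Submodule.span R S := hspan ▸ Submodule.mem_top
    induction hx using Submodule.span_induction with
    | mem y hy => obtain ⟨k, rfl⟩ := hg hy; exact ⟨k + 1, hgx _ _ (g k)⟩
    | zero => exact ⟨0, 0, map_zero _⟩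
    | add x y _ _ hx hy =>
      obtain ⟨j, v, rfl⟩ := hx
      obtain ⟨k, w, rfl⟩ := hy
      obtain ⟨v', hv, -⟩ := hup (le_max_left j k) v
      obtain ⟨w', hw, -⟩ := hup (le_max_right j k) w
      exact ⟨_, v' + w', by rw [map_add, hv, hw]⟩
    | smul c x _ hx => obtain ⟨k, v, rfl⟩ := hx; exact ⟨k, c • v, map_smul _ _ _⟩
  choose K V hKV using hcover
  have hwd : ∀ k v x, b k v = x → s (K x) (V x) = s k v := by
    intro k v x hx
    obtain ⟨v', hv, hv'⟩ := hup (le_max_left k (K x)) v
    obtain ⟨w', hw, hw'⟩ := hup (le_max_right k (K x)) (V x)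
    have := hzero _ (w' - v') (by rw [map_sub, hv, hw, hKV, hx, sub_self])
    rw [map_sub, hv', hw', sub_eq_zero] at this
    exact this
  let σ : M →ₗ[R] (M →₀ R) :=
    { toFun := fun x => s (K x) (V x)
      map_add' := fun x y => by
        obtain ⟨v', hv, hv'⟩ := hup (le_max_left (K x) (K y)) (V x)
        obtain ⟨w', hw, hw'⟩ := hup (le_max_right (K x) (K y)) (V y)
        rw [hwd _ (v' + w') _ (by rw [map_add, hv, hw, hKV, hKV]), map_add, hv', hw']
      map_smul' := fun c x => by
        rw [hwd (K x) (c • V x) _ (by rw [map_smul, hKV]), map_smul]; rfl }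
  exact Module.Projective.of_split σ π (LinearMap.ext fun x =>
    (LinearMap.congr_fun (hπs (K x)) (V x)).trans (hKV x))

lemma retraction_of_internal {M : Type u} [AddCommGroup M] [Module R M] {ι : Type u}
    [DecidableEq ι] (N : ι → Submodule R M) (h : DirectSum.IsInternal N) (k : ι) :
    ∃ r : M →ₗ[R] N k, r ∘ₗ (N k).subtype = LinearMap.id := by
  let e := LinearEquiv.ofBijective (DirectSum.coeLinearMap N) h
  refine ⟨DirectSum.component R ι (fun k => N k) k ∘ₗ e.symm.toLinearMap, LinearMap.ext fun x => ?_⟩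
  have he : e.symm (x : M) = DirectSum.lof R ι (fun k => N k) k x := by
    rw [LinearEquiv.symm_apply_eq]; exact (DirectSum.coeLinearMap_lof N k x).symm
  simp [he]

theorem projective_iff (M : Type u) [AddCommGroup M] [Module R M] [dec : ∀ (ι : Type u), DecidableEq ι] :
    Module.Projective R M ↔ (Module.Flat R M ∧ CAlg.IsMittagLeffler R M ∧
      ∃ (ι : Type u) (N : ι → Submodule R M), DirectSum.IsInternal N ∧
        ∀ i, CAlg.IsCountablyGenerated R (N i)) := by
  constructor
  · intro hP
    refine ⟨inferInstance, isMittagLeffler_of_projective M, ?_⟩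
    obtain ⟨κ, L, hL, hc⟩ := exists_internal_countablyGenerated_of_projective (R := R) M
    exact ⟨κ, L, (DirectSum.isInternal_submodule_iff_iSupIndep_and_iSup_eq_top L).mpr hL, hc⟩
  · rintro ⟨hflat, hML, ι, N, hN, hc⟩
    have : ∀ i, Module.Projective R (N i) := fun i => by
      obtain ⟨r, hr⟩ := retraction_of_internal N hN i
      have : Module.Flat R (N i) := Module.Flat.of_retract (N i).subtype r hr
      exact projective_of_flat_mittagLeffler (isMittagLeffler_of_retract _ r hr hML) (hc i)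
    exact Module.Projective.of_equiv (LinearEquiv.ofBijective (DirectSum.coeLinearMap N) hN)

section descent

variable {S : Type u} [CommRing S] [Algebra R S]

theorem mittagLeffler_descent [Module.FaithfullyFlat R S] (M : Type u) [AddCommGroup M] [Module R M]
    (h : CAlg.IsMittagLeffler S (S ⊗[R] M)) : CAlg.IsMittagLeffler R M := by
  intro ι Q _ _
  refine (injective_iff_map_eq_zero _).mpr fun x hx => ?_
  let j : ∀ i, Q i →ₗ[R] S ⊗[R] Q i := fun i => TensorProduct.mk R S (Q i) 1
  let J : (∀ i, Q i) →ₗ[R] (∀ i, S ⊗[R] Q i) := LinearMap.pi fun i => j i ∘ₗ LinearMap.proj i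
  have hnat : ∀ (F : Type u) [AddCommGroup F] [Module R F] (w : F ⊗[R] (∀ i, Q i)) (i : ι),
      piRightHom R R F (fun i => S ⊗[R] Q i) (J.lTensor F w) i =
        (j i).lTensor F (piRightHom R R F Q w i) := fun F _ _ w i => by
    induction w with
    | zero => simp
    | tmul f q => simp [J]
    | add a b ha hb => simp [ha, hb]
  have hjinj : ∀ (F : Type u) [AddCommGroup F] [Module R F] (i : ι),
      Function.Injective ((j i).lTensor F) := fun F _ _ i => by
    refine (injective_iff_map_eq_zero _).mpr fun w hw => ?_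
    refine (Module.FaithfullyFlat.one_tmul_eq_zero_iff (A := S) R (F ⊗[R] Q i) w).mp ?_
    have : ∀ w : F ⊗[R] Q i, TensorProduct.leftComm R F S (Q i) ((j i).lTensor F w) = 1 ⊗ₜ w := by
      intro w
      induction w with
      | zero => simp
      | tmul f q => simp [j]
      | add a b ha hb => simp [ha, hb, tmul_add]
    rw [← this, hw, map_zero]
  have hJ : Function.Injective (J.lTensor M) := by
    refine Groth.Calg2.lTensor_injective_of_forall_fp J fun F _ _ _ => ?_
    refine (injective_iff_map_eq_zero _).mpr fun w hw => ?_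
    refine (Groth.Calg2.piRightHom_bijective_of_fp (R := R) (P := F) Q).1 (funext fun i => hjinj F i ?_)
    rw [← hnat, hw]; simp
  apply hJ
  rw [map_zero]
  let Θ : ∀ (N : Type u) [AddCommGroup N] [Module R N] [Module S N] [IsScalarTower R S N],
      (S ⊗[R] M) ⊗[S] N ≃+ M ⊗[R] N := fun N _ _ _ _ =>
    (TensorProduct.comm S (S ⊗[R] M) N).toAddEquiv.trans
      ((TensorProduct.AlgebraTensorModule.cancelBaseChange R S S N M).toAddEquiv.trans
        (TensorProduct.comm R N M).toAddEquiv)
  have hΘ : ∀ (w : (S ⊗[R] M) ⊗[S] (∀ i, S ⊗[R] Q i)) (i : ι),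
      Θ _ (piRightHom S S _ (fun i => S ⊗[R] Q i) w i) =
        piRightHom R R M (fun i => S ⊗[R] Q i) (Θ _ w) i := by
    intro w i
    induction w with
    | zero => simp
    | add a b ha hb => simp only [map_add, Pi.add_apply, ha, hb]
    | tmul z q =>
      induction z with
      | zero => simp
      | add a b ha hb => simp only [TensorProduct.add_tmul, map_add, Pi.add_apply, ha, hb]
      | tmul c m => simp [Θ]
  apply (Θ (∀ i, S ⊗[R] Q i)).symm.injective
  rw [map_zero]
  apply h ι
  funext i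
  apply (Θ (S ⊗[R] Q i)).injective
  rw [hΘ, AddEquiv.apply_symm_apply, hnat, hx]
  simp

theorem projective_descent [Module.FaithfullyFlat R S] (M : Type u) [AddCommGroup M] [Module R M]
    [Module.Projective S (S ⊗[R] M)] : Module.Projective R M := by
  classical
  obtain ⟨ι, E, hE, hcE⟩ := exists_internal_countablyGenerated_of_projective (R := S) (S ⊗[R] M)
  let T : Set (Set ι × Set (Submodule R M)) :=
    {a | sSupIndep a.2 ∧ (sSup a.2).baseChange S = sumOn E a.1 ∧ ∀ C ∈ a.2, Module.Projective R C}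
  have hbS : ∀ L : Set (Submodule R M), (sSup L).baseChange S = ⨆ C ∈ L, C.baseChange S := fun L => by
    refine le_antisymm ?_ (iSup₂_le fun C hC => Submodule.baseChange_mono S (le_sSup hC))
    rw [Submodule.baseChange_eq_span, Submodule.span_le]
    rintro _ ⟨x, hx, rfl⟩
    have hle : sSup L ≤ (Submodule.restrictScalars R (⨆ C ∈ L, C.baseChange S)).comap
        (TensorProduct.mk R S M 1) := sSup_le fun C hC y hy =>
      (le_iSup₂ (f := fun C (_ : C ∈ L) => C.baseChange S) C hC)
        (Submodule.tmul_mem_baseChange_of_mem 1 hy)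
    exact hle hx
  obtain ⟨⟨J, L⟩, hmax⟩ := zorn_le₀ T (fun c hcT hchain => by
    refine ⟨(⋃ a ∈ c, a.1, ⋃₀ (Prod.snd '' c)), ⟨?_, ?_, ?_⟩, fun a ha => ⟨?_, ?_⟩⟩
    · refine iSupIndep_sUnion_of_directed ?_ ?_
      · rintro _ ⟨a, ha, rfl⟩ _ ⟨b, hb, rfl⟩
        rcases hchain.total ha hb with h | h
        · exact ⟨b.2, ⟨b, hb, rfl⟩, h.2, subset_rfl⟩
        · exact ⟨a.2, ⟨a, ha, rfl⟩, subset_rfl, h.2⟩
      · rintro _ ⟨a, ha, rfl⟩; exact (hcT ha).1
    · rw [hbS]
      refine le_antisymm (iSup₂_le ?_) (iSup₂_le fun i hi => ?_)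
      · rintro C ⟨_, ⟨a, ha, rfl⟩, hC⟩
        exact (Submodule.baseChange_mono S (le_sSup hC)).trans
          ((hcT ha).2.1.le.trans (sumOn_mono E (Set.subset_biUnion_of_mem ha)))
      · obtain ⟨a, ha, hia⟩ := Set.mem_iUnion₂.mp hi
        refine ((le_sumOn E hia).trans (hcT ha).2.1.ge).trans ?_
        rw [hbS]
        exact iSup₂_le fun C hC => le_iSup₂_of_le C ⟨a.2, ⟨a, ha, rfl⟩, hC⟩ le_rfl
    · rintro C ⟨_, ⟨a, ha, rfl⟩, hC⟩; exact (hcT ha).2.2 C hC
    · exact Set.subset_biUnion_of_mem ha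
    · exact Set.subset_sUnion_of_mem ⟨a, ha, rfl⟩)
  obtain ⟨hind, hsup, hproj⟩ := hmax.prop
  by_cases hall : ∀ i, i ∈ J
  · have h1 : sumOn E J = ⊤ := top_le_iff.mp (hE.2 ▸ iSup_le fun i => le_sumOn E (hall i))
    have htop : sSup L = ⊤ := by
      refine Submodule.baseChange_injective (A := S) ?_
      rw [hsup, h1, Submodule.baseChange_top]
    have hint : DirectSum.IsInternal (fun C : L => (C : Submodule R M)) := by
      rw [DirectSum.isInternal_submodule_iff_iSupIndep_and_iSup_eq_top]
      exact ⟨(sSupIndep_iff L).mp hind, by rw [← sSup_eq_iSup', htop]⟩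
    have : ∀ C : L, Module.Projective R (C : Submodule R M) := fun C => hproj C C.2
    exact Module.Projective.of_equiv (LinearEquiv.ofBijective (DirectSum.coeLinearMap _) hint)
  exfalso
  push Not at hall
  obtain ⟨i, hi⟩ := hall
  let M₁ := sSup L
  -- elements of `M` whose base change sees `E i`
  have genM : ∀ s : Set (S ⊗[R] M), s.Countable → ∃ t : Set M, t.Countable ∧
      s ⊆ (Submodule.span R t).baseChange S := by
    intro s hs
    choose F hF using fun x : S ⊗[R] M => TensorProduct.exists_finset x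
    refine ⟨⋃ x ∈ s, Prod.snd '' (F x : Set (S × M)),
      hs.biUnion fun x _ => ((F x).countable_toSet.image _), fun x hx => ?_⟩
    rw [SetLike.mem_coe, hF x]
    exact Submodule.sum_mem _ fun p hp => Submodule.tmul_mem_baseChange_of_mem _
      (Submodule.subset_span (Set.mem_biUnion hx ⟨p, hp, rfl⟩))
  have step : ∀ K : {K : Set ι // K.Countable}, ∃ (t : Set M) (K' : {K : Set ι // K.Countable}),
      t.Countable ∧ sumOn E K.1 ≤ (Submodule.span R t).baseChange S ∧
        (Submodule.span R t).baseChange S ≤ sumOn E K'.1 := by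
    intro K
    obtain ⟨s, hs, hspan⟩ := exists_countable_generators E hcE K.2
    obtain ⟨t, ht, hst⟩ := genM s hs
    obtain ⟨K', hK', hK''⟩ := exists_countable_support E hE.2 (ht.image (TensorProduct.mk R S M 1))
    refine ⟨t, ⟨K', hK'⟩, ht, hspan ▸ Submodule.span_le.mpr hst, ?_⟩
    rw [Submodule.baseChange_span, Submodule.span_le]
    exact hK''
  choose tt g htt hle₁ hle₂ using step
  let Ks : ℕ → {K : Set ι // K.Countable} := fun n => Nat.rec ⟨{i}, Set.countable_singleton i⟩
    (fun _ K => g K) n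
  let K : Set ι := ⋃ n, (Ks n).1
  let t : Set M := ⋃ n, tt (Ks n)
  have ht : t.Countable := Set.countable_iUnion fun n => htt _
  have hKt : (Submodule.span R t).baseChange S = sumOn E K := by
    refine le_antisymm ?_ ?_
    · rw [Submodule.baseChange_span, Submodule.span_le, Set.image_iUnion, Set.iUnion_subset_iff]
      intro n
      rintro _ ⟨x, hx, rfl⟩
      exact sumOn_mono E (Set.subset_iUnion (fun m => (Ks m).1) (n + 1))
        (hle₂ (Ks n) (Submodule.tmul_mem_baseChange_of_mem 1 (Submodule.subset_span hx)))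
    · refine iSup₂_le fun k hk => ?_
      obtain ⟨n, hn⟩ := Set.mem_iUnion.mp hk
      exact (le_sumOn E hn).trans ((hle₁ (Ks n)).trans (Submodule.baseChange_mono S
        (Submodule.span_mono (Set.subset_iUnion (fun m => tt (Ks m)) n))))
  let M₂ := M₁ ⊔ Submodule.span R t
  have hM₂ : M₂.baseChange S = sumOn E (J ∪ K) := by
    show (M₁ ⊔ _).baseChange S = _
    rw [sumOn_union, ← hsup, ← hKt]
    refine le_antisymm ?_ (sup_le (Submodule.baseChange_mono S le_sup_left)
      (Submodule.baseChange_mono S le_sup_right))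
    rw [Submodule.baseChange_eq_span, Submodule.span_le]
    rintro _ ⟨x, hx, rfl⟩
    obtain ⟨y, hy, z, hz, rfl⟩ := Submodule.mem_sup.mp hx
    rw [map_add]
    exact add_mem (Submodule.mem_sup_left (Submodule.tmul_mem_baseChange_of_mem 1 hy))
      (Submodule.mem_sup_right (Submodule.tmul_mem_baseChange_of_mem 1 hz))
  let ρ : M₂ →ₗ[R] M₂ ⧸ M₁.comap M₂.subtype := Submodule.mkQ _
  let D := M₂ ⧸ M₁.comap M₂.subtype
  -- `S ⊗ D` is a summand of `S ⊗ M`
  let W : Submodule R M₂ := M₁.comap M₂.subtype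
  let incl : S ⊗[R] M₂ →ₗ[S] S ⊗[R] M := M₂.subtype.baseChange S
  have hincl : Function.Injective incl :=
    Module.Flat.lTensor_preserves_injective_linearMap M₂.subtype M₂.injective_subtype
  let q : S ⊗[R] M₂ →ₗ[S] S ⊗[R] D := ρ.baseChange S
  have hq : Function.Surjective q := LinearMap.lTensor_surjective S (Submodule.mkQ_surjective W)
  have hex : Function.Exact (W.subtype.baseChange S) q :=
    lTensor_exact S (LinearMap.exact_subtype_mkQ W) (Submodule.mkQ_surjective W)
  have hW : ∀ x, incl x ∈ sumOn E J ↔ q x = 0 := by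
    intro x
    have hr : LinearMap.range (incl ∘ₗ W.subtype.baseChange S) = sumOn E J := by
      rw [← hsup, Submodule.baseChange, ← LinearMap.baseChange_comp]
      have hWM₁ : W.map M₂.subtype = M₁ := by
        rw [Submodule.map_comap_subtype]; exact inf_eq_right.mpr le_sup_left
      refine le_antisymm ?_ ?_
      · rintro _ ⟨w, rfl⟩
        let κ : W →ₗ[R] M₁ := LinearMap.codRestrict M₁ (M₂.subtype ∘ₗ W.subtype) fun w => w.2
        have : M₂.subtype ∘ₗ W.subtype = M₁.subtype ∘ₗ κ := rfl
        rw [this, LinearMap.baseChange_comp]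
        exact ⟨κ.baseChange S w, rfl⟩
      · rintro _ ⟨w, rfl⟩
        let κ : M₁ →ₗ[R] W := LinearMap.codRestrict W (Submodule.inclusion le_sup_left) fun w => w.2
        have : M₁.subtype = (M₂.subtype ∘ₗ W.subtype) ∘ₗ κ := rfl
        show M₁.subtype.baseChange S w ∈ _
        rw [this, LinearMap.baseChange_comp]
        simp only [LinearMap.baseChange_comp]
        exact ⟨κ.baseChange S w, rfl⟩
    constructor
    · intro hx
      rw [← hr] at hx
      obtain ⟨w, hw⟩ := hx
      exact (hex x).mpr ⟨w, hincl hw⟩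
    · intro hx
      obtain ⟨w, rfl⟩ := (hex x).mp hx
      rw [← hr]; exact ⟨w, rfl⟩
  let F := sumOn E (K \ J)
  let F' := sumOn E (K \ J)ᶜ
  have hFc : IsCompl F F' := ⟨hE.1.disjoint_biSup_biSup disjoint_compl_right, by
    rw [codisjoint_iff, show F ⊔ F' = sumOn E (K \ J ∪ (K \ J)ᶜ) from (sumOn_union E _ _).symm,
      Set.union_compl_self]
    exact top_le_iff.mp (hE.2 ▸ iSup_le fun j => le_sumOn E (Set.mem_univ j))⟩
  have hFproj : Module.Projective S F := Module.Projective.of_split F.subtype (F.projectionOnto F' hFc)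
    (LinearMap.ext fun x => by simp)
  have hrange : LinearMap.range incl = sumOn E (J ∪ K) := hM₂
  have hFle : F ≤ LinearMap.range incl :=
    hrange ▸ sumOn_mono E (Set.sdiff_subset.trans Set.subset_union_right)
  let Φ : F →ₗ[S] S ⊗[R] D :=
    q ∘ₗ (LinearEquiv.ofInjective incl hincl).symm.toLinearMap ∘ₗ Submodule.inclusion hFle
  have hΦi : ∀ x : F, incl ((LinearEquiv.ofInjective incl hincl).symm (Submodule.inclusion hFle x)) =
      (x : S ⊗[R] M) := fun x =>
    congrArg Subtype.val ((LinearEquiv.ofInjective incl hincl).apply_symm_apply _)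
  have hΦ : Function.Bijective Φ := by
    refine ⟨(injective_iff_map_eq_zero _).mpr fun x hx => ?_, fun y => ?_⟩
    · have h1 : (x : S ⊗[R] M) ∈ sumOn E J := hΦi x ▸ (hW _).mpr hx
      exact Subtype.ext (Submodule.disjoint_def.mp
        (hE.1.disjoint_biSup_biSup Set.disjoint_sdiff_left) _ x.2 h1)
    · obtain ⟨z, rfl⟩ := hq y
      have hz : incl z ∈ sumOn E J ⊔ F := by
        rw [← sumOn_union, Set.union_sdiff_self, ← hrange]
        exact ⟨z, rfl⟩
      obtain ⟨u, hu, v, hv, huv⟩ := Submodule.mem_sup.mp hz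
      refine ⟨⟨v, hv⟩, ?_⟩
      rw [eq_comm, ← sub_eq_zero]
      show q z - q ((LinearEquiv.ofInjective incl hincl).symm (Submodule.inclusion hFle ⟨v, hv⟩)) = 0
      rw [← map_sub, ← hW, map_sub, hΦi, ← huv, add_sub_cancel_right]
      exact hu
  have hDproj : Module.Projective S (S ⊗[R] D) :=
    Module.Projective.of_equiv (LinearEquiv.ofBijective Φ hΦ)
  have : Module.Flat R D := Module.Flat.of_flat_tensorProduct R D S
  have hDc : CAlg.IsCountablyGenerated R D := by
    refine ⟨ρ '' (M₂.subtype ⁻¹' t), (ht.preimage M₂.injective_subtype).image _, ?_⟩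
    rw [← Submodule.map_span, eq_top_iff]
    intro y _
    obtain ⟨⟨x, hx⟩, rfl⟩ := Submodule.mkQ_surjective W y
    obtain ⟨a, ha, b, hb, rfl⟩ := Submodule.mem_sup.mp hx
    refine ⟨⟨b, Submodule.mem_sup_right hb⟩, ?_, ?_⟩
    · refine (Function.Injective.mem_set_image M₂.injective_subtype).mp ?_
      rw [← Submodule.map_coe, SetLike.mem_coe]
      rw [Submodule.map_span, Set.image_preimage_eq_of_subset]
      · exact hb
      · intro z hz; exact ⟨⟨z, Submodule.mem_sup_right (Submodule.subset_span hz)⟩, rfl⟩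
    · refine ((Submodule.Quotient.eq W).mpr ?_).symm
      show (a + b) - b ∈ M₁
      rwa [add_sub_cancel_right]
  have hDP : Module.Projective R D := projective_of_flat_mittagLeffler
    (mittagLeffler_descent D (isMittagLeffler_of_projective (S ⊗[R] D))) hDc
  obtain ⟨σ, hσ⟩ := Module.projective_lifting_property ρ LinearMap.id (Submodule.mkQ_surjective W)
  let τ : D →ₗ[R] M := M₂.subtype ∘ₗ σ
  let C := LinearMap.range τ
  have hτ : Function.Injective τ := by
    refine M₂.injective_subtype.comp ?_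
    exact Function.LeftInverse.injective (g := ρ) (LinearMap.congr_fun hσ)
  have hCproj : Module.Projective R C := Module.Projective.of_equiv (LinearEquiv.ofInjective τ hτ)
  have hdisj : Disjoint C (sSup L) := by
    rw [Submodule.disjoint_def]
    rintro _ ⟨y, rfl⟩ hy
    have h0 : ρ (σ y) = 0 := (Submodule.Quotient.mk_eq_zero W).mpr hy
    rw [show ρ (σ y) = y from LinearMap.congr_fun hσ y] at h0
    rw [h0, map_zero]
  have hsupC : sSup (insert C L) = M₂ := by
    rw [sSup_insert]
    refine le_antisymm (sup_le ?_ le_sup_left) fun x hx => ?_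
    · rintro _ ⟨y, rfl⟩; exact (σ y).2
    · rw [← add_sub_cancel (τ (ρ ⟨x, hx⟩)) x]
      refine add_mem (Submodule.mem_sup_left ⟨_, rfl⟩) (Submodule.mem_sup_right ?_)
      have h1 : (⟨x, hx⟩ - σ (ρ ⟨x, hx⟩) : M₂) ∈ W :=
        (Submodule.Quotient.eq W).mp (LinearMap.congr_fun hσ (ρ ⟨x, hx⟩)).symm
      exact h1
  have hT' : (J ∪ K, insert C L) ∈ T := by
    refine ⟨sSupIndep_insert_of_disjoint hind hdisj, ?_, ?_⟩
    · show (sSup (insert C L)).baseChange S = _
      rw [hsupC, hM₂]
    · rintro C' (rfl | hC')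
      · exact hCproj
      · exact hproj C' hC'
  exact hi ((hmax.2 hT' ⟨Set.subset_union_left, Set.subset_insert _ _⟩).1
    (Set.mem_union_right _ (Set.mem_iUnion.mpr ⟨0, rfl⟩)))

end descent

end Groth.Calg1
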