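import Mathlib
import Groth.Agent.SmallExt.Algebra

/-!
Smoothness at a prime from lifting along small extensions centred at it.
-/

set_option autoImplicit false
universe u

open TensorProduct IsLocalRing Groth.SmallExt

namespace Groth.Calg1

variable {R A : Type u} [CommRing R] [CommRing A] [Algebra R A]

variable (R) in
/-- Lifting of algebra maps centred at `q` along small extensions of Artinian local algebras. -/
def HasSmallLiftsAt (q : Ideal A) : Prop :=
  ∀ (B' B : Type u) [CommRing B'] [CommRing B] [Algebra R B'] [Algebra R B] [IsArtinianRing B']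
    [IsLocalRing B'] [IsArtinianRing B] [IsLocalRing B] (π : B' →ₐ[R] B) (t : B'),
    Function.Surjective π → RingHom.ker π = Ideal.span {t} →
    (∀ m ∈ IsLocalRing.maximalIdeal B', m * t = 0) →
    ∀ g : A →ₐ[R] B, (IsLocalRing.maximalIdeal B).comap g = q → ∃ g' : A →ₐ[R] B', π.comp g' = g

/-- Lifting along extensions whose kernel is killed by the maximal ideal. -/
theorem HasSmallLiftsAt.exists_lift {q : Ideal A} (H : HasSmallLiftsAt R q) {B' : Type u} [CommRing B'] [Algebra R B']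
    [IsArtinianRing B'] [IsLocalRing B'] (I : Ideal B') (hI : I ≠ ⊤)
    (hm : IsLocalRing.maximalIdeal B' * I = ⊥) (g : A →ₐ[R] B' ⧸ I)
    (hg : ∀ a, IsUnit (g a) ↔ a ∉ q) :
    ∃ g' : A →ₐ[R] B', (Ideal.Quotient.mkₐ R I).comp g' = g := by
  let s : Set (Ideal B') := {K | ∃ hK : K ≤ I, ∃ g' : A →ₐ[R] B' ⧸ K,
    (Ideal.Quotient.factorₐ R hK).comp g' = g}
  obtain ⟨K, ⟨hK, g₁, hg₁⟩, hmin⟩ := IsArtinian.set_has_minimal s
    ⟨I, le_rfl, g, AlgHom.ext fun a => by
      obtain ⟨b, hb⟩ := Ideal.Quotient.mk_surjective (g a)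
      rw [AlgHom.comp_apply, ← hb]; rfl⟩
  have hK₀ : K = ⊥ := by
    by_contra hne
    obtain ⟨K', hK', hmax⟩ := set_has_maximal_iff_noetherian.2 (inferInstance : IsNoetherianRing B')
      {K' | K' < K} ⟨⊥, bot_lt_iff_ne_bot.2 hne⟩
    replace hK' : K' < K := hK'
    obtain ⟨t, htK, htK'⟩ := SetLike.exists_of_lt hK'
    have hKt : K' ⊔ Ideal.span {t} = K := by
      by_contra h
      refine hmax _ (lt_of_le_of_ne (sup_le hK'.le ((Ideal.span_singleton_le_iff_mem _).2 htK)) h) ?_
      exact lt_of_le_not_ge le_sup_left fun h' =>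
        htK' (h' (Ideal.mem_sup_right (Ideal.mem_span_singleton_self t)))
    have hne' : K' ≠ ⊤ := fun h => not_top_lt (h ▸ hK')
    have : IsLocalRing (B' ⧸ K') := isLocalRing_quotient hne'
    have := isLocalRing_quotient (fun h => hI (top_le_iff.1 (h ▸ hK)) : K ≠ ⊤)
    have : Nontrivial (B' ⧸ I) := Ideal.Quotient.nontrivial_iff.2 hI
    obtain ⟨g₂, hg₂⟩ := H (B' ⧸ K') (B' ⧸ K) (Ideal.Quotient.factorₐ R hK'.le) (Ideal.Quotient.mk K' t)
      (Ideal.Quotient.factor_surjective hK'.le) (by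
        change RingHom.ker (Ideal.Quotient.factor hK'.le) = _
        rw [Ideal.Quotient.factor_ker, ← hKt, Ideal.map_sup, Ideal.map_quotient_self, bot_sup_eq,
          Ideal.map_span, Set.image_singleton])
      (fun x hx => by
        obtain ⟨x, rfl⟩ := Ideal.Quotient.mk_surjective x
        have hx' : x ∈ IsLocalRing.maximalIdeal B' := fun h => hx (h.map (Ideal.Quotient.mk K'))
        have h0 : x * t = 0 := by
          rw [← Ideal.mem_bot, ← hm]
          exact Ideal.mul_mem_mul hx' (hK htK)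
        rw [← map_mul, h0, map_zero]) g₁
      (Ideal.ext fun a => by
        rw [Ideal.mem_comap, IsLocalRing.mem_maximalIdeal, mem_nonunits_iff]
        refine (not_congr (?_ : IsUnit (g₁ a) ↔ a ∉ q)).trans not_not
        haveI : IsLocalHom (Ideal.Quotient.factor hK) := IsLocalHom.of_surjective _ (Ideal.Quotient.factor_surjective hK)
        rw [← hg a, ← hg₁]
        exact (isUnit_map_iff (Ideal.Quotient.factor hK) (g₁ a)).symm)
    refine hmin K' ⟨hK'.le.trans hK, g₂, ?_⟩ hK'
    rw [← hg₁, ← hg₂, ← AlgHom.comp_assoc]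
    congr 1
    exact Ideal.Quotient.algHom_ext R (AlgHom.ext fun b => rfl)
  subst hK₀
  let e : (B' ⧸ (⊥ : Ideal B')) ≃ₐ[R] B' := AlgEquiv.quotientBot R B'
  refine ⟨e.toAlgHom.comp g₁, ?_⟩
  rw [← hg₁, ← AlgHom.comp_assoc]
  congr 1
  exact Ideal.Quotient.algHom_ext R (AlgHom.ext fun b => rfl)
theorem isArtinianRing_quotient_of_pow_le {P : Type u} [CommRing P] [IsNoetherianRing P] [IsLocalRing P]
    (K : Ideal P) (hK : K ≠ ⊤) (k : ℕ) (h : maximalIdeal P ^ k ≤ K) : IsArtinianRing (P ⧸ K) := by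
  have := Ideal.Quotient.nontrivial_iff.2 hK
  have : IsLocalRing (P ⧸ K) := isLocalRing_quotient hK
  have hmax : maximalIdeal (P ⧸ K) = (maximalIdeal P).map (Ideal.Quotient.mk K) :=
    (IsLocalRing.map_maximalIdeal_of_surjective _ Ideal.Quotient.mk_surjective).symm
  rw [isArtinianRing_iff_isNilpotent_maximalIdeal]
  refine ⟨k, ?_⟩
  rw [hmax, ← Ideal.map_pow, Ideal.zero_eq_bot, Ideal.map_eq_bot_iff_le_ker, Ideal.mk_ker]
  exact h

/-- The key step: relations with vanishing differential at a prime `M` lie in `M * J` locally at `M`. -/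
theorem mem_mul_of_pderiv_mem_aux [IsNoetherianRing R] {m : Ideal A} [m.IsPrime] (H : HasSmallLiftsAt R m) {n : ℕ}
    (π : MvPolynomial (Fin n) R →ₐ[R] A) (hπ : Function.Surjective π)
    {f : MvPolynomial (Fin n) R} (hf : f ∈ RingHom.ker π)
    (hd : ∀ i, MvPolynomial.pderiv i f ∈ m.comap π)
    {P : Type u} [CommRing P] [Algebra R P] [IsNoetherianRing P] [IsLocalRing P]
    (ι : MvPolynomial (Fin n) R →ₐ[R] P) (hι : ∀ x, IsUnit (ι x) ↔ x ∉ m.comap π) :
    ι f ∈ maximalIdeal P * (RingHom.ker π).map ι.toRingHom := by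
  let J : Ideal P := (RingHom.ker π).map ι.toRingHom
  let 𝔪 := maximalIdeal P
  have hJM : J ≤ 𝔪 := Ideal.map_le_iff_le_comap.2 fun x hx =>
    fun hu => (hι x).1 hu (by rw [Ideal.mem_comap, RingHom.mem_ker.1 hx]; exact m.zero_mem)
  obtain ⟨k, hk⟩ := Ideal.exists_pow_inf_eq_pow_smul 𝔪 J
  have hAR : 𝔪 ^ (k + 1) ⊓ J ≤ 𝔪 * J := by
    have h1 := hk (k + 1) (Nat.le_succ k)
    simp only [smul_eq_mul, Ideal.mul_top, add_tsub_cancel_left, pow_one] at h1
    rw [h1]
    exact Ideal.mul_mono_right inf_le_right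
  let K := 𝔪 * J ⊔ 𝔪 ^ (k + 1)
  have hKM : K ≤ 𝔪 := sup_le Ideal.mul_le_left (Ideal.pow_le_self (Nat.succ_ne_zero k))
  have hKtop : K ≠ ⊤ := fun h => (maximalIdeal.isMaximal P).ne_top (top_le_iff.1 (h ▸ hKM))
  have : Nontrivial (P ⧸ K) := Ideal.Quotient.nontrivial_iff.2 hKtop
  have : IsLocalRing (P ⧸ K) := isLocalRing_quotient hKtop
  have hmaxIdeal : maximalIdeal (P ⧸ K) = 𝔪.map (Ideal.Quotient.mk K) :=
    ((IsLocalRing.map_maximalIdeal_of_surjective _ Ideal.Quotient.mk_surjective)).symm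
  have : IsArtinianRing (P ⧸ K) := isArtinianRing_quotient_of_pow_le K hKtop (k + 1) le_sup_right
  let I : Ideal (P ⧸ K) := (J ⊔ 𝔪 ^ (k + 1)).map (Ideal.Quotient.mk K)
  have hIM : I ≤ 𝔪.map (Ideal.Quotient.mk K) :=
    Ideal.map_mono (sup_le hJM (Ideal.pow_le_self (Nat.succ_ne_zero k)))
  have hmI : maximalIdeal (P ⧸ K) * I = (⊥ : Ideal (P ⧸ K)) := by
    rw [hmaxIdeal]
    change 𝔪.map (Ideal.Quotient.mk K) * (J ⊔ 𝔪 ^ (k + 1)).map (Ideal.Quotient.mk K) = ⊥
    refine (Ideal.map_mul _ _ _).symm.trans ((Ideal.map_eq_bot_iff_le_ker _).2 ?_)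
    rw [Ideal.mk_ker, Ideal.mul_sup]
    exact sup_le le_sup_left ((Ideal.mul_le_right).trans le_sup_right)
  have hI : I ≠ ⊤ := fun h => (IsLocalRing.maximalIdeal.isMaximal _).ne_top
    (top_le_iff.1 (h ▸ hmaxIdeal ▸ hIM))
  let q : MvPolynomial (Fin n) R →ₐ[R] P ⧸ K := (Ideal.Quotient.mkₐ R K).comp ι
  let Φ : MvPolynomial (Fin n) R →ₐ[R] (P ⧸ K) ⧸ I := (Ideal.Quotient.mkₐ R I).comp q
  have hΦ : ∀ x, π x = 0 → Φ x = 0 := fun x hx =>
    Ideal.Quotient.eq_zero_iff_mem.2
      (Ideal.mem_map_of_mem (Ideal.Quotient.mk K) (Ideal.mem_sup_left (Ideal.mem_map_of_mem ι.toRingHom hx)))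
  let g : A →ₐ[R] (P ⧸ K) ⧸ I := AlgHom.liftOfSurjective π hπ Φ fun x hx => hΦ x hx
  have hgu : ∀ a, IsUnit (g a) ↔ a ∉ m := by
    intro a
    obtain ⟨x, rfl⟩ := hπ a
    have : Nontrivial ((P ⧸ K) ⧸ I) := Ideal.Quotient.nontrivial_iff.2 hI
    haveI : IsLocalHom ((Ideal.Quotient.mk I).comp (Ideal.Quotient.mk K)) :=
      IsLocalHom.of_surjective _ (Ideal.Quotient.mk_surjective.comp Ideal.Quotient.mk_surjective)
    rw [show g (π x) = Φ x from AlgHom.liftOfSurjective_apply π hπ Φ _ x]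
    exact (isUnit_map_iff ((Ideal.Quotient.mk I).comp (Ideal.Quotient.mk K)) (ι x)).trans (hι x)
  obtain ⟨g', hg'⟩ := H.exists_lift I hI hmI g hgu
  have hX : ∀ i, (g'.comp π) (MvPolynomial.X i) - q (MvPolynomial.X i) ∈ I := fun i => by
    rw [← Ideal.Quotient.eq_zero_iff_mem, map_sub, sub_eq_zero]
    exact (congr(($hg') (π (MvPolynomial.X i)))).trans (AlgHom.liftOfSurjective_apply π hπ Φ _ _)
  have hII : I * I = ⊥ := le_bot_iff.1
    ((Ideal.mul_mono_left (hmaxIdeal ▸ hIM)).trans hmI.le)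
  have key := Groth.SmallExt.sub_eq_sum_pderiv (g'.comp π) q I hII hX f
  rw [Finset.sum_eq_zero fun i _ => ?_, AlgHom.comp_apply, RingHom.mem_ker.1 hf, map_zero, zero_sub,
    neg_eq_zero] at key
  · obtain ⟨a, ha, b, hb, hab⟩ := Submodule.mem_sup.1 (Ideal.Quotient.eq_zero_iff_mem.1 key)
    have hbJ : b ∈ J := by
      have h2 : a + b ∈ J := by rw [hab]; exact Ideal.mem_map_of_mem ι.toRingHom hf
      simpa using J.sub_mem h2 (Ideal.mul_le_right (I := 𝔪) ha)
    rw [show ι f = a + b from hab.symm]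
    exact add_mem ha (hAR ⟨hb, hbJ⟩)
  · rw [← Ideal.mem_bot, ← hmI, hmaxIdeal]
    exact Ideal.mul_mem_mul (Ideal.mem_map_of_mem _ (fun hu => (hι _).1 hu (hd i))) (hX i)

/-- The key step in the localization at `M`. -/
theorem mem_mul_of_pderiv_mem [IsNoetherianRing R] {m : Ideal A} [m.IsPrime] (H : HasSmallLiftsAt R m) {n : ℕ}
    (π : MvPolynomial (Fin n) R →ₐ[R] A) (hπ : Function.Surjective π)
    {f : MvPolynomial (Fin n) R} (hf : f ∈ RingHom.ker π)
    (hd : ∀ i, MvPolynomial.pderiv i f ∈ m.comap π) :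
    algebraMap _ (Localization.AtPrime (m.comap π)) f ∈
      maximalIdeal (Localization.AtPrime (m.comap π)) *
        (RingHom.ker π).map (algebraMap _ (Localization.AtPrime (m.comap π))) :=
  haveI : IsNoetherianRing (Localization.AtPrime (m.comap π)) :=
    IsLocalization.isNoetherianRing (m.comap π).primeCompl _ inferInstance
  mem_mul_of_pderiv_mem_aux H π hπ hf hd (IsScalarTower.toAlgHom R _ (Localization.AtPrime (m.comap π)))
    fun x => IsLocalization.AtPrime.isUnit_to_map_iff _ (m.comap π) x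

theorem HasSmallLiftsAt.isSmoothAt [IsNoetherianRing R] [Algebra.FiniteType R A]
    (m : Ideal A) [m.IsPrime] (H : HasSmallLiftsAt R m) : Algebra.IsSmoothAt R m := by
  obtain ⟨n, π, hπ⟩ := Algebra.FiniteType.iff_quotient_mvPolynomial''.mp
    (inferInstance : Algebra.FiniteType R A)
  let M : Ideal (MvPolynomial (Fin n) R) := m.comap π
  have hJM : RingHom.ker π ≤ M := fun x hx => by
    rw [Ideal.mem_comap, RingHom.mem_ker.1 hx]; exact m.zero_mem
  let P := Localization.AtPrime M
  let S := Localization.AtPrime m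
  let fP : P →ₐ[R] S := IsLocalization.liftAlgHom (M := M.primeCompl)
      (f := (IsScalarTower.toAlgHom R A S).comp π) fun x => by
    simpa using IsLocalization.map_units (M := m.primeCompl) S ⟨π x.1, x.2⟩
  have hfP : ∀ x, fP (algebraMap _ P x) = algebraMap A S (π x) := fun x => by
    simp [fP]
  have h₁ : Function.Surjective fP := by
    intro x
    obtain ⟨x, ⟨s, hs⟩, rfl⟩ := IsLocalization.exists_mk'_eq m.primeCompl x
    obtain ⟨x, rfl⟩ := hπ x
    obtain ⟨s, rfl⟩ := hπ s
    refine ⟨IsLocalization.mk' (M := M.primeCompl) _ x ⟨s, hs⟩, ?_⟩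
    simp [fP, IsLocalization.lift_mk', Units.mul_inv_eq_iff_eq_mul, IsUnit.liftRight]
  algebraize [fP.toRingHom]
  have : IsScalarTower R P S := .of_algebraMap_eq fun r => (fP.commutes r).symm
  have : Algebra.FormallyEtale (MvPolynomial (Fin n) R) P := .of_isLocalization M.primeCompl
  have : Algebra.FormallySmooth R P := .comp _ (MvPolynomial (Fin n) R) _
  let e := KaehlerDifferential.tensorKaehlerEquivOfFormallyEtale R (MvPolynomial (Fin n) R) P
  have : Module.Free P Ω[P⁄R] := .of_equiv e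
  have : Module.Finite P Ω[P⁄R] := .equiv e
  have : IsNoetherianRing P := IsLocalization.isNoetherianRing M.primeCompl _ inferInstance
  change Algebra.FormallySmooth R S
  rw [Algebra.FormallySmooth.iff_injective_cotangentComplexBaseChange_residueField P h₁
    (IsNoetherian.noetherian _), injective_iff_map_eq_zero]
  intro x hx
  obtain ⟨f', rfl⟩ := TensorProduct.mk_surjective P _ (ResidueField S)
    ((IsLocalRing.residue_surjective).comp h₁) x
  obtain ⟨p, ⟨s, hs⟩, hps⟩ := IsLocalization.exists_mk'_eq M.primeCompl f'.1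
  have hspec : f'.1 * algebraMap _ P s = algebraMap _ P p := by rw [← hps, IsLocalization.mk'_spec]
  obtain ⟨⟨a, ha⟩, ha0⟩ : ∃ a : m.primeCompl, ↑a * π p = 0 := by
    refine (IsLocalization.map_eq_zero_iff m.primeCompl S _).1 ?_
    rw [← hfP, ← hspec, map_mul]
    exact mul_eq_zero_of_left (RingHom.mem_ker.1 f'.2) _
  obtain ⟨a, rfl⟩ := hπ a
  let f₀ := a * p
  have hf₀ : f₀ ∈ RingHom.ker π := by rw [RingHom.mem_ker, map_mul]; exact ha0
  let c : P := algebraMap _ P (a * s)
  have hc : IsUnit c := IsLocalization.map_units (M := M.primeCompl) P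
    ⟨a * s, M.primeCompl.mul_mem (fun h => ha h) hs⟩
  let j₀ : RingHom.ker (algebraMap P S) := ⟨algebraMap _ P f₀, by
    rw [RingHom.mem_ker]; exact (hfP f₀).trans (by rw [RingHom.mem_ker.1 hf₀, map_zero])⟩
  have hj : c • f' = j₀ := Subtype.ext <| by
    change c * f'.1 = algebraMap _ P (a * p)
    simp only [c, map_mul]
    rw [mul_assoc, mul_comm (algebraMap _ P s), hspec]
  have hres : (1 : ResidueField S) ⊗ₜ[P] f' = hc.unit⁻¹.1 • ((1 : ResidueField S) ⊗ₜ[P] j₀) := by
    rw [← tmul_smul, ← hj, smul_smul, IsUnit.val_inv_mul, one_smul]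
  have h0 : (1 : ResidueField S) ⊗ₜ[P] KaehlerDifferential.D R P (algebraMap _ P f₀) = 0 := by
    have e1 : KaehlerDifferential.cotangentComplexBaseChange R S P (ResidueField S)
        ((1 : ResidueField S) ⊗ₜ[P] j₀) =
        (1 : ResidueField S) ⊗ₜ[P] KaehlerDifferential.D R P (algebraMap _ P f₀) := by
      rw [KaehlerDifferential.cotangentComplexBaseChange_tmul, one_smul]
      rfl
    rw [← e1, ← hj, tmul_smul, ← algebraMap_smul (ResidueField S) c, map_smul]
    change algebraMap P (ResidueField S) c • _ = _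
    erw [hx, smul_zero]
  have hkey : ∀ y : MvPolynomial (Fin n) R,
      algebraMap P (ResidueField S) (algebraMap _ P y) = 0 → y ∈ M := by
    intro y hy
    by_contra h
    exact ((IsLocalization.map_units (M := M.primeCompl) P ⟨y, h⟩).map
      (algebraMap P (ResidueField S))).ne_zero hy
  have hd : ∀ i, MvPolynomial.pderiv i f₀ ∈ M := by
    intro i
    let E : Ω[P⁄R] →ₗ[P] ResidueField S :=
      (Algebra.linearMap P (ResidueField S)).comp
        ((LinearMap.liftBaseChange P ((Algebra.linearMap (MvPolynomial (Fin n) R) P).comp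
          ((KaehlerDifferential.mvPolynomialBasis R (Fin n)).coord i))).comp e.symm.toLinearMap)
    have hE : E (KaehlerDifferential.D R P (algebraMap _ P f₀)) =
        algebraMap P (ResidueField S) (algebraMap _ P (MvPolynomial.pderiv i f₀)) := by
      have : e.symm (KaehlerDifferential.D R P (algebraMap _ P f₀)) =
          (1 : P) ⊗ₜ KaehlerDifferential.D R (MvPolynomial (Fin n) R) f₀ :=
        e.symm_apply_eq.2 (by simp [e]; exact (one_smul P (KaehlerDifferential.D R P (algebraMap (MvPolynomial (Fin n) R) P f₀))).symm)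
      simp [E, this, Module.Basis.coord_apply, KaehlerDifferential.mvPolynomialBasis_repr_apply]
    refine hkey _ ?_
    have := congrArg (LinearMap.liftBaseChange (ResidueField S) E) h0
    rwa [LinearMap.liftBaseChange_tmul, one_smul, map_zero, hE] at this
  have hmem := mem_mul_of_pderiv_mem H π hπ hf₀ hd
  have hle : (RingHom.ker π).map (algebraMap _ P) ≤ RingHom.ker (algebraMap P S) :=
    Ideal.map_le_iff_le_comap.2 fun y hy => by
      rw [Ideal.mem_comap, RingHom.mem_ker]
      exact (hfP y).trans (by rw [RingHom.mem_ker.1 hy, map_zero])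
  haveI : IsLocalHom fP.toRingHom := IsLocalHom.of_surjective _ h₁
  have hz : (1 : ResidueField S) ⊗ₜ[P] j₀ = 0 := by
    have : ∀ y (hy : y ∈ maximalIdeal P * (RingHom.ker π).map (algebraMap _ P)),
        ∀ (h : y ∈ RingHom.ker (algebraMap P S)),
        (1 : ResidueField S) ⊗ₜ[P] (⟨y, h⟩ : RingHom.ker (algebraMap P S)) = 0 := by
      intro y hy
      induction hy using Submodule.mul_induction_on' with
      | mem_mul_mem b hb j hj' =>
        intro h
        have e2 : (⟨b * j, h⟩ : RingHom.ker (algebraMap P S)) = b • (⟨j, hle hj'⟩ : RingHom.ker (algebraMap P S)) :=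
          rfl
        have hb0 : algebraMap P (ResidueField S) b = 0 := by
          rw [IsScalarTower.algebraMap_apply P S (ResidueField S)]
          exact (IsLocalRing.residue_eq_zero_iff _).2 fun hu => hb (isUnit_of_map_unit fP.toRingHom b hu)
        rw [e2, tmul_smul, ← algebraMap_smul (ResidueField S), hb0, zero_smul]
      | add y hy z hz iy iz =>
        intro h
        have e3 : (⟨y + z, h⟩ : RingHom.ker (algebraMap P S)) =
            ⟨y, hle (Ideal.mul_le_right hy)⟩ + ⟨z, hle (Ideal.mul_le_right hz)⟩ := rfl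
        rw [e3, tmul_add, iy, iz, add_zero]
    exact this _ hmem _
  change (1 : ResidueField S) ⊗ₜ[P] f' = 0
  rw [hres, hz, smul_zero]

/-- A smooth point has lifting along nilpotent extensions of local algebras centred at it. -/
theorem hasSmallLiftsAt_of_isSmoothAt (q : Ideal A) [q.IsPrime] [Algebra.IsSmoothAt R q] :
    HasSmallLiftsAt R q := by
  intro B' B _ _ _ _ _ _ _ _ p t hp hker ht g hg
  have hsq : RingHom.ker (p : B' →+* B) ^ 2 = 0 := by
    change RingHom.ker p ^ 2 = ⊥
    rw [hker, Ideal.span_singleton_pow, Ideal.span_singleton_eq_bot, pow_two]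
    refine ht t fun hu => ?_
    have h0 : p t = 0 := RingHom.mem_ker.1 (hker ▸ Ideal.mem_span_singleton_self t)
    exact not_isUnit_zero (h0 ▸ hu.map p)
  have hunit : ∀ y : q.primeCompl, IsUnit (g y) := by
    intro y
    by_contra h
    exact y.2 (hg ▸ h)
  let gS : Localization.AtPrime q →ₐ[R] B := IsLocalization.liftAlgHom (M := q.primeCompl) (f := g) hunit
  refine ⟨(Algebra.FormallySmooth.liftOfSurjective gS p hp ⟨2, hsq⟩).comp (IsScalarTower.toAlgHom R A _),
    AlgHom.ext fun a => ?_⟩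
  refine (Algebra.FormallySmooth.liftOfSurjective_apply gS p hp ⟨2, hsq⟩ (algebraMap A _ a)).trans ?_
  simp [gS]

end Groth.Calg1
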