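import Groth.Agent.Calg1.NagataBasic
import Groth.Agent.FlatmorThree.Pencil

/-!
Integral closures of Nagata rings in reduced algebras of finite type.
-/

set_option autoImplicit false

universe u

namespace Groth.Calg1

/-- The integral closure of a Nagata ring in a domain of finite type over it is finite. -/
theorem finite_integralClosure_of_isDomain {R S : Type u} [CommRing R] [CommRing S] [IsDomain S]
    [Algebra R S] [Algebra.EssFiniteType R S] (hR : CAlg.IsNagata R) :
    Module.Finite R (integralClosure R S) := by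
  classical
  haveI := hR.1
  let p := RingHom.ker (algebraMap R S)
  haveI : p.IsPrime := RingHom.ker_isPrime _
  letI : Algebra (R ⧸ p) S := (RingHom.kerLift (algebraMap R S)).toAlgebra
  haveI : IsScalarTower R (R ⧸ p) S := IsScalarTower.of_algebraMap_eq fun _ => rfl
  let Ω := FractionRing S
  haveI : FaithfulSMul (R ⧸ p) Ω := (faithfulSMul_iff_algebraMap_injective _ _).2 (by
    rw [IsScalarTower.algebraMap_eq (R ⧸ p) S Ω]
    exact (IsFractionRing.injective S Ω).comp (RingHom.kerLift_injective _))
  let K := FractionRing (R ⧸ p)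
  letI : Algebra K Ω := FractionRing.liftAlgebra (R ⧸ p) Ω
  haveI : Algebra.EssFiniteType S Ω := Algebra.EssFiniteType.of_isLocalization Ω (nonZeroDivisors S)
  haveI : Algebra.EssFiniteType R Ω := Algebra.EssFiniteType.comp R S Ω
  haveI : Algebra.EssFiniteType (R ⧸ p) Ω := Algebra.EssFiniteType.of_comp R (R ⧸ p) Ω
  haveI : Algebra.EssFiniteType K Ω := Algebra.EssFiniteType.of_comp (R ⧸ p) K Ω
  haveI := Groth.FlatmorThree.Pencil.finite_algebraicClosure K Ω
  let C := algebraicClosure K Ω
  obtain ⟨T, hT, hTs⟩ := (Groth.Calg4.finite_ic_iff (R ⧸ p) C).1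
    (Groth.Calg4.finite_ic_of_isN2 (hR.2 p) K C)
  let W : Submodule R Ω := Submodule.span R ((fun c : C => (c : Ω)) '' T)
  haveI : Module.Finite R W := Module.Finite.iff_fg.2 (Submodule.fg_span (hT.image _))
  haveI : IsNoetherian R W := isNoetherian_of_isNoetherianRing_of_finite R _
  have hW : ∀ c : C, c ∈ Submodule.span (R ⧸ p) T → (c : Ω) ∈ W := fun c hc => by
    induction hc using Submodule.span_induction with
    | mem x hx => exact Submodule.subset_span ⟨x, hx, rfl⟩
    | zero => exact zero_mem _
    | add x y _ _ hx hy => exact add_mem hx hy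
    | smul r x _ hx =>
      obtain ⟨r, rfl⟩ := Ideal.Quotient.mk_surjective r
      change (algebraMap R (R ⧸ p) r) • (x : Ω) ∈ W
      rw [algebraMap_smul]
      exact W.smul_mem _ hx
  have hmem : ∀ s : integralClosure R S, algebraMap S Ω s ∈ W := fun s => by
    have h1 : IsIntegral (R ⧸ p) (algebraMap S Ω s) :=
      ((s.2 : IsIntegral R (s : S)).tower_top (A := R ⧸ p)).map (IsScalarTower.toAlgHom (R ⧸ p) S Ω)
    have hC : algebraMap S Ω s ∈ C :=
      mem_algebraicClosure_iff.2 (IsIntegral.isAlgebraic h1.tower_top)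
    refine hW ⟨_, hC⟩ ((hTs _).1 ?_)
    obtain ⟨q, hq, hq0⟩ := h1
    refine ⟨q, hq, Subtype.val_injective ?_⟩
    rw [← Polynomial.aeval_def] at hq0 ⊢
    exact (Polynomial.aeval_algHom_apply (C.val.restrictScalars (R ⧸ p)) _ q).symm.trans hq0
  exact Module.Finite.of_injective
    (((IsScalarTower.toAlgHom R S Ω).toLinearMap.comp (integralClosure R S).val.toLinearMap).codRestrict W
      hmem)
    fun a b h => Subtype.ext (IsFractionRing.injective S Ω (congrArg Subtype.val h :))

/-- The integral closure of a Nagata ring in a reduced algebra of finite type is finite. -/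
theorem finite_integralClosure_of_isReduced {R S : Type u} [CommRing R] [CommRing S] [IsReduced S]
    [Algebra R S] [Algebra.EssFiniteType R S] (hR : CAlg.IsNagata R) :
    Module.Finite R (integralClosure R S) := by
  classical
  haveI := hR.1
  haveI : IsNoetherianRing S := Algebra.EssFiniteType.isNoetherianRing R S
  let ι := {P : Ideal S // P ∈ minimalPrimes S}
  haveI : Finite ι := (minimalPrimes.finite_of_isNoetherianRing S).to_subtype
  haveI : ∀ i : ι, i.1.IsPrime := fun i => i.2.1.1
  haveI : ∀ i : ι, Algebra.EssFiniteType R (S ⧸ i.1) := fun i => Algebra.EssFiniteType.comp R S _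
  haveI : ∀ i : ι, Module.Finite R (integralClosure R (S ⧸ i.1)) := fun i =>
    finite_integralClosure_of_isDomain hR
  haveI : IsNoetherian R (∀ i : ι, integralClosure R (S ⧸ i.1)) :=
    isNoetherian_of_isNoetherianRing_of_finite R _
  refine Module.Finite.of_injective (LinearMap.pi fun i : ι =>
    ({ toFun := fun s => ⟨Ideal.Quotient.mk i.1 s.1,
         (s.2 : IsIntegral R (s : S)).map (Ideal.Quotient.mkₐ R i.1)⟩
       map_add' := fun _ _ => rfl
       map_smul' := fun _ _ => rfl } : integralClosure R S →ₗ[R] integralClosure R (S ⧸ i.1)))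
    fun a b h => Subtype.ext (sub_eq_zero.1 (IsReduced.eq_zero _ ?_))
  rw [← mem_nilradical, nilradical, Ideal.radical_eq_sInf, Ideal.mem_sInf]
  intro P hP
  haveI := hP.2
  obtain ⟨Q, hQ, hQP⟩ := Ideal.exists_minimalPrimes_le (bot_le : (⊥ : Ideal S) ≤ P)
  exact hQP (Ideal.Quotient.eq.1 (congrArg Subtype.val (congrFun h ⟨Q, hQ⟩) :))

end Groth.Calg1
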