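import Mathlib
import Groth.Prelude.Def_CAlgX
import Groth.Agent.FlatMorOne.FlatLocusModels

/-!
Finitely presented models of local algebras essentially of finite presentation and of modules over
them.
-/

set_option autoImplicit false

universe u

open IsLocalRing

namespace Groth.Calg1

/-- A local localization is the localization at a prime. -/
theorem isLocalization_atPrime_of_isLocalRing {C S : Type u} [CommRing C] [CommRing S] [IsLocalRing S]
    [Algebra C S] (M : Submonoid C) [IsLocalization M S] :
    IsLocalization.AtPrime S ((maximalIdeal S).comap (algebraMap C S)) :=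
  IsLocalization.of_le M _ (fun _ hx hmem => hmem (IsLocalization.map_units S ⟨_, hx⟩))
    fun _ hr => notMem_maximalIdeal.1 hr

/-- Every element of a finitely presented module over a localization at a prime comes from a finitely
presented model. -/
theorem exists_fp_model {C S M : Type u} [CommRing C] [CommRing S] [Algebra C S] (N : Submonoid C)
    [IsLocalization N S] [AddCommGroup M] [Module S M] [Module C M] [IsScalarTower C S M]
    [Module.FinitePresentation S M] :
    ∃ (M₀ : Type u) (_ : AddCommGroup M₀) (_ : Module C M₀), Module.FinitePresentation C M₀ ∧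
      ∃ f : M₀ →ₗ[C] M, IsLocalizedModule N f := by
  classical
  obtain ⟨n, K, e, hK⟩ := Module.FinitePresentation.exists_fin (R := S) (M := M)
  obtain ⟨t, ht⟩ := hK
  choose d hd using fun v : Fin n → S => IsLocalization.exist_integer_multiples_of_finite N v
  choose k₀ hk₀ using hd
  have hK' : K = Submodule.span S (Set.range fun v : t => fun i => algebraMap C S (k₀ v.1 i)) := by
    have hfun : ∀ v : Fin n → S, (fun i => algebraMap C S (k₀ v i)) = algebraMap C S (d v) • v :=
      fun v => funext fun i => by rw [hk₀ v i, Algebra.smul_def]; rfl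
    rw [← ht]
    refine le_antisymm (Submodule.span_le.2 fun v hv => ?_) (Submodule.span_le.2 ?_)
    · obtain ⟨w, hw⟩ := IsLocalization.map_units S (d v)
      have : v = (↑w⁻¹ : S) • (fun i => algebraMap C S (k₀ v i)) := by
        rw [hfun, smul_smul, ← hw, Units.inv_mul, one_smul]
      rw [this]
      exact Submodule.smul_mem _ _ (Submodule.subset_span ⟨⟨v, hv⟩, rfl⟩)
    · rintro _ ⟨⟨v, hv⟩, rfl⟩
      show (fun i => algebraMap C S (k₀ v i)) ∈ _
      rw [hfun]
      exact Submodule.smul_mem _ _ (Submodule.subset_span hv)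
  obtain ⟨f, hf⟩ := Groth.FlatMorOne.isBaseChange_quotient_span (fun v : t => k₀ v.1) K e hK'
  exact ⟨_, inferInstance, inferInstance,
    Module.finitePresentation_of_surjective (Submodule.mkQ _) (Submodule.mkQ_surjective _)
      (by rw [Submodule.ker_mkQ]; exact Submodule.fg_span (Set.finite_range _)),
    f, (isLocalizedModule_iff_isBaseChange N S f).2 hf⟩

/-- A map into a local algebra essentially of finite presentation from a finitely presented algebra
factors through a finitely presented model. -/
theorem exists_model_hom {R S₀ S : Type u} [CommRing R] [CommRing S₀] [CommRing S] [IsLocalRing S]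
    [Algebra R S₀] [Algebra.FinitePresentation R S₀] [Algebra R S] [Algebra S₀ S] [IsScalarTower R S₀ S]
    (hS : CAlgX.IsEssFinitePresentation R S) :
    ∃ (C : Type u) (_ : CommRing C) (_ : Algebra R C) (_ : Algebra S₀ C) (_ : IsScalarTower R S₀ C)
      (_ : Algebra C S) (_ : IsScalarTower R C S) (_ : IsScalarTower S₀ C S),
      Algebra.FinitePresentation R C ∧
        IsLocalization.AtPrime S ((maximalIdeal S).comap (algebraMap C S)) := by
  classical
  obtain ⟨C₀, _, _, _, _, N, hfp, hloc⟩ := hS
  let q : Ideal C₀ := (maximalIdeal S).comap (algebraMap C₀ S)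
  haveI : IsLocalization.AtPrime S q := isLocalization_atPrime_of_isLocalRing N
  obtain ⟨n, π, hπ, hker⟩ := (‹Algebra.FinitePresentation R S₀›).out
  obtain ⟨t, ht⟩ := hker
  choose c hc using fun i : Fin n => IsLocalization.surj q.primeCompl (algebraMap S₀ S (π (MvPolynomial.X i)))
  let d : q.primeCompl := ∏ i, (c i).2
  let C₁ := Localization.Away (d : C₀)
  have hdu : IsUnit (algebraMap C₀ S (d : C₀)) := IsLocalization.map_units S d
  let ι₁ : C₁ →ₐ[C₀] S := IsLocalization.liftAlgHom (M := Submonoid.powers (d : C₀)) (f := Algebra.ofId C₀ S)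
    (fun y => by
      obtain ⟨k, hk⟩ := y.2
      rw [← hk]
      simpa using hdu.pow k)
  have hci : ∀ i, IsUnit (algebraMap C₀ C₁ (c i).2) := fun i => by
    refine isUnit_of_dvd_unit (map_dvd _ ?_) (IsLocalization.Away.algebraMap_isUnit (S := C₁) (d : C₀))
    rw [show (d : C₀) = ∏ j, ((c j).2 : C₀) from Submonoid.coe_finsetProd ..]
    exact Finset.dvd_prod_of_mem _ (Finset.mem_univ i)
  let φ₁ : MvPolynomial (Fin n) R →ₐ[R] C₁ :=
    MvPolynomial.aeval fun i => algebraMap C₀ C₁ (c i).1 * ((hci i).unit⁻¹ : C₁ˣ)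
  have hcomp : (ι₁.restrictScalars R).comp φ₁ = (IsScalarTower.toAlgHom R S₀ S).comp π := by
    refine MvPolynomial.algHom_ext fun i => ?_
    change ι₁ (φ₁ (MvPolynomial.X i)) = algebraMap S₀ S (π (MvPolynomial.X i))
    simp only [φ₁, MvPolynomial.aeval_X, map_mul, AlgHom.commutes]
    have h1 := hc i
    have hu : ι₁ ((hci i).unit⁻¹ : C₁ˣ) * algebraMap C₀ S (c i).2 = 1 := by
      rw [← ι₁.commutes, ← map_mul]
      simp
    calc algebraMap C₀ S (c i).1 * ι₁ ((hci i).unit⁻¹ : C₁ˣ)
        = algebraMap S₀ S (π (MvPolynomial.X i)) * (ι₁ ((hci i).unit⁻¹ : C₁ˣ) * algebraMap C₀ S (c i).2) := by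
          rw [← h1]; ring
      _ = _ := by rw [hu, mul_one]
  choose a ha using fun r : MvPolynomial (Fin n) R => IsLocalization.surj (Submonoid.powers (d : C₀)) (φ₁ r)
  have hkill : ∀ r ∈ t, ∃ u ∈ q.primeCompl, u * (a r).1 = 0 := by
    intro r hr
    have h0 : π r = 0 := RingHom.mem_ker.1 (ht ▸ Ideal.subset_span hr)
    have h1 : ι₁ (φ₁ r) = 0 := by
      have := congr(($hcomp) r)
      simpa [h0] using this
    have h2 : algebraMap C₀ S (a r).1 = 0 := by
      rw [← ι₁.commutes, ← ha r, map_mul, h1, zero_mul]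
    obtain ⟨⟨u, hu⟩, hu0⟩ := (IsLocalization.map_eq_zero_iff q.primeCompl S _).1 h2
    exact ⟨u, hu, hu0⟩
  choose! u hu hu0 using hkill
  let w : q.primeCompl := ⟨(d : C₀) * ∏ r ∈ t, u r, q.primeCompl.mul_mem d.2 (prod_mem fun r hr => hu r hr)⟩
  let C := Localization.Away (w : C₀)
  haveI : Algebra.FinitePresentation R C :=
    haveI : Algebra.FinitePresentation C₀ C := IsLocalization.Away.finitePresentation (w : C₀)
    Algebra.FinitePresentation.trans R C₀ C
  have hwu : IsUnit (algebraMap C₀ C (w : C₀)) := IsLocalization.Away.algebraMap_isUnit (S := C) (w : C₀)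
  let ρ : C₁ →ₐ[C₀] C := IsLocalization.liftAlgHom (M := Submonoid.powers (d : C₀)) (f := Algebra.ofId C₀ C)
    (fun y => by
      obtain ⟨k, hk⟩ := y.2
      rw [← hk]
      simpa using (isUnit_of_dvd_unit (map_dvd (algebraMap C₀ C) (dvd_mul_right (d : C₀) _)) hwu).pow k)
  have hz : ∀ r ∈ t, ρ (φ₁ r) = 0 := by
    intro r hr
    have h1 : ρ (φ₁ r) * algebraMap C₀ C (a r).2 = algebraMap C₀ C (a r).1 := by
      rw [← ρ.commutes, ← ρ.commutes, ← map_mul, ha r]
    have hu' : IsUnit (algebraMap C₀ C (u r)) :=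
      isUnit_of_dvd_unit (map_dvd _ ((Finset.dvd_prod_of_mem u hr).trans (dvd_mul_left _ (d : C₀)))) hwu
    have h2 : algebraMap C₀ C (a r).1 = 0 := by
      rw [← hu'.mul_right_eq_zero, ← map_mul, hu0 r hr, map_zero]
    obtain ⟨k, hk⟩ := (a r).2.2
    have hv : IsUnit (algebraMap C₀ C ((a r).2 : C₀)) := by
      rw [← hk]
      simpa using (isUnit_of_dvd_unit (map_dvd (algebraMap C₀ C) (dvd_mul_right (d : C₀) _)) hwu).pow k
    rw [h2] at h1
    exact hv.mul_left_eq_zero.1 h1
  let φ : S₀ →ₐ[R] C := AlgHom.liftOfSurjective π hπ ((ρ.restrictScalars R).comp φ₁) fun x hx => by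
    have hle : Ideal.span (t : Set (MvPolynomial (Fin n) R)) ≤
        RingHom.ker ((ρ.restrictScalars R).comp φ₁) := Ideal.span_le.2 fun r hr => RingHom.mem_ker.2 (hz r hr)
    exact hle (ht.symm ▸ hx)
  let ι : C →ₐ[C₀] S := IsLocalization.liftAlgHom (M := Submonoid.powers (w : C₀)) (f := Algebra.ofId C₀ S)
    (fun y => by
      obtain ⟨k, hk⟩ := y.2
      rw [← hk]
      simpa using (IsLocalization.map_units S w).pow k)
  letI : Algebra S₀ C := φ.toRingHom.toAlgebra
  letI : Algebra C S := ι.toRingHom.toAlgebra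
  haveI : IsScalarTower R S₀ C := IsScalarTower.of_algebraMap_eq fun x => (φ.commutes x).symm
  haveI : IsScalarTower C₀ C S := IsScalarTower.of_algebraMap_eq fun x => (ι.commutes x).symm
  haveI : IsScalarTower R C S := IsScalarTower.of_algebraMap_eq fun x => by
    rw [IsScalarTower.algebraMap_apply R C₀ C, ← IsScalarTower.algebraMap_apply C₀ C S, ← IsScalarTower.algebraMap_apply]
  haveI : IsScalarTower S₀ C S := IsScalarTower.of_algebraMap_eq fun x => by
    obtain ⟨x, rfl⟩ := hπ x
    change algebraMap S₀ S (π x) = ι (φ (π x))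
    rw [show φ (π x) = ((ρ.restrictScalars R).comp φ₁) x from AlgHom.liftOfSurjective_apply π hπ _ _ x]
    have hρ : ι.comp ρ = ι₁ := IsLocalization.algHom_ext (Submonoid.powers (d : C₀)) (Subsingleton.elim _ _)
    have h1 := congr(($hcomp) x)
    refine h1.symm.trans ?_
    change ι₁ (φ₁ x) = ι (ρ (φ₁ x))
    rw [← hρ]
    rfl
  haveI : IsLocalization (Algebra.algebraMapSubmonoid C q.primeCompl) S :=
    IsLocalization.isLocalization_of_submonoid_le C S (Submonoid.powers (w : C₀)) q.primeCompl
      (Submonoid.powers_le.2 w.2)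
  exact ⟨C, inferInstance, inferInstance, inferInstance, inferInstance, inferInstance, inferInstance,
    inferInstance, inferInstance, isLocalization_atPrime_of_isLocalRing (Algebra.algebraMapSubmonoid C q.primeCompl)⟩

end Groth.Calg1
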