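import Mathlib
import Groth.Agent.FlatMorOne.FlatLocusKerFP
import Groth.Agent.FlatMorOne.FlatStageRing
import Groth.Agent.FlatMorOne.FlatnessCriteria

/-!
Maps into flat modules which are injective modulo the maximal ideal: reduction to a Noetherian stage.
-/

set_option autoImplicit false

universe u

open TensorProduct IsLocalRing

namespace Groth.Calg1

set_option linter.style.haveILetI false

attribute [local instance] Algebra.TensorProduct.rightAlgebra

/-- Membership in `I • ⊤` of a localized module. -/
theorem exists_smul_mem_of_localized {B C M L : Type*} [CommRing B] [CommRing C] [Algebra B C]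
    [AddCommGroup M] [Module C M] [Module B M] [IsScalarTower B C M]
    [AddCommGroup L] [Module C L] [Module B L] [IsScalarTower B C L]
    (T : Submonoid C) (f : M →ₗ[C] L) [IsLocalizedModule T f] (I : Ideal B) {x : M}
    (hx : f x ∈ I • (⊤ : Submodule B L)) : ∃ t ∈ T, t • x ∈ I • (⊤ : Submodule B M) := by
  have hC : ∀ (c : C) (w : M), w ∈ I • (⊤ : Submodule B M) → c • w ∈ I • (⊤ : Submodule B M) := by
    intro c w hw
    refine Submodule.smul_induction_on hw (fun r hr m _ => ?_) fun a b ha hb => ?_
    · rw [smul_comm]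
      exact Submodule.smul_mem_smul hr trivial
    · rw [smul_add]
      exact add_mem ha hb
  suffices h : ∀ y ∈ I • (⊤ : Submodule B L), ∃ t ∈ T, ∃ w ∈ I • (⊤ : Submodule B M), t • y = f w by
    obtain ⟨t, ht, w, hw, hy⟩ := h _ hx
    rw [← map_smul] at hy
    obtain ⟨⟨c, hc⟩, he⟩ := IsLocalizedModule.exists_of_eq (S := T) hy
    refine ⟨c * t, mul_mem hc ht, ?_⟩
    rw [mul_smul]
    exact (show c • (t • x) = c • w from he) ▸ hC c w hw
  intro y hy
  refine Submodule.smul_induction_on hy (fun r hr m _ => ?_) fun a b ha hb => ?_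
  · obtain ⟨⟨w, t⟩, hw⟩ := IsLocalizedModule.surj T f m
    refine ⟨t, t.2, r • w, Submodule.smul_mem_smul hr trivial, ?_⟩
    rw [smul_comm, LinearMap.map_smul_of_tower, ← hw]
    rfl
  · obtain ⟨t, ht, w, hw, hy⟩ := ha
    obtain ⟨t', ht', w', hw', hy'⟩ := hb
    exact ⟨t * t', mul_mem ht ht', t' • w + t • w', add_mem (hC _ _ hw) (hC _ _ hw'), by
      rw [smul_add, map_add, map_smul, map_smul, ← hy, ← hy', mul_comm t t', mul_smul, ← mul_comm t t',
        mul_smul]⟩

/-- An injection with flat cokernel is universally injective. -/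
theorem rTensor_injective_of_flat_coker {B : Type u} [CommRing B] {X Y Q : Type u} [AddCommGroup X]
    [Module B X] [AddCommGroup Y] [Module B Y] [AddCommGroup Q] [Module B Q] [Module.Flat B Q]
    {g : X →ₗ[B] Y} {π : Y →ₗ[B] Q} (hg : Function.Injective g) (he : Function.Exact g π)
    (hπ : Function.Surjective π) (P : Type u) [AddCommGroup P] [Module B P] :
    Function.Injective (g.rTensor P) :=
  (LinearMap.lTensor_inj_iff_rTensor_inj _ _).mp
    (Groth.FlatMorOne.lTensor_injective_of_presentation (Finsupp.linearCombination B (id : P → P))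
      (Groth.FlatMorOne.linearCombination_id_surjective' (R := B) (M := P)) hg he hπ
      (Module.Flat.lTensor_preserves_injective_linearMap _ Subtype.val_injective))

/-- Injections between modules killed by a prime stay injective after tensoring with a field lying over
it. -/
theorem lTensor_injective_of_killed {B k X Y : Type u} [CommRing B] [Field k] [Algebra B k]
    [AddCommGroup X] [Module B X] [AddCommGroup Y] [Module B Y] (p : Ideal B) [p.IsPrime]
    (hp : RingHom.ker (algebraMap B k) = p) (hY : ∀ a ∈ p, ∀ y : Y, a • y = 0)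
    (f : X →ₗ[B] Y) (hf : Function.Injective f) : Function.Injective (f.lTensor k) := by
  let κ := p.ResidueField
  have h1 : Function.Injective (f.lTensor (B ⧸ p)) := by
    intro a b hab
    obtain ⟨a, rfl⟩ := TensorProduct.mk_surjective B X (B ⧸ p) Ideal.Quotient.mk_surjective a
    obtain ⟨b, rfl⟩ := TensorProduct.mk_surjective B X (B ⧸ p) Ideal.Quotient.mk_surjective b
    have := congrArg (quotTensorEquivQuotSMul Y p) hab
    simp only [TensorProduct.mk_apply, LinearMap.lTensor_tmul] at this
    rw [← map_one (Ideal.Quotient.mk p), quotTensorEquivQuotSMul_mk_tmul,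
      quotTensorEquivQuotSMul_mk_tmul, one_smul, one_smul, Submodule.Quotient.eq,
      show p • (⊤ : Submodule B Y) = ⊥ from le_bot_iff.mp (Submodule.smul_le.mpr fun a ha y _ => by
        rw [Submodule.mem_bot]; exact hY a ha y), Submodule.mem_bot, sub_eq_zero] at this
    rw [hf this]
  haveI : Module.Flat (B ⧸ p) κ := IsLocalization.flat κ (nonZeroDivisors (B ⧸ p))
  have h2 : Function.Injective (f.lTensor κ) :=
    (Groth.FlatMorOne.lTensor_baseChange_injective_iff (T := B ⧸ p) (A := κ) f).mp
      (Module.Flat.lTensor_preserves_injective_linearMap _ (by rw [LinearMap.baseChange_eq_ltensor]; exact h1))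
  letI : Algebra κ k := (Ideal.ResidueField.lift p (algebraMap B k) hp.ge fun x hx => by
    refine isUnit_iff_ne_zero.mpr fun h0 => hx ?_
    rw [← hp]
    exact h0).toAlgebra
  haveI : IsScalarTower B κ k := IsScalarTower.of_algebraMap_eq fun x =>
    (Ideal.ResidueField.lift_algebraMap p (algebraMap B k) _ _ x).symm
  exact (Groth.FlatMorOne.lTensor_baseChange_injective_iff (T := κ) (A := k) f).mp
    (Module.Flat.lTensor_preserves_injective_linearMap _ (by rw [LinearMap.baseChange_eq_ltensor]; exact h2))

set_option maxHeartbeats 1600000 in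
set_option synthInstance.maxHeartbeats 200000 in
/-- At a Noetherian stage, a map into a module flat at a prime which is injective modulo the prime is
universally injective at the prime. -/
theorem killed_of_injective_mod {B Cb Mb Nb : Type u} [CommRing B] [IsNoetherianRing B] [CommRing Cb]
    [Algebra B Cb] [Algebra.FiniteType B Cb] [AddCommGroup Mb] [Module Cb Mb] [Module B Mb]
    [IsScalarTower B Cb Mb] [Module.Finite Cb Mb] [AddCommGroup Nb] [Module Cb Nb] [Module B Nb]
    [IsScalarTower B Cb Nb] (hb : Mb →ₗ[Cb] Nb) (qb : Ideal Cb) [qb.IsPrime]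
    [Module.Flat B (LocalizedModule qb.primeCompl Nb)]
    (hinj : ∀ x : Mb, hb x ∈ qb.under B • (⊤ : Submodule B Nb) →
      ∃ t ∉ qb, t • x ∈ qb.under B • (⊤ : Submodule B Mb))
    (P : Type u) [AddCommGroup P] [Module B P] (w : Mb ⊗[B] P)
    (hw : (hb.restrictScalars B).rTensor P w = 0) : ∃ t ∉ qb, t • w = 0 := by
  classical
  let p := qb.under B
  let Bp := Localization.AtPrime p
  let Cq := Localization.AtPrime qb
  letI : Algebra Bp Cq := (Localization.localRingHom p qb (algebraMap B Cb) rfl).toAlgebra
  haveI : IsLocalHom (algebraMap Bp Cq) :=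
    Localization.isLocalHom_localRingHom p qb (algebraMap B Cb) rfl
  haveI : IsScalarTower B Bp Cq := IsScalarTower.of_algebraMap_eq fun b =>
    (IsScalarTower.algebraMap_apply B Cb Cq b).trans
      (Localization.localRingHom_to_map p qb (algebraMap B Cb) rfl b).symm
  haveI : IsNoetherianRing Cb := Algebra.FiniteType.isNoetherianRing B Cb
  haveI : IsNoetherianRing Cq := IsLocalization.isNoetherianRing qb.primeCompl Cq inferInstance
  let LM := LocalizedModule qb.primeCompl Mb
  let LN := LocalizedModule qb.primeCompl Nb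
  let ℓM : Mb →ₗ[Cb] LM := LocalizedModule.mkLinearMap qb.primeCompl Mb
  let ℓN : Nb →ₗ[Cb] LN := LocalizedModule.mkLinearMap qb.primeCompl Nb
  letI : Module Bp LM := Module.compHom LM (algebraMap Bp Cq)
  letI : Module Bp LN := Module.compHom LN (algebraMap Bp Cq)
  haveI : IsScalarTower Bp Cq LM := IsScalarTower.of_algebraMap_smul fun _ _ => rfl
  haveI : IsScalarTower Bp Cq LN := IsScalarTower.of_algebraMap_smul fun _ _ => rfl
  haveI : IsScalarTower B Bp LM := IsScalarTower.of_algebraMap_smul fun b m => by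
    rw [← algebraMap_smul Cq (algebraMap B Bp b), ← IsScalarTower.algebraMap_apply,
      algebraMap_smul]
  haveI : IsScalarTower B Bp LN := IsScalarTower.of_algebraMap_smul fun b m => by
    rw [← algebraMap_smul Cq (algebraMap B Bp b), ← IsScalarTower.algebraMap_apply,
      algebraMap_smul]
  haveI : Module.Finite Cq LM := Module.Finite.of_isLocalizedModule qb.primeCompl (Rₚ := Cq) ℓM
  haveI : Module.Flat Bp LN := (Module.flat_iff_of_isLocalization Bp p.primeCompl LN).mpr inferInstance
  let L : LM →ₗ[Cq] LN := (LocalizedModule.map qb.primeCompl) hb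
  have hL : ∀ x, L (ℓM x) = ℓN (hb x) := fun x => by
    show (IsLocalizedModule.map qb.primeCompl ℓM ℓN hb) (ℓM x) = _
    exact IsLocalizedModule.map_apply _ _ _ hb x
  let Lp : LM →ₗ[Bp] LN := L.restrictScalars Bp
  have hmax : maximalIdeal Bp = p.map (algebraMap B Bp) := Localization.AtPrime.map_eq_maximalIdeal.symm
  have hmem : ∀ {X : Type u} [AddCommGroup X] [Module B X] [Module Bp X] [IsScalarTower B Bp X] (x : X),
      x ∈ maximalIdeal Bp • (⊤ : Submodule Bp X) ↔ x ∈ p • (⊤ : Submodule B X) := by
    intro X _ _ _ _ x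
    rw [hmax, ← Submodule.restrictScalars_mem B, Ideal.smul_restrictScalars]
    rfl
  have hres : Function.Injective (Lp.lTensor (ResidueField Bp)) := by
    rw [injective_iff_map_eq_zero]
    intro z hz
    obtain ⟨y, rfl⟩ := TensorProduct.mk_surjective Bp LM (ResidueField Bp)
      Ideal.Quotient.mk_surjective z
    have hy : Lp y ∈ maximalIdeal Bp • (⊤ : Submodule Bp LN) := by
      rw [← Submodule.Quotient.mk_eq_zero, ← one_smul Bp (Lp y),
        ← quotTensorEquivQuotSMul_mk_tmul (maximalIdeal Bp) 1 (Lp y)]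
      exact (congrArg (quotTensorEquivQuotSMul LN (maximalIdeal Bp)) hz).trans (map_zero _)
    have hyM : y ∈ maximalIdeal Bp • (⊤ : Submodule Bp LM) := by
      obtain ⟨⟨x, t⟩, hx⟩ := IsLocalizedModule.surj qb.primeCompl ℓM y
      have h2 : ℓN (hb x) ∈ p • (⊤ : Submodule B LN) := by
        rw [← hL, ← hx, ← hmem]
        change L ((t : Cb) • y) ∈ _
        rw [← algebraMap_smul Cq (t : Cb) y, map_smul]
        rw [hmem] at hy ⊢
        refine Submodule.smul_induction_on hy (fun r hr m _ => ?_) fun a b ha hb' => ?_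
        · rw [smul_comm]
          exact Submodule.smul_mem_smul hr trivial
        · rw [smul_add]
          exact add_mem ha hb'
      obtain ⟨t₁, ht₁, h3⟩ := exists_smul_mem_of_localized qb.primeCompl ℓN p h2
      rw [← map_smul] at h3
      obtain ⟨t₂, ht₂, h4⟩ := hinj _ h3
      let tt : qb.primeCompl := ⟨t₂ * t₁ * t, mul_mem (mul_mem ht₂ ht₁) t.2⟩
      obtain ⟨e, he⟩ := IsLocalization.map_units Cq tt
      have h5 : ((tt : Cb) • y) ∈ p • (⊤ : Submodule B LM) := by
        have : (tt : Cb) • y = ℓM (t₂ • t₁ • x) := by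
          rw [map_smul, map_smul, ← hx]
          simp only [tt, mul_smul]
          rfl
        rw [this]
        exact Submodule.smul_induction_on h4 (fun r hr m _ => by
          rw [LinearMap.map_smul_of_tower]; exact Submodule.smul_mem_smul hr trivial)
          fun a b ha hb' => by rw [map_add]; exact add_mem ha hb'
      have h6 : y = (↑e⁻¹ : Cq) • ((tt : Cb) • y) := by
        rw [← algebraMap_smul Cq (tt : Cb) y, smul_smul, ← he, Units.inv_mul, one_smul]
      rw [hmem, h6]
      exact Submodule.smul_induction_on h5 (fun r hr m _ => by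
        rw [smul_comm]; exact Submodule.smul_mem_smul hr trivial)
        fun a b ha hb' => by rw [smul_add]; exact add_mem ha hb'
    rw [TensorProduct.mk_apply]
    apply (quotTensorEquivQuotSMul LM (maximalIdeal Bp)).injective
    refine ((quotTensorEquivQuotSMul_mk_tmul (maximalIdeal Bp) 1 y).trans ?_).trans
      (map_zero (quotTensorEquivQuotSMul LM (maximalIdeal Bp))).symm
    rw [one_smul, Submodule.Quotient.mk_eq_zero]
    exact hyM
  obtain ⟨hLinj, hQ⟩ := Groth.FlatMorOne.injective_and_flat_coker Cq Lp hres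
  haveI : Module.Flat B (LN ⧸ LinearMap.range Lp) :=
    (Module.flat_iff_of_isLocalization Bp p.primeCompl _).mp hQ
  have hPinj : Function.Injective ((Lp.restrictScalars B).rTensor P) :=
    rTensor_injective_of_flat_coker (g := Lp.restrictScalars B) (π := (LinearMap.range Lp).mkQ.restrictScalars B) hLinj
      (fun y => LinearMap.exact_map_mkQ_range Lp y) (Submodule.mkQ_surjective _) P
  have key : ∀ z : Mb ⊗[B] P, (Lp.restrictScalars B).rTensor P (AlgebraTensorModule.rTensor B P ℓM z) =
      AlgebraTensorModule.rTensor B P ℓN ((hb.restrictScalars B).rTensor P z) := by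
    intro z
    induction z with
    | zero => simp
    | tmul m x => simp [Lp, hL]
    | add a b ha hb' => simp only [map_add, ha, hb']
  have h0 : AlgebraTensorModule.rTensor B P ℓM w = 0 := by
    apply hPinj
    rw [key, hw, map_zero, map_zero]
  obtain ⟨⟨s, hs⟩, hsz⟩ := (IsLocalizedModule.eq_zero_iff qb.primeCompl
    (AlgebraTensorModule.rTensor B P ℓM)).mp h0
  exact ⟨s, hs, hsz⟩

set_option maxHeartbeats 1600000 in
set_option synthInstance.maxHeartbeats 200000 in
/-- A map into a module flat at a prime over the closed point which is injective modulo the maximal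
ideal is universally injective at the prime, given a Noetherian stage. -/
theorem killed_of_stage {B R Cb C Mb Nb M' N' : Type u} [CommRing B] [IsNoetherianRing B] [CommRing R]
    [IsLocalRing R] [CommRing Cb] [CommRing C] [Algebra B R] [Algebra B Cb] [Algebra.FiniteType B Cb]
    [Algebra R C] [Algebra Cb C] [Algebra B C] [IsScalarTower B R C] [IsScalarTower B Cb C]
    [Algebra.IsPushout B R Cb C]
    [AddCommGroup Mb] [Module Cb Mb] [Module B Mb] [IsScalarTower B Cb Mb] [Module.Finite Cb Mb]
    [AddCommGroup Nb] [Module Cb Nb] [Module B Nb] [IsScalarTower B Cb Nb]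
    [AddCommGroup M'] [Module C M'] [Module R M'] [IsScalarTower R C M'] [Module Cb M']
    [IsScalarTower Cb C M'] [Module B M'] [IsScalarTower B R M'] [IsScalarTower B Cb M']
    [AddCommGroup N'] [Module C N'] [Module R N'] [IsScalarTower R C N'] [Module B N']
    [IsScalarTower B R N']
    {hb : Mb →ₗ[Cb] Nb} {βM : Mb →ₗ[Cb] M'} (hβM : IsBaseChange C βM)
    {βN : Nb →ₗ[B] N'} (hβN : IsBaseChange R βN)
    (hσ : ∀ (c : Cb) x, βN (c • x) = algebraMap Cb C c • βN x)
    (h : M' →ₗ[C] N') (hh : ∀ x, h (βM x) = βN (hb x))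
    (q : Ideal C) [q.IsPrime] (hq : q.comap (algebraMap R C) = maximalIdeal R)
    [Module.Flat B (LocalizedModule (q.comap (algebraMap Cb C)).primeCompl Nb)]
    (hinj : ∀ x : M', h x ∈ maximalIdeal R • (⊤ : Submodule R N') →
      ∃ t ∉ q, t • x ∈ maximalIdeal R • (⊤ : Submodule R M'))
    (P : Type u) [AddCommGroup P] [Module R P] (z : M' ⊗[R] P)
    (hz : (h.restrictScalars R).rTensor P z = 0) : ∃ t ∉ q, t • z = 0 := by
  classical
  let qb := q.comap (algebraMap Cb C)
  let p := qb.under B
  have hp : p = (maximalIdeal R).comap (algebraMap B R) := by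
    simp only [p, qb, Ideal.under, ← hq, Ideal.comap_comap, ← IsScalarTower.algebraMap_eq]
  have hker : RingHom.ker (algebraMap B (ResidueField R)) = p := by
    ext b
    rw [hp, RingHom.mem_ker, Ideal.mem_comap, IsScalarTower.algebraMap_apply B R (ResidueField R)]
    exact Ideal.Quotient.eq_zero_iff_mem
  have hβMR : IsBaseChange R (βM.restrictScalars B) :=
    Groth.FlatMorOne.isBaseChange_restrict (A := B) (R := R) (SA := Cb) (S := C) hβM
  have hC : IsBaseChange R (IsScalarTower.toAlgHom B Cb C).toLinearMap := ‹Algebra.IsPushout B R Cb C›.out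
  have hstage : ∀ x : Mb, hb x ∈ p • (⊤ : Submodule B Nb) →
      ∃ t ∉ qb, t • x ∈ p • (⊤ : Submodule B Mb) := by
    intro x hx
    have hm : h (βM x) ∈ maximalIdeal R • (⊤ : Submodule R N') := by
      rw [hh]
      refine Submodule.smul_induction_on hx (fun r hr m _ => ?_) fun a b ha hb' => ?_
      · rw [map_smul, ← algebraMap_smul R r]
        exact Submodule.smul_mem_smul (hp ▸ hr : r ∈ (maximalIdeal R).comap (algebraMap B R)) trivial
      · rw [map_add]
        exact add_mem ha hb'
    obtain ⟨t', ht', htx⟩ := hinj _ hm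
    by_contra hcon
    push Not at hcon
    let P₀ : Submodule Cb Mb := (p.map (algebraMap B Cb)) • ⊤
    have hP₀ : ∀ m, m ∈ P₀ ↔ m ∈ p • (⊤ : Submodule B Mb) := by
      intro m
      change m ∈ ((p.map (algebraMap B Cb)) • (⊤ : Submodule Cb Mb)).restrictScalars B ↔ _
      rw [Ideal.smul_restrictScalars]
      rfl
    let J : Ideal Cb := P₀.comap (LinearMap.toSpanSingleton Cb Mb x)
    have hJ : J ≤ qb := fun c hc => by
      by_contra hcq
      exact hcon c hcq ((hP₀ _).mp hc)
    let φ : (Cb ⧸ J) →ₗ[Cb] Mb ⧸ P₀ :=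
      Submodule.liftQ J (P₀.mkQ ∘ₗ LinearMap.toSpanSingleton Cb Mb x) fun c hc =>
        (Submodule.Quotient.mk_eq_zero P₀).mpr hc
    have hφ : Function.Injective φ := by
      rw [injective_iff_map_eq_zero]
      intro a ha
      obtain ⟨c, rfl⟩ := Ideal.Quotient.mk_surjective a
      exact Ideal.Quotient.eq_zero_iff_mem.mpr ((Submodule.Quotient.mk_eq_zero P₀).mp ha)
    let k := ResidueField R
    let φk : k ⊗[B] (Cb ⧸ J) →ₗ[R] k ⊗[B] (Mb ⧸ P₀) :=
      AlgebraTensorModule.lTensor R k (φ.restrictScalars B)
    have hφk : Function.Injective φk :=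
      lTensor_injective_of_killed p hker (fun a ha y => by
        obtain ⟨m, rfl⟩ := Submodule.mkQ_surjective _ y
        rw [Submodule.mkQ_apply, ← Submodule.Quotient.mk_smul, Submodule.Quotient.mk_eq_zero, hP₀]
        exact Submodule.smul_mem_smul ha trivial) (φ.restrictScalars B) hφ
    let gM : Mb →ₗ[B] k ⊗[B] (Mb ⧸ P₀) :=
      (TensorProduct.mk B k (Mb ⧸ P₀) 1) ∘ₗ P₀.mkQ.restrictScalars B
    let π : M' →ₗ[R] k ⊗[B] (Mb ⧸ P₀) := hβMR.lift gM
    let gC : Cb →ₗ[B] k ⊗[B] (Cb ⧸ J) :=
      (TensorProduct.mk B k (Cb ⧸ J) 1) ∘ₗ (Ideal.Quotient.mkₐ B J).toLinearMap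
    let τ : C →ₗ[R] k ⊗[B] (Cb ⧸ J) := hC.lift gC
    have hkey : ∀ c : C, π (c • βM x) = φk (τ c) := by
      intro c
      refine hC.inductionOn c (fun c => π (c • βM x) = φk (τ c)) (by simp) (fun cb => ?_)
        (fun r c hc => by rw [smul_assoc, map_smul π r, map_smul τ r, map_smul φk r, hc])
        fun a b ha hb' => by rw [add_smul, map_add, map_add, map_add, ha, hb']
      change π (algebraMap Cb C cb • βM x) = φk (τ ((IsScalarTower.toAlgHom B Cb C).toLinearMap cb))
      rw [algebraMap_smul, ← map_smul, show βM (cb • x) = βM.restrictScalars B (cb • x) from rfl,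
        IsBaseChange.lift_eq, IsBaseChange.lift_eq]
      rfl
    have hkill : ∀ y ∈ maximalIdeal R • (⊤ : Submodule R M'), π y = 0 := by
      intro y hy
      refine Submodule.smul_induction_on hy (fun r hr m _ => ?_) fun a b ha hb' => by
        rw [map_add, ha, hb', add_zero]
      rw [map_smul, ← algebraMap_smul k r]
      rw [show algebraMap R k r = 0 from Ideal.Quotient.eq_zero_iff_mem.mpr hr, zero_smul]
    have hτ : τ t' = 0 := hφk (((hkey t').symm.trans (hkill _ htx)).trans (map_zero φk).symm)
    let fk : k →ₐ[R] C ⧸ q := Ideal.Quotient.liftₐ (maximalIdeal R) (Algebra.ofId R (C ⧸ q)) fun a ha => by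
      change algebraMap R (C ⧸ q) a = 0
      rw [IsScalarTower.algebraMap_apply R C (C ⧸ q)]
      exact Ideal.Quotient.eq_zero_iff_mem.mpr (hq.ge ha)
    let gq : (Cb ⧸ J) →ₐ[B] C ⧸ q := Ideal.Quotient.liftₐ J
      ((Ideal.Quotient.mkₐ B q).comp (IsScalarTower.toAlgHom B Cb C)) fun a ha =>
        Ideal.Quotient.eq_zero_iff_mem.mpr (hJ ha)
    let ψ : k ⊗[B] (Cb ⧸ J) →ₐ[R] C ⧸ q :=
      Algebra.TensorProduct.lift fk gq fun _ _ => Commute.all _ _
    have hψ : ∀ c, ψ (τ c) = Ideal.Quotient.mk q c := by
      intro c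
      refine hC.inductionOn c (fun c => ψ (τ c) = Ideal.Quotient.mk q c) (by simp) (fun cb => ?_)
        (fun r c hc => by rw [map_smul, map_smul, hc]; rfl)
        fun a b ha hb' => by rw [map_add, map_add, map_add, ha, hb']
      rw [IsBaseChange.lift_eq]
      simp [ψ, gC, gq]
      try rfl
    refine ht' (Ideal.Quotient.eq_zero_iff_mem.mp ?_)
    rw [← hψ, hτ, map_zero]
  letI : Module B P := Module.compHom P (algebraMap B R)
  haveI : IsScalarTower B R P := IsScalarTower.of_algebraMap_smul fun _ _ => rfl
  let eM := Groth.FlatMorOne.baseChangeTensorEquiv hβMR P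
  let eN := Groth.FlatMorOne.baseChangeTensorEquiv hβN P
  have hnat : ∀ w, (h.restrictScalars R).rTensor P (eM.symm w) =
      eN.symm ((hb.restrictScalars B).rTensor P w) := by
    intro w
    induction w with
    | zero => simp
    | tmul m j => simp [eM, eN, Groth.FlatMorOne.baseChangeTensorEquiv_symm_tmul, hh]
    | add a b ha hb' => simp only [map_add, ha, hb']
  obtain ⟨w, rfl⟩ := eM.symm.surjective z
  obtain ⟨t, ht, htw⟩ := killed_of_injective_mod hb qb hstage P w
    (eN.symm.injective (by rw [← hnat, hz, map_zero]))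
  refine ⟨algebraMap Cb C t, ht, ?_⟩
  have key : ∀ w, eM.symm (t • w) = algebraMap Cb C t • eM.symm w := by
    intro w
    induction w with
    | zero => simp
    | tmul m j => simp only [eM, smul_tmul', Groth.FlatMorOne.baseChangeTensorEquiv_symm_tmul,
        LinearMap.restrictScalars_apply, map_smul, algebraMap_smul]
    | add a b ha hb' => simp only [smul_add, map_add, ha, hb']
  rw [← key, htw, map_zero]

end Groth.Calg1
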