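import Mathlib
import Groth.Prelude.Def_CAlgX
import Groth.Agent.Calg1.InjModMaximal
import Groth.Agent.Calg1.EssFPModels
import Groth.Agent.FlatMorOne.FlatLocusModelFlat

/-!
Maps into flat modules which are injective modulo the maximal ideal, over local algebras essentially
of finite presentation.
-/

set_option autoImplicit false

universe u

open TensorProduct IsLocalRing Groth.FlatMorOne

namespace Groth.Calg1

set_option linter.style.haveILetI false

attribute [local instance] Algebra.TensorProduct.rightAlgebra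

/-- `isBaseChange_quotient_span` with the map specified. -/
theorem exists_isBaseChange_quotient_span_eq {S₀ S : Type u} [CommRing S₀] [CommRing S] [Algebra S₀ S]
    {n : ℕ} {σ : Type*} (k₀ : σ → Fin n → S₀) {M : Type u} [AddCommGroup M] [Module S₀ M] [Module S M]
    [IsScalarTower S₀ S M] (K : Submodule S (Fin n → S)) (e : M ≃ₗ[S] (Fin n → S) ⧸ K)
    (hK : K = Submodule.span S (Set.range fun j => fun i => algebraMap S₀ S (k₀ j i))) :
    ∃ f : ((Fin n → S₀) ⧸ Submodule.span S₀ (Set.range k₀)) →ₗ[S₀] M, IsBaseChange S f ∧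
      ∀ v : Fin n → S₀, f (Submodule.Quotient.mk v) =
        e.symm (Submodule.Quotient.mk fun i => algebraMap S₀ S (v i)) := by
  classical
  let K₀ := Submodule.span S₀ (Set.range k₀)
  let π₀ : (Fin n → S₀) →ₗ[S₀] M :=
    ((e.symm.toLinearMap ∘ₗ K.mkQ).restrictScalars S₀) ∘ₗ
      LinearMap.pi fun i => (Algebra.linearMap S₀ S) ∘ₗ LinearMap.proj i
  have hπ₀ : ∀ v, π₀ v = e.symm (Submodule.Quotient.mk fun i => algebraMap S₀ S (v i)) := fun _ => rfl
  have hle : K₀ ≤ LinearMap.ker π₀ := by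
    rw [Submodule.span_le]
    rintro _ ⟨j, rfl⟩
    rw [SetLike.mem_coe, LinearMap.mem_ker, hπ₀, LinearEquiv.map_eq_zero_iff,
      Submodule.Quotient.mk_eq_zero, hK]
    exact Submodule.subset_span ⟨j, rfl⟩
  obtain ⟨g, hg⟩ := isBaseChange_quotient_span k₀ K e hK
  let f := K₀.liftQ π₀ hle
  refine ⟨f, ?_, fun v => rfl⟩
  -- both maps agree after composing with the universal one
  let Φ : (Fin n → S) →ₗ[S] S ⊗[S₀] ((Fin n → S₀) ⧸ K₀) :=
    Fintype.linearCombination S fun i => 1 ⊗ₜ K₀.mkQ (Pi.single i 1)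
  have hΦmap : ∀ v : Fin n → S₀, Φ (fun i => algebraMap S₀ S (v i)) = 1 ⊗ₜ K₀.mkQ v := by
    intro v
    rw [Fintype.linearCombination_apply]
    conv_rhs => rw [pi_eq_sum_univ' v]
    rw [map_sum, tmul_sum]
    refine Finset.sum_congr rfl fun i _ => ?_
    rw [map_smul, tmul_smul, algebraMap_smul]
  have hK0 : ∀ v ∈ K, Φ v = 0 := by
    intro v hv
    rw [hK] at hv
    induction hv using Submodule.span_induction with
    | mem w hw =>
      obtain ⟨j, rfl⟩ := hw
      rw [hΦmap, show K₀.mkQ (k₀ j) = 0 from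
        (Submodule.Quotient.mk_eq_zero _).mpr (Submodule.subset_span ⟨j, rfl⟩), tmul_zero]
    | zero => rw [map_zero]
    | add x y _ _ hx hy => rw [map_add, hx, hy, add_zero]
    | smul r x _ hx => rw [map_smul, hx, smul_zero]
  have hF : ∀ v, f.liftBaseChange S (Φ v) = e.symm (Submodule.Quotient.mk v) := by
    intro v
    conv_rhs => rw [← Submodule.mkQ_apply, pi_eq_sum_univ' v]
    rw [Fintype.linearCombination_apply, map_sum, map_sum, map_sum]
    refine Finset.sum_congr rfl fun i _ => ?_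
    rw [map_smul, map_smul, map_smul]
    congr 1
    rw [LinearMap.liftBaseChange_tmul, one_smul]
    show π₀ (Pi.single i 1) = _
    rw [hπ₀, Submodule.mkQ_apply]
    congr 2
    funext j
    by_cases h : j = i <;> simp [Pi.single_apply, h]
  have hΦs : ∀ z, ∃ v, Φ v = z := by
    intro z
    induction z with
    | zero => exact ⟨0, map_zero _⟩
    | tmul s x =>
      obtain ⟨v, rfl⟩ := K₀.mkQ_surjective x
      exact ⟨s • fun i => algebraMap S₀ S (v i),
        by rw [map_smul, hΦmap, smul_tmul', smul_eq_mul, mul_one]⟩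
    | add x y hx hy =>
      obtain ⟨v, rfl⟩ := hx
      obtain ⟨w, rfl⟩ := hy
      exact ⟨v + w, map_add _ _ _⟩
  refine IsBaseChange.of_equiv (LinearEquiv.ofBijective (f.liftBaseChange S)
    ⟨(injective_iff_map_eq_zero _).mpr fun z hz => ?_, fun m => ?_⟩) fun x => by simp
  · obtain ⟨v, rfl⟩ := hΦs z
    rw [hF, LinearEquiv.map_eq_zero_iff, Submodule.Quotient.mk_eq_zero] at hz
    exact hK0 v hz
  · obtain ⟨v, hv⟩ := K.mkQ_surjective (e m)
    exact ⟨Φ v, by rw [hF, ← Submodule.mkQ_apply, hv, LinearEquiv.symm_apply_apply]⟩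

section StageLemmas

variable {R₀ R S₀ S N₀ N : Type u} [CommRing R₀] [CommRing R] [Algebra R₀ R] [CommRing S₀]
  [Algebra R₀ S₀] [CommRing S] [Algebra R S] [Algebra S₀ S] [Algebra R₀ S] [IsScalarTower R₀ R S]
  [IsScalarTower R₀ S₀ S] [hpush : Algebra.IsPushout R₀ R S₀ S]
  [AddCommGroup N₀] [Module R₀ N₀] [Module S₀ N₀] [IsScalarTower R₀ S₀ N₀]
  [AddCommGroup N] [Module S N] [Module R N] [IsScalarTower R S N] [Module S₀ N] [IsScalarTower S₀ S N]

theorem toAlgHom_comp_inclusion {A B : Subalgebra R₀ R} (hle : A ≤ B) :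
    (IsScalarTower.toAlgHom R₀ B R).comp (Subalgebra.inclusion hle) = A.val :=
  AlgHom.ext fun _ => rfl

theorem stageAlgHom_inclusion {A B : Subalgebra R₀ R} (hle : A ≤ B) (x : SOf R₀ S₀ A) :
    stageAlgHom R₀ R S₀ S B (sMap R₀ S₀ (Subalgebra.inclusion hle) x) =
      pushoutAlgEquiv R₀ R S₀ S (sMap R₀ S₀ A.val x) := by
  rw [stageAlgHom, AlgHom.comp_apply, sMap_sMap, toAlgHom_comp_inclusion hle]
  rfl

theorem stageLinearMap_inclusion {f₀ : N₀ →ₗ[S₀] N} (hf₀ : IsBaseChange S f₀) {A B : Subalgebra R₀ R}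
    (hle : A ≤ B) (x : MOf R₀ S₀ N₀ A) :
    stageLinearMap (R₀ := R₀) (R := R) hf₀ B (mMap R₀ S₀ N₀ (Subalgebra.inclusion hle) x) =
      pushoutModuleEquiv (R₀ := R₀) (R := R) hf₀ (mMap R₀ S₀ N₀ A.val x) := by
  have h1 : mMap R₀ S₀ N₀ (IsScalarTower.toAlgHom R₀ B R) (mMap R₀ S₀ N₀ (Subalgebra.inclusion hle) x) =
      mMap R₀ S₀ N₀ A.val x := by
    rw [mMap_mMap, toAlgHom_comp_inclusion hle]
  rw [← h1]
  rfl

end StageLemmas

set_option maxHeartbeats 2000000 in
set_option synthInstance.maxHeartbeats 200000 in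
/-- A map of finitely presented modules over a finitely presented algebra into a module flat at a
prime over the closed point, injective modulo the maximal ideal at the prime, is universally injective
there. -/
theorem killed_of_fp {R C M' N' : Type u} [CommRing R] [IsLocalRing R] [CommRing C] [Algebra R C]
    [Algebra.FinitePresentation R C] [AddCommGroup M'] [Module C M'] [Module R M'] [IsScalarTower R C M']
    [Module.FinitePresentation C M'] [AddCommGroup N'] [Module C N'] [Module R N'] [IsScalarTower R C N']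
    [Module.FinitePresentation C N'] (h : M' →ₗ[C] N')
    (q : Ideal C) [q.IsPrime] (hq : q.comap (algebraMap R C) = maximalIdeal R)
    [Module.Flat R (LocalizedModule q.primeCompl N')]
    (hinj : ∀ x : M', h x ∈ maximalIdeal R • (⊤ : Submodule R N') →
      ∃ t ∉ q, t • x ∈ maximalIdeal R • (⊤ : Submodule R M'))
    (P : Type u) [AddCommGroup P] [Module R P] (z : M' ⊗[R] P)
    (hz : (h.restrictScalars R).rTensor P z = 0) : ∃ t ∉ q, t • z = 0 := by
  classical
  obtain ⟨R₀, hR₀, C₀, _, _, _, _, hC₀, hpush, N₀, _, _, _, _, _, _, f₀, hN₀, hf₀⟩ :=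
    exists_models R C N'
  haveI : IsNoetherianRing R₀ := Algebra.FiniteType.isNoetherianRing ℤ R₀
  obtain ⟨n, K, e, hKfg⟩ := Module.FinitePresentation.exists_fin (R := C) (M := M')
  obtain ⟨s, hs⟩ := hKfg
  let y : Fin n → N' := fun i => h (e.symm (Submodule.Quotient.mk (Pi.single i 1)))
  have hy : ∀ a : Fin n → C, h (e.symm (Submodule.Quotient.mk a)) = ∑ i, a i • y i := by
    intro a
    conv_lhs => rw [← Submodule.mkQ_apply, pi_eq_sum_univ' a]
    simp only [map_sum, map_smul, Submodule.mkQ_apply, y]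
  let eA := pushoutAlgEquiv R₀ R C₀ C
  let eN := pushoutModuleEquiv (R₀ := R₀) (R := R) hf₀
  choose Av hAv vA hvA using fun j : s × Fin n => exists_sMap_eq R₀ C₀ (eA.symm (j.1.1 j.2))
  choose Ay hAy yA hyA using fun i : Fin n => exists_mMap_eq R₀ C₀ N₀ (eN.symm (y i))
  obtain ⟨A₀, hA₀, hflat⟩ := exists_stage_flat_at (R₀ := R₀) (R := R) hf₀ ⟨q, inferInstance⟩
    inferInstance
  have hsupFG : ∀ {ι : Type u} [Fintype ι] (f : ι → Subalgebra R₀ R), (∀ i, (f i).FG) →
      (Finset.univ.sup f).FG := fun f hf => Finset.sup_induction Subalgebra.fg_bot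
        (fun _ h _ h' => h.sup h') fun i _ => hf i
  let A₁ : Subalgebra R₀ R :=
    (A₀ ⊔ Finset.univ.sup Av) ⊔ Finset.univ.sup (Ay ∘ ULift.down.{u})
  have hA₁ : A₁.FG := (hA₀.sup (hsupFG Av hAv)).sup (hsupFG _ fun i => hAy i.down)
  have hvle : ∀ j, Av j ≤ A₁ := fun j =>
    ((Finset.le_sup (Finset.mem_univ j)).trans le_sup_right).trans le_sup_left
  have hyle : ∀ i, Ay i ≤ A₁ := fun i => le_trans
    (Finset.le_sup (f := Ay ∘ ULift.down.{u}) (Finset.mem_univ (⟨i⟩ : ULift.{u} (Fin n)))) le_sup_right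
  let v₁ : s → Fin n → SOf R₀ C₀ A₁ := fun j i =>
    sMap R₀ C₀ (Subalgebra.inclusion (hvle (j, i))) (vA (j, i))
  let y₁ : Fin n → MOf R₀ C₀ N₀ A₁ := fun i =>
    mMap R₀ C₀ N₀ (Subalgebra.inclusion (hyle i)) (yA i)
  have hv₁ : ∀ j i, sMap R₀ C₀ A₁.val (v₁ j i) = eA.symm (j.1 i) := fun j i => by
    rw [← hvA (j, i), sMap_sMap]
    rfl
  have hy₁ : ∀ i, mMap R₀ C₀ N₀ A₁.val (y₁ i) = eN.symm (y i) := fun i => by
    rw [← hyA i, mMap_mMap]
    rfl
  have hrel : ∀ j, mMap R₀ C₀ N₀ A₁.val (∑ i, v₁ j i • y₁ i) = 0 := by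
    intro j
    apply eN.injective
    rw [map_zero, map_sum, map_sum]
    have hj : h (e.symm (Submodule.Quotient.mk (j.1 : Fin n → C))) = 0 := by
      rw [(Submodule.Quotient.mk_eq_zero K).mpr (hs ▸ Submodule.subset_span j.2), map_zero, map_zero]
    rw [hy] at hj
    refine Eq.trans (Finset.sum_congr rfl fun i _ => ?_) hj
    rw [mMap_smul, hv₁, hy₁]
    refine (pushoutModuleEquiv_smul hf₀ _ _).trans ?_
    exact congrArg₂ (· • ·) (eA.apply_symm_apply _) (eN.apply_symm_apply _)
  choose A₂ hA₁₂ hA₂ hA₂0 using fun j => exists_mMap_eq_zero R₀ C₀ N₀ hA₁ (hrel j)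
  let B : Subalgebra R₀ R := A₁ ⊔ Finset.univ.sup A₂
  have hB : B.FG := hA₁.sup (hsupFG A₂ hA₂)
  have hA₁B : A₁ ≤ B := le_sup_left
  have hA₂B : ∀ j, A₂ j ≤ B := fun j => (Finset.le_sup (Finset.mem_univ j)).trans le_sup_right
  haveI : IsNoetherianRing B := isNoetherianRing_of_fg hB
  have hflatB := hflat B hB ((le_sup_left.trans le_sup_left).trans hA₁B)
  let vB : s → Fin n → SOf R₀ C₀ B := fun j i => sMap R₀ C₀ (Subalgebra.inclusion hA₁B) (v₁ j i)
  let yB : Fin n → MOf R₀ C₀ N₀ B := fun i => mMap R₀ C₀ N₀ (Subalgebra.inclusion hA₁B) (y₁ i)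
  -- the model of `C`
  letI : Algebra (SOf R₀ C₀ B) C := (stageAlgHom R₀ R C₀ C B).toRingHom.toAlgebra
  letI : Module (SOf R₀ C₀ B) M' := Module.compHom M' (algebraMap (SOf R₀ C₀ B) C)
  haveI : IsScalarTower (SOf R₀ C₀ B) C M' := IsScalarTower.of_algebraMap_smul fun _ _ => rfl
  haveI : IsScalarTower B (SOf R₀ C₀ B) C := IsScalarTower.of_algebraMap_eq fun a => by
    change _ = stageAlgHom R₀ R C₀ C B (a ⊗ₜ 1)
    simp only [stageAlgHom, AlgHom.comp_apply, sMap_tmul, AlgEquiv.coe_toAlgHom,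
      pushoutAlgEquiv_tmul, map_one, mul_one]
    rfl
  haveI : IsScalarTower B C M' := IsScalarTower.of_algebraMap_smul fun a m => by
    rw [IsScalarTower.algebraMap_apply B R C, algebraMap_smul, algebraMap_smul]
  haveI : IsScalarTower B (SOf R₀ C₀ B) M' := IsScalarTower.of_algebraMap_smul fun a m => by
    have h1 : algebraMap (SOf R₀ C₀ B) C (algebraMap B (SOf R₀ C₀ B) a) = algebraMap B C a :=
      (IsScalarTower.algebraMap_apply B (SOf R₀ C₀ B) C a).symm
    exact ((algebraMap_smul C (algebraMap B (SOf R₀ C₀ B) a) m).symm.trans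
      (congrArg (· • m) h1)).trans (algebraMap_smul C a m)
  haveI hpushC : Algebra.IsPushout B R (SOf R₀ C₀ B) C :=
    isPushout_stage (R₀ := R₀) (R := R) B (fun _ => rfl)
  have hvB : ∀ j i, algebraMap (SOf R₀ C₀ B) C (vB j i) = j.1 i := by
    intro j i
    exact ((stageAlgHom_inclusion hA₁B (v₁ j i)).trans (congrArg eA (hv₁ j i))).trans
      (eA.apply_symm_apply _)
  have hK : K = Submodule.span C (Set.range fun j => fun i => algebraMap (SOf R₀ C₀ B) C (vB j i)) := by
    rw [← hs]
    refine congrArg (Submodule.span C) ?_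
    ext v
    simp only [hvB, Set.mem_range, Subtype.exists]
    exact ⟨fun hv => ⟨v, hv, rfl⟩, fun ⟨w, hw, he⟩ => he ▸ hw⟩
  obtain ⟨βM, hβM, hβMeq⟩ := exists_isBaseChange_quotient_span_eq vB K e hK
  have hrelB : ∀ j, ∑ i, vB j i • yB i = 0 := by
    intro j
    have h1 := congrArg (mMap R₀ C₀ N₀ (Subalgebra.inclusion (hA₂B j))) (hA₂0 j)
    rw [map_zero, mMap_mMap, map_sum] at h1
    refine Eq.trans (Finset.sum_congr rfl fun i _ => ?_) h1
    rw [mMap_smul]
    rfl
  let K₀ := Submodule.span (SOf R₀ C₀ B) (Set.range vB)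
  let hb : ((Fin n → SOf R₀ C₀ B) ⧸ K₀) →ₗ[SOf R₀ C₀ B] MOf R₀ C₀ N₀ B :=
    K₀.liftQ (Fintype.linearCombination (SOf R₀ C₀ B) yB) (Submodule.span_le.mpr (by
      rintro _ ⟨j, rfl⟩
      rw [SetLike.mem_coe, LinearMap.mem_ker, Fintype.linearCombination_apply]
      exact hrelB j))
  have hσ : ∀ (c : SOf R₀ C₀ B) (x : MOf R₀ C₀ N₀ B),
      stageLinearMap (R₀ := R₀) (R := R) hf₀ B (c • x) =
        algebraMap (SOf R₀ C₀ B) C c • stageLinearMap (R₀ := R₀) (R := R) hf₀ B x := fun c x =>
    stageLinearMap_smul hf₀ B c x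
  have hyB : ∀ i, stageLinearMap (R₀ := R₀) (R := R) hf₀ B (yB i) = y i := by
    intro i
    exact ((stageLinearMap_inclusion hf₀ hA₁B (y₁ i)).trans (congrArg eN (hy₁ i))).trans
      (eN.apply_symm_apply _)
  haveI : Module.Finite (SOf R₀ C₀ B) ((Fin n → SOf R₀ C₀ B) ⧸ K₀) := inferInstance
  haveI : Module.Flat B (LocalizedModule (q.comap (algebraMap (SOf R₀ C₀ B) C)).primeCompl
      (MOf R₀ C₀ N₀ B)) := flat_localized_of_eq (hq := hflatB) rfl
  refine killed_of_stage (Cb := SOf R₀ C₀ B) (hb := hb) hβM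
    (isBaseChange_stageLinearMap (R₀ := R₀) (R := R) hf₀ B) hσ h (fun x => ?_) q hq hinj P z hz
  obtain ⟨a, rfl⟩ := Submodule.mkQ_surjective K₀ x
  rw [Submodule.mkQ_apply, hβMeq, hy]
  simp only [hb, Submodule.liftQ_apply, Fintype.linearCombination_apply, map_sum]
  exact Finset.sum_congr rfl fun i _ => by rw [hσ, hyB]

set_option synthInstance.maxHeartbeats 200000 in
/-- Injectivity modulo the maximal ideal of a map into a flat module implies universal injectivity. -/
theorem rTensor_injective_of_injective_mod {R S M N : Type u} [CommRing R] [CommRing S] [IsLocalRing R]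
    [IsLocalRing S] [Algebra R S] [IsLocalHom (algebraMap R S)] (hS : CAlgX.IsEssFinitePresentation R S)
    [AddCommGroup M] [Module S M] [Module R M] [IsScalarTower R S M] [Module.FinitePresentation S M]
    [AddCommGroup N] [Module S N] [Module R N] [IsScalarTower R S N] [Module.FinitePresentation S N]
    [Module.Flat R N] (u : M →ₗ[S] N)
    (hu : ∀ x : M, u x ∈ (maximalIdeal R).map (algebraMap R S) • (⊤ : Submodule S N) →
      x ∈ (maximalIdeal R).map (algebraMap R S) • (⊤ : Submodule S M))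
    (P : Type u) [AddCommGroup P] [Module R P] :
    Function.Injective ((u.restrictScalars R).rTensor P) := by
  classical
  obtain ⟨C, _, _, _, _, T, hfp, hloc⟩ := hS
  have hq₀ : IsLocalization.AtPrime S ((maximalIdeal S).comap (algebraMap C S)) :=
    isLocalization_atPrime_of_isLocalRing T
  set q := (maximalIdeal S).comap (algebraMap C S) with hqdef
  letI : Module C M := Module.compHom M (algebraMap C S)
  letI : Module C N := Module.compHom N (algebraMap C S)
  haveI : IsScalarTower C S M := IsScalarTower.of_algebraMap_smul fun _ _ => rfl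
  haveI : IsScalarTower C S N := IsScalarTower.of_algebraMap_smul fun _ _ => rfl
  haveI : IsScalarTower R C M := IsScalarTower.of_algebraMap_smul fun r m => by
    rw [← algebraMap_smul S (algebraMap R C r) m, ← IsScalarTower.algebraMap_apply, algebraMap_smul]
  haveI : IsScalarTower R C N := IsScalarTower.of_algebraMap_smul fun r m => by
    rw [← algebraMap_smul S (algebraMap R C r) m, ← IsScalarTower.algebraMap_apply, algebraMap_smul]
  obtain ⟨M', _, _, hM', fM, hfM⟩ := exists_fp_model (S := S) (M := M) q.primeCompl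
  obtain ⟨N', _, _, hN', fN, hfN⟩ := exists_fp_model (S := S) (M := N) q.primeCompl
  letI : Module R M' := Module.compHom M' (algebraMap R C)
  letI : Module R N' := Module.compHom N' (algebraMap R C)
  haveI : IsScalarTower R C M' := IsScalarTower.of_algebraMap_smul fun _ _ => rfl
  haveI : IsScalarTower R C N' := IsScalarTower.of_algebraMap_smul fun _ _ => rfl
  obtain ⟨h, s, hs⟩ := Module.FinitePresentation.exists_lift_of_isLocalizedModule q.primeCompl fN
    (u.restrictScalars C ∘ₗ fM)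
  have hsu : IsUnit (algebraMap C S s) := IsLocalization.map_units S s
  have hsapp : ∀ x, fN (h x) = (s : C) • u (fM x) := fun x => LinearMap.congr_fun hs x
  have hq : q.comap (algebraMap R C) = maximalIdeal R := by
    rw [hqdef, Ideal.comap_comap, ← IsScalarTower.algebraMap_eq, IsLocalRing.maximalIdeal_comap]
  haveI : Module.Flat R (LocalizedModule q.primeCompl N') :=
    Module.Flat.of_linearEquiv ((IsLocalizedModule.linearEquiv q.primeCompl
      (LocalizedModule.mkLinearMap q.primeCompl N') fN).restrictScalars R)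
  have hinj : ∀ x : M', h x ∈ maximalIdeal R • (⊤ : Submodule R N') →
      ∃ t ∉ q, t • x ∈ maximalIdeal R • (⊤ : Submodule R M') := by
    intro x hx
    refine exists_smul_mem_of_localized q.primeCompl fM (maximalIdeal R) ?_
    have h1 : fN (h x) ∈ maximalIdeal R • (⊤ : Submodule R N) := by
      refine Submodule.smul_induction_on hx (fun r hr m _ => ?_) fun a b ha hb => ?_
      · rw [LinearMap.map_smul_of_tower]
        exact Submodule.smul_mem_smul hr trivial
      · rw [map_add]
        exact add_mem ha hb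
    have e : algebraMap C S (s : C) • u (fM x) = fN (h x) :=
      (algebraMap_smul S (s : C) (u (fM x))).trans (hsapp x).symm
    have h3 : algebraMap C S (s : C) • u (fM x) ∈
        ((maximalIdeal R).map (algebraMap R S) • (⊤ : Submodule S N)).restrictScalars R := by
      rw [Ideal.smul_restrictScalars, e]
      exact h1
    have h4 : u (fM x) ∈ (maximalIdeal R).map (algebraMap R S) • (⊤ : Submodule S N) :=
      (Submodule.smul_mem_iff_of_isUnit _ hsu).mp h3
    have h2 := hu _ h4
    rw [← Submodule.restrictScalars_mem R, Ideal.smul_restrictScalars] at h2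
    exact h2
  let ΦM := AlgebraTensorModule.rTensor R P fM
  let ΦN := AlgebraTensorModule.rTensor R P fN
  let hP := AlgebraTensorModule.rTensor R P h
  let uP := AlgebraTensorModule.rTensor R P (u.restrictScalars C)
  have key : ∀ w, ΦN (hP w) = (s : C) • uP (ΦM w) := by
    intro w
    induction w with
    | zero => simp
    | tmul m p => simp [ΦM, ΦN, hP, uP, hsapp, smul_tmul']
    | add a b ha hb => simp only [map_add, smul_add, ha, hb]
  rw [injective_iff_map_eq_zero]
  intro z hz
  obtain ⟨⟨w, t⟩, hw⟩ := IsLocalizedModule.surj q.primeCompl ΦM z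
  have h0 : ΦN (hP w) = 0 := by
    rw [key, ← hw]
    change (s : C) • uP ((t : C) • z) = 0
    rw [map_smul, show uP z = 0 from hz, smul_zero, smul_zero]
  obtain ⟨⟨t₁, ht₁⟩, h1⟩ := (IsLocalizedModule.eq_zero_iff q.primeCompl ΦN).mp h0
  obtain ⟨t₂, ht₂, h2⟩ := killed_of_fp h q hq hinj P (t₁ • w) (by
    change hP (t₁ • w) = 0
    rw [map_smul]
    exact h1)
  refine IsLocalizedModule.smul_injective ΦM t ?_
  show t • z = t • 0
  rw [smul_zero]
  refine Eq.trans hw ?_
  exact (IsLocalizedModule.eq_zero_iff q.primeCompl ΦM).mpr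
    ⟨⟨t₂ * t₁, mul_mem ht₂ ht₁⟩, by rw [Submonoid.mk_smul, mul_smul, h2]⟩

end Groth.Calg1
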