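import Groth.Agent.Calg1.QuasiRegular
import Groth.Agent.Calg1.Completion

/-!
Appending an `H_1`-regular sequence to a quasi-regular one.
-/

set_option autoImplicit false

universe u

open MvPolynomial

namespace Groth.Calg1

section Koszul

variable {R : Type u} [CommRing R] {c : ℕ} (f : Fin c → R)

theorem degree_eq_of_isHomogeneous {σ : Type*} {S : Type*} [CommSemiring S] {P : MvPolynomial σ S} {N : ℕ}
    (hP : P.IsHomogeneous N) {β : σ →₀ ℕ} (hβ : P.coeff β ≠ 0) : Finsupp.degree β = N := by
  have h := hP hβ
  rw [Finsupp.degree_eq_weight_one (R := ℕ)]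
  exact h

theorem homogeneousComponent_mem_koszulIdeal {P : MvPolynomial (Fin c) R} (hP : P ∈ koszulIdeal f) (d : ℕ) :
    homogeneousComponent d P ∈ koszulIdeal f := by
  classical
  suffices H : ∀ r : MvPolynomial (Fin c) R, homogeneousComponent d (r * P) ∈ koszulIdeal f by
    simpa using H 1
  induction hP using Submodule.span_induction with
  | mem z hz =>
    intro r
    obtain ⟨⟨i, j⟩, rfl⟩ := hz
    have hG : (C (f j) * X i - C (f i) * X j : MvPolynomial (Fin c) R).IsHomogeneous 1 :=
      ((isHomogeneous_X R i).C_mul _).sub ((isHomogeneous_X R j).C_mul _)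
    rcases Nat.eq_zero_or_pos d with rfl | hd
    · have : homogeneousComponent 0 (r * (C (f j) * X i - C (f i) * X j)) = 0 := by
        rw [homogeneousComponent_zero, ← constantCoeff_eq, map_mul]
        simp
      rw [this]; exact zero_mem _
    · rw [← Nat.sub_add_cancel hd, ← sum_homogeneousComponent r, Finset.sum_mul, map_sum]
      refine Ideal.sum_mem _ fun k _ => ?_
      rw [homogeneousComponent_of_mem ((homogeneousComponent_isHomogeneous k r).mul hG)]
      split_ifs
      · exact Ideal.mul_mem_left _ _ (Ideal.subset_span ⟨(i, j), rfl⟩)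
      · exact zero_mem _
  | zero => intro r; simp
  | add a b _ _ ha hb => intro r; rw [mul_add, map_add]; exact add_mem (ha r) (hb r)
  | smul s a _ ha => intro r; rw [smul_eq_mul, ← mul_assoc]; exact ha (r * s)

theorem eval_eq_zero_of_mem_koszulIdeal {P : MvPolynomial (Fin c) R} (hP : P ∈ koszulIdeal f) :
    eval f P = 0 := by
  refine (Ideal.span_le.2 ?_ : koszulIdeal f ≤ RingHom.ker (eval f)) hP
  rintro _ ⟨⟨i, j⟩, rfl⟩
  simp [mul_comm]

theorem koszulIdeal_map {S : Type u} [CommRing S] (φ : R →+* S) :
    (koszulIdeal f).map (MvPolynomial.map φ) = koszulIdeal (fun i => φ (f i)) := by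
  rw [koszulIdeal, koszulIdeal, Ideal.map_span, ← Set.range_comp]
  exact congrArg (fun s => Ideal.span (Set.range s)) (funext fun ij => by simp)

end Koszul

variable {A : Type u} [CommRing A] {n m : ℕ} (f : Fin n → A) (g : Fin m → A)

/-- The splitting step: a form killed by `g` modulo `(f)` has its value in `(f) · (g)^(d-1)`. -/
theorem exists_correction (hg : CAlgX.IsH1Regular (fun j => Ideal.Quotient.mk (Ideal.span (Set.range f)) (g j)))
    {d : ℕ} {c : MvPolynomial (Fin m) A} (hc : c.IsHomogeneous (d + 1))
    (he : eval g c ∈ Ideal.span (Set.range f)) :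
    (∀ β, c.coeff β ∈ Ideal.span (Set.range f) ⊔ Ideal.span (Set.range g)) ∧
      ∃ h : Fin n → MvPolynomial (Fin m) A, (∀ i, (h i).IsHomogeneous d) ∧
        (∀ i β, (h i).coeff β ∈ Ideal.span (Set.range f) ⊔ Ideal.span (Set.range g)) ∧
        eval g c = ∑ i, f i * eval g (h i) := by
  classical
  set J := Ideal.span (Set.range f) with hJ
  let π := Ideal.Quotient.mk J
  have h1 : MvPolynomial.map π c ∈ (koszulIdeal g).map (MvPolynomial.map π) := by
    rw [koszulIdeal_map]
    refine mem_koszulIdeal_of_eval_eq_zero _ hg (d + 1) (hc.map π) ?_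
    rw [eval_map, ← coe_eval₂Hom, ← Ideal.Quotient.eq_zero_iff_mem.2 he]
    exact (eval₂_comp_left π (RingHom.id A) g c).symm
  rw [Ideal.mem_map_iff_of_surjective _ (map_surjective _ Ideal.Quotient.mk_surjective)] at h1
  obtain ⟨w₀, hw₀, hwc⟩ := h1
  let w := homogeneousComponent (d + 1) w₀
  have hw : w ∈ koszulIdeal g := homogeneousComponent_mem_koszulIdeal g hw₀ _
  have hwh : w.IsHomogeneous (d + 1) := homogeneousComponent_isHomogeneous _ _
  have hj : ∀ β, (c - w).coeff β ∈ J := by
    intro β
    rw [coeff_sub, coeff_homogeneousComponent]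
    have h2 := congrArg (coeff β) hwc
    rw [coeff_map, coeff_map, Ideal.Quotient.eq] at h2
    split_ifs with hβ
    · simpa using J.neg_mem h2
    · by_cases hcβ : c.coeff β = 0
      · simp [hcβ]
      · exact absurd (degree_eq_of_isHomogeneous hc hcβ) hβ
  refine ⟨fun β => ?_, ?_⟩
  · rw [← sub_add_cancel c w, coeff_add]
    exact add_mem (Ideal.mem_sup_left (hj β)) (Ideal.mem_sup_right (coeff_mem_of_mem_koszulIdeal g hw β))
  choose r hr using fun β => Ideal.mem_span_range_iff_exists_fun.1 (hj β)
  let u : Fin n → MvPolynomial (Fin m) A := fun i =>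
    ∑ β ∈ (c - w).support, monomial β (r β i)
  have hu : ∀ i, (u i).IsHomogeneous (d + 1) := fun i => IsHomogeneous.sum _ _ _ fun β hβ => by
    refine isHomogeneous_monomial _ ?_
    rw [← degree_eq_of_isHomogeneous (hc.sub hwh) (mem_support_iff.1 hβ)]
  choose Q hQ hQu using fun i => exists_decomposition (hu i)
  refine ⟨fun i => ∑ t, C (g t) * Q i t, fun i => IsHomogeneous.sum _ _ _ fun t _ => (hQ i t).C_mul _,
    fun i β => ?_, ?_⟩
  · rw [coeff_sum]
    refine Ideal.sum_mem _ fun t _ => ?_
    rw [coeff_C_mul]
    exact Ideal.mul_mem_right _ _ (Ideal.mem_sup_right (Ideal.subset_span ⟨t, rfl⟩))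
  · have hsum : c - w = ∑ i, C (f i) * u i := by
      simp only [u, Finset.mul_sum, C_mul_monomial]
      rw [Finset.sum_comm]
      conv_lhs => rw [(c - w).as_sum]
      refine Finset.sum_congr rfl fun β _ => ?_
      rw [← map_sum, ← hr β]
      exact congrArg _ (Finset.sum_congr rfl fun i _ => mul_comm _ _)
    have h3 := congrArg (eval g) hsum
    rw [map_sub, eval_eq_zero_of_mem_koszulIdeal g hw, sub_zero] at h3
    rw [h3, map_sum]
    refine Finset.sum_congr rfl fun i _ => ?_
    rw [map_mul, eval_C]
    conv_lhs => rw [hQu i]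
    simp

/-- The main induction, on polynomials in `X` over `A[Y]`. -/
theorem coeff_mem_of_ev_eq_zero (hf : CAlgX.IsQuasiRegular f)
    (hg : CAlgX.IsH1Regular (fun j => Ideal.Quotient.mk (Ideal.span (Set.range f)) (g j))) (N : ℕ) :
    ∀ (k l : ℕ), l + k = N → ∀ Q : MvPolynomial (Fin n) (MvPolynomial (Fin m) A),
      (∀ α, Q.coeff α ≠ 0 → Finsupp.degree α ≤ N ∧ (Q.coeff α).IsHomogeneous (N - Finsupp.degree α)) →
      (∀ α, Finsupp.degree α < l → Q.coeff α = 0) →
      eval f (MvPolynomial.map (eval g) Q) = 0 →
      ∀ α β, (Q.coeff α).coeff β ∈ Ideal.span (Set.range f) ⊔ Ideal.span (Set.range g) := by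
  classical
  intro k
  induction k using Nat.strong_induction_on with
  | _ k ih =>
    intro l hl Q hbi hlow hev
    have hcoeffJ : ∀ α, Finsupp.degree α = l → eval g (Q.coeff α) ∈ Ideal.span (Set.range f) := by
      intro α hα
      let P := MvPolynomial.map (eval g) Q
      have h1 : eval f (homogeneousComponent l P) ∈ Ideal.span (Set.range f) ^ (l + 1) := by
        have h2 : eval f (∑ i ∈ Finset.range (P.totalDegree + 1), homogeneousComponent i P) = 0 := by
          rw [sum_homogeneousComponent]; exact hev
        rw [map_sum] at h2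
        by_cases hmem : l ∈ Finset.range (P.totalDegree + 1)
        · rw [← Finset.add_sum_erase _ _ hmem, add_eq_zero_iff_eq_neg] at h2
          rw [h2, neg_mem_iff]
          refine Ideal.sum_mem _ fun i hi => ?_
          obtain ⟨hil, -⟩ := Finset.mem_erase.1 hi
          rcases Nat.lt_or_ge i l with hlt | hge
          · have : homogeneousComponent i P = 0 := by
              ext α'
              rw [coeff_homogeneousComponent, coeff_zero]
              split_ifs with h'
              · rw [coeff_map, hlow α' (h' ▸ hlt), map_zero]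
              · rfl
            rw [this, map_zero]; exact zero_mem _
          · refine Ideal.pow_le_pow_right (show l + 1 ≤ i by omega) ?_
            have h4 := Groth.EGA41Two.eval_mem_pow f
              (Groth.EGA41Two.isForm_self (homogeneousComponent_isHomogeneous i P))
            rwa [Groth.EGA41Two.headSpan_self] at h4
        · rw [homogeneousComponent_eq_zero l P (by rw [Finset.mem_range] at hmem; omega), map_zero]
          exact zero_mem _
      have h5 := hf l _ (homogeneousComponent_isHomogeneous l P) h1 α
      rwa [coeff_homogeneousComponent, if_pos hα, coeff_map] at h5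
    by_cases hk : k = 0
    · intro α β
      by_cases h0 : Q.coeff α = 0
      · simp [h0]
      obtain ⟨hle, hhom⟩ := hbi α h0
      have hαl : Finsupp.degree α = l := by
        by_contra hne
        exact h0 (hlow α (by omega))
      rw [show N - Finsupp.degree α = 0 by omega] at hhom
      have hC := totalDegree_eq_zero_iff_eq_C.1 (hhom.totalDegree h0)
      have := hcoeffJ α hαl
      rw [hC, eval_C] at this
      rw [hC, coeff_C]
      split_ifs
      · exact Ideal.mem_sup_left this
      · exact zero_mem _
    · obtain ⟨d, hd⟩ : ∃ d, N - l = d + 1 := ⟨N - l - 1, by omega⟩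
      let s := Q.support.filter fun α => Finsupp.degree α = l
      have hcorr : ∀ α : s, (∀ β, (Q.coeff α.1).coeff β ∈ Ideal.span (Set.range f) ⊔ Ideal.span (Set.range g)) ∧
          ∃ h : Fin n → MvPolynomial (Fin m) A, (∀ i, (h i).IsHomogeneous d) ∧
          (∀ i β, (h i).coeff β ∈ Ideal.span (Set.range f) ⊔ Ideal.span (Set.range g)) ∧
          eval g (Q.coeff α.1) = ∑ i, f i * eval g (h i) := fun α => by
        have hα := Finset.mem_filter.1 α.2
        refine exists_correction f g hg ?_ (hcoeffJ α.1 hα.2)
        rw [← hd, ← hα.2]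
        exact (hbi α.1 (mem_support_iff.1 hα.1)).2
      choose hK h hh hhK hheq using hcorr
      let low : MvPolynomial (Fin n) (MvPolynomial (Fin m) A) := ∑ α : s, monomial α.1 (Q.coeff α.1)
      let up : MvPolynomial (Fin n) (MvPolynomial (Fin m) A) :=
        ∑ α : s, ∑ i, monomial (α.1 + Finsupp.single i 1) (h α i)
      have hlowc : ∀ α, low.coeff α = if Finsupp.degree α = l then Q.coeff α else 0 := by
        intro α
        simp only [low, coeff_sum, coeff_monomial]
        split_ifs with hα
        · by_cases h0 : Q.coeff α = 0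
          · rw [h0]
            exact Finset.sum_eq_zero fun x _ => by split_ifs with hx <;> simp_all
          · rw [Finset.sum_eq_single_of_mem (⟨α, Finset.mem_filter.2 ⟨mem_support_iff.2 h0, hα⟩⟩ : s)
              (Finset.mem_univ _) fun x _ hx => if_neg fun hxa => hx (Subtype.ext hxa)]
            rw [if_pos rfl]
        · exact Finset.sum_eq_zero fun x _ => if_neg fun hxa => hα (by rw [← hxa]; exact (Finset.mem_filter.1 x.2).2)
      have hupdeg : ∀ α, Finsupp.degree α ≠ l + 1 → up.coeff α = 0 := fun α hα => by
        simp only [up, coeff_sum, coeff_monomial]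
        refine Finset.sum_eq_zero fun x _ => Finset.sum_eq_zero fun i _ => if_neg fun hxa => hα ?_
        rw [← hxa, map_add, Finsupp.degree_single, (Finset.mem_filter.1 x.2).2]
      have huphom : ∀ α, (up.coeff α).IsHomogeneous d := fun α => by
        simp only [up, coeff_sum, coeff_monomial]
        refine IsHomogeneous.sum _ _ _ fun x _ => IsHomogeneous.sum _ _ _ fun i _ => ?_
        split_ifs
        · exact hh x i
        · exact isHomogeneous_zero _ _ _
      have hupK : ∀ α β, (up.coeff α).coeff β ∈ Ideal.span (Set.range f) ⊔ Ideal.span (Set.range g) := by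
        intro α β
        simp only [up, coeff_sum, coeff_monomial]
        refine Ideal.sum_mem _ fun x _ => Ideal.sum_mem _ fun i _ => ?_
        split_ifs
        · exact hhK x i β
        · simp
      have hev' : eval f (MvPolynomial.map (eval g) (Q - low + up)) = 0 := by
        rw [map_add, map_sub, map_add, map_sub, hev, zero_sub, neg_add_eq_sub, sub_eq_zero]
        simp only [low, up, map_sum, MvPolynomial.map_monomial, eval_monomial]
        refine Finset.sum_congr rfl fun α _ => ?_
        rw [hheq α, Finset.sum_mul]
        refine Finset.sum_congr rfl fun i _ => ?_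
        rw [Finsupp.prod_add_index' (fun _ => pow_zero _) (fun _ _ _ => pow_add _ _ _)]
        simp only [Finsupp.prod_single_index, pow_zero, pow_one]
        ring
      have hrec := ih (k - 1) (by omega) (l + 1) (by omega) (Q - low + up) (fun α hne => ?_) (fun α hα => ?_) hev'
      · intro α β
        have h1 := hrec α β
        rw [coeff_add, coeff_sub, hlowc, coeff_add, coeff_sub] at h1
        have h2 : (if Finsupp.degree α = l then Q.coeff α else 0).coeff β ∈
            Ideal.span (Set.range f) ⊔ Ideal.span (Set.range g) := by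
          split_ifs with hα
          · by_cases h0 : Q.coeff α = 0
            · simp [h0]
            · exact hK ⟨α, Finset.mem_filter.2 ⟨mem_support_iff.2 h0, hα⟩⟩ β
          · simp
        have := add_mem (sub_mem h1 (hupK α β)) h2
        simpa using this
      · rw [coeff_add, coeff_sub, hlowc] at hne ⊢
        by_cases hα1 : Finsupp.degree α = l + 1
        · refine ⟨by omega, ?_⟩
          rw [if_neg (by omega), sub_zero, show N - Finsupp.degree α = d by omega]
          by_cases h0 : Q.coeff α = 0
          · rw [h0, zero_add]; exact huphom α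
          · refine IsHomogeneous.add ?_ (huphom α)
            rw [show d = N - Finsupp.degree α by omega]
            exact (hbi α h0).2
        · rw [hupdeg α hα1, add_zero] at hne ⊢
          split_ifs at hne with hα <;> simp_all
      · rw [coeff_add, coeff_sub, hlowc, hupdeg α (by omega), add_zero]
        split_ifs with hα'
        · exact sub_self _
        · rw [sub_zero, hlow α (by omega)]

theorem isQuasiRegular_append (hf : CAlgX.IsQuasiRegular f)
    (hg : CAlgX.IsH1Regular (fun j => Ideal.Quotient.mk (Ideal.span (Set.range f)) (g j))) :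
    CAlgX.IsQuasiRegular (Fin.append f g) := by
  classical
  have hK : Ideal.span (Set.range (Fin.append f g)) = Ideal.span (Set.range f) ⊔ Ideal.span (Set.range g) := by
    rw [← Ideal.span_union]
    congr 1
    ext x
    simp only [Set.mem_range, Set.mem_union]
    constructor
    · rintro ⟨y, rfl⟩
      refine Fin.addCases (fun i => ?_) (fun i => ?_) y
      · exact Or.inl ⟨i, by simp⟩
      · exact Or.inr ⟨i, by simp⟩
    · rintro (⟨y, rfl⟩ | ⟨y, rfl⟩)
      · exact ⟨Fin.castAdd m y, by simp⟩
      · exact ⟨Fin.natAdd n y, by simp⟩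
  intro N P hP he d
  rw [pow_succ'] at he
  obtain ⟨P', hP', hc, he'⟩ := Groth.EGA41Two.exists_form (Fin.append f g)
    (Ideal.span (Set.range (Fin.append f g))) (n + m) N (eval (Fin.append f g) P)
    (by rwa [Groth.EGA41Two.headSpan_self])
  suffices H : ∀ P : MvPolynomial (Fin (n + m)) A, P.IsHomogeneous N → eval (Fin.append f g) P = 0 →
      ∀ d, P.coeff d ∈ Ideal.span (Set.range f) ⊔ Ideal.span (Set.range g) by
    have h1 := H (P - P') (hP.sub hP'.1) (by rw [map_sub, he', sub_self]) d
    rw [coeff_sub, ← hK] at h1
    simpa using add_mem h1 (hc d)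
  clear he' hc hP' he hP P' d P
  intro P hP he d
  let L : (Fin (n + m) →₀ ℕ) → (Fin n →₀ ℕ) := fun d => Finsupp.equivFunOnFinite.symm fun i => d (Fin.castAdd m i)
  let R : (Fin (n + m) →₀ ℕ) → (Fin m →₀ ℕ) := fun d => Finsupp.equivFunOnFinite.symm fun i => d (Fin.natAdd n i)
  have hinj : ∀ d d', L d = L d' → R d = R d' → d = d' := fun d d' h1 h2 => Finsupp.ext fun i => by
    refine Fin.addCases (fun i => ?_) (fun i => ?_) i
    · simpa [L] using congrArg (fun z => z i) h1
    · simpa [R] using congrArg (fun z => z i) h2
  have hdeg : ∀ d, Finsupp.degree d = Finsupp.degree (L d) + Finsupp.degree (R d) := fun d => by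
    rw [Finsupp.degree_eq_sum, Finsupp.degree_eq_sum, Finsupp.degree_eq_sum, Fin.sum_univ_add]
    simp [L, R]
  let Q : MvPolynomial (Fin n) (MvPolynomial (Fin m) A) :=
    ∑ d ∈ P.support, monomial (L d) (monomial (R d) (P.coeff d))
  have hQc : ∀ d, (Q.coeff (L d)).coeff (R d) = P.coeff d := fun d => by
    simp only [Q, coeff_sum, coeff_monomial]
    rw [Finset.sum_eq_single d]
    · simp
    · intro x _ hx
      split_ifs with hl
      · rw [coeff_monomial, if_neg fun hr => hx (hinj _ _ hl hr)]
      · exact coeff_zero _
    · intro hd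
      simp [notMem_support_iff.1 hd]
  have hmem := coeff_mem_of_ev_eq_zero f g hf hg N N 0 (zero_add N) Q (fun α hne => ?_)
    (fun α hα => absurd hα (Nat.not_lt_zero _)) ?_ (L d) (R d)
  · rwa [hQc] at hmem
  · simp only [Q, coeff_sum, coeff_monomial] at hne ⊢
    refine ⟨?_, IsHomogeneous.sum _ _ _ fun x hx => ?_⟩
    · by_contra hlt
      refine hne (Finset.sum_eq_zero fun x hx => if_neg fun hxa => hlt ?_)
      have := degree_eq_of_isHomogeneous hP (mem_support_iff.1 hx)
      rw [← hxa]
      have := hdeg x
      omega
    · split_ifs with hxa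
      · refine isHomogeneous_monomial _ ?_
        have := degree_eq_of_isHomogeneous hP (mem_support_iff.1 hx)
        have := hdeg x
        rw [← hxa]
        omega
      · exact isHomogeneous_zero _ _ _
  · rw [← he]
    conv_rhs => rw [P.as_sum]
    simp only [Q, map_sum, MvPolynomial.map_monomial, eval_monomial]
    refine Finset.sum_congr rfl fun x _ => ?_
    rw [Finsupp.prod_fintype _ _ (fun _ => pow_zero _), Finsupp.prod_fintype _ _ (fun _ => pow_zero _),
      Finsupp.prod_fintype _ _ (fun _ => pow_zero _), Fin.prod_univ_add]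
    simp [L, R, mul_comm, mul_left_comm]

end Groth.Calg1
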