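import Mathlib
import Groth.Prelude.Def_Found
import Groth.Agent.EGA41Two.QuasiRegularConv

/-!
`H_1`-regular sequences are quasi-regular.
-/

set_option autoImplicit false

universe u

open MvPolynomial

namespace Groth.Calg1

variable {R : Type u} [CommRing R] {c : ℕ} (f : Fin c → R)

/-- The ideal of the Koszul relations `f_j X_i - f_i X_j`. -/
noncomputable def koszulIdeal : Ideal (MvPolynomial (Fin c) R) :=
  Ideal.span (Set.range fun ij : Fin c × Fin c => C (f ij.2) * X ij.1 - C (f ij.1) * X ij.2)

theorem exists_syzygy {P : MvPolynomial (Fin c) R} (hP : P ∈ koszulIdeal f) :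
    ∃ T : Fin c → MvPolynomial (Fin c) R, P = ∑ j, C (f j) * T j ∧ ∑ j, X j * T j = 0 := by
  classical
  induction hP using Submodule.span_induction with
  | mem z hz =>
    obtain ⟨⟨i, j⟩, rfl⟩ := hz
    refine ⟨Pi.single j (X i) - Pi.single i (X j), ?_, ?_⟩
    · simp [mul_sub, Finset.sum_sub_distrib, Pi.single_apply]
    · simp [mul_sub, Finset.sum_sub_distrib, Pi.single_apply, mul_comm]
  | zero => exact ⟨0, by simp⟩
  | add a b _ _ ha hb =>
    obtain ⟨T, h1, h2⟩ := ha
    obtain ⟨T', h1', h2'⟩ := hb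
    exact ⟨T + T', by simp [h1, h1', mul_add, Finset.sum_add_distrib],
      by simp [mul_add, Finset.sum_add_distrib, h2, h2']⟩
  | smul r a _ ha =>
    obtain ⟨T, h1, h2⟩ := ha
    refine ⟨r • T, ?_, ?_⟩
    · rw [h1, smul_eq_mul, Finset.mul_sum]
      exact Finset.sum_congr rfl fun j _ => by rw [Pi.smul_apply, smul_eq_mul]; ring
    · rw [← mul_zero r, ← h2, Finset.mul_sum]
      exact Finset.sum_congr rfl fun j _ => by rw [Pi.smul_apply, smul_eq_mul]; ring

theorem coeff_mem_of_mem_koszulIdeal {P : MvPolynomial (Fin c) R} (hP : P ∈ koszulIdeal f)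
    (d : Fin c →₀ ℕ) : P.coeff d ∈ Ideal.span (Set.range f) := by
  obtain ⟨T, rfl, -⟩ := exists_syzygy f hP
  rw [coeff_sum]
  refine Ideal.sum_mem _ fun j _ => ?_
  rw [coeff_C_mul]
  exact Ideal.mul_mem_right _ _ (Ideal.subset_span ⟨j, rfl⟩)

theorem exists_decomposition {n : ℕ} {P : MvPolynomial (Fin c) R} (hP : P.IsHomogeneous (n + 1)) :
    ∃ Q : Fin c → MvPolynomial (Fin c) R, (∀ i, (Q i).IsHomogeneous n) ∧ P = ∑ i, X i * Q i := by
  classical
  have key : ∀ d ∈ P.support, ∃ i : Fin c, d i ≠ 0 := fun d hd => by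
    by_contra! h0
    have hd' := hP (mem_support_iff.1 hd)
    rw [show d = 0 from Finsupp.ext h0] at hd'
    simp [Finsupp.weight] at hd'
  choose ch hch using key
  refine ⟨fun i => ∑ d ∈ P.support.attach, if ch d.1 d.2 = i then
    monomial (d.1 - Finsupp.single i 1) (P.coeff d.1) else 0, fun i => ?_, ?_⟩
  · refine IsHomogeneous.sum _ _ _ fun d _ => ?_
    split_ifs with h
    · refine isHomogeneous_monomial _ ?_
      subst h
      have h1 := hP (mem_support_iff.1 d.2)
      rw [Finsupp.weight_apply] at h1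
      have hle : Finsupp.single (ch d.1 d.2) 1 ≤ d.1 :=
        Finsupp.single_le_iff.2 (Nat.one_le_iff_ne_zero.2 (hch d.1 d.2))
      have h2 : Finsupp.degree (d.1 - Finsupp.single (ch d.1 d.2) 1) + 1 = Finsupp.degree d.1 := by
        conv_rhs => rw [← tsub_add_cancel_of_le hle]
        rw [map_add, Finsupp.degree_single]
      have h3 : Finsupp.degree d.1 = n + 1 := by
        rw [← h1, Finsupp.degree_apply, Finsupp.sum]
        simp
      omega
    · exact isHomogeneous_zero _ _ _
  · conv_lhs => rw [P.as_sum, ← Finset.sum_attach]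
    simp_rw [Finset.mul_sum, mul_ite, mul_zero]
    rw [Finset.sum_comm]
    refine Finset.sum_congr rfl fun d _ => ?_
    rw [Finset.sum_ite_eq Finset.univ (ch d.1 d.2), if_pos (Finset.mem_univ _), X, monomial_mul, one_mul,
      add_tsub_cancel_of_le (Finsupp.single_le_iff.2 (Nat.one_le_iff_ne_zero.2 (hch d.1 d.2)))]

theorem mem_koszulIdeal_of_eval_eq_zero (hf : CAlgX.IsH1Regular f) :
    ∀ (n : ℕ) {P : MvPolynomial (Fin c) R}, P.IsHomogeneous n → eval f P = 0 → P ∈ koszulIdeal f := by
  classical
  intro n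
  induction n with
  | zero =>
    intro P hP he
    obtain ⟨a, rfl⟩ : ∃ a, P = C a := ⟨_, totalDegree_eq_zero_iff_eq_C.1 (by
      by_cases h : P = 0
      · simp [h]
      · exact hP.totalDegree h)⟩
    rw [eval_C] at he
    rw [he, map_zero]
    exact zero_mem _
  | succ n ih =>
    intro P hP he
    obtain ⟨Q, hQ, rfl⟩ := exists_decomposition hP
    have h0 : ∑ i, C (f i) * Q i ∈ koszulIdeal f := by
      refine ih (IsHomogeneous.sum _ _ _ fun i _ => (hQ i).C_mul _) ?_
      simp only [map_sum, map_mul, eval_X] at he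
      simp only [map_sum, map_mul, eval_C]
      exact he
    obtain ⟨T, hT, hXT⟩ := exists_syzygy f h0
    let v : Fin c → MvPolynomial (Fin c) R := fun i => Q i - T i
    have hv : ∀ d, ∑ i, (v i).coeff d * f i = 0 := fun d => by
      have := congrArg (coeff d) hT
      simp only [coeff_sum, coeff_C_mul] at this
      simp only [v, coeff_sub, mul_comm _ (f _), mul_sub, Finset.sum_sub_distrib, sub_eq_zero]
      exact this
    have hsum : (∑ i, X i * Q i) = ∑ d ∈ Finset.univ.biUnion fun i => (v i).support,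
        monomial d 1 * ∑ i, C ((v i).coeff d) * X i := by
      have hv' : (∑ i, X i * Q i) = ∑ i, X i * v i := by
        simp [v, mul_sub, Finset.sum_sub_distrib, hXT]
      rw [hv']
      simp_rw [Finset.mul_sum]
      rw [Finset.sum_comm]
      refine Finset.sum_congr rfl fun i _ => ?_
      conv_lhs => rw [(v i).as_sum]
      rw [Finset.mul_sum]
      rw [Finset.sum_subset (s₂ := Finset.univ.biUnion fun i => (v i).support)
        (f := fun d => X i * monomial d ((v i).coeff d))
        (fun d hd => Finset.mem_biUnion.2 ⟨i, Finset.mem_univ i, hd⟩)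
        fun d _ hd => by rw [notMem_support_iff.1 hd, map_zero, mul_zero]]
      refine Finset.sum_congr rfl fun d _ => ?_
      rw [← mul_assoc, mul_comm (monomial d 1) (C _), C_mul_monomial, mul_one, mul_comm]
    rw [hsum]
    refine Ideal.sum_mem _ fun d _ => Ideal.mul_mem_left _ _ ?_
    have hd := hf (fun i => (v i).coeff d) (hv d)
    suffices H : ∀ a ∈ Submodule.span R {w : Fin c → R | ∃ i j : Fin c, w = Pi.single i (f j) - Pi.single j (f i)},
        ∑ i, C (a i) * X i ∈ koszulIdeal f from H _ hd
    intro a ha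
    induction ha using Submodule.span_induction with
    | mem z hz =>
      obtain ⟨i, j, rfl⟩ := hz
      refine Eq.subst (motive := fun z => z ∈ koszulIdeal f) ?_ (Ideal.subset_span ⟨(i, j), rfl⟩)
      simp [Pi.single_apply, sub_mul, Finset.sum_sub_distrib, apply_ite C, ite_mul]
    | zero => simp
    | add x y _ _ hx hy =>
      simp only [Pi.add_apply, map_add, add_mul, Finset.sum_add_distrib]
      exact add_mem hx hy
    | smul r x _ hx =>
      simp only [Pi.smul_apply, smul_eq_mul, map_mul, mul_assoc, ← Finset.mul_sum]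
      exact Ideal.mul_mem_left _ _ hx

theorem isQuasiRegular_of_isH1Regular (hf : CAlgX.IsH1Regular f) : CAlgX.IsQuasiRegular f := by
  classical
  intro n P hP he d
  rw [pow_succ'] at he
  obtain ⟨P', hP', hc, he'⟩ :=
    Groth.EGA41Two.exists_form f (Ideal.span (Set.range f)) c n (eval f P) (by rwa [Groth.EGA41Two.headSpan_self])
  have h1 := coeff_mem_of_mem_koszulIdeal f
    (mem_koszulIdeal_of_eval_eq_zero f hf n (P := P - P') (hP.sub hP'.1) (by rw [map_sub, he', sub_self])) d
  rw [coeff_sub] at h1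
  simpa using add_mem h1 (hc d)

end Groth.Calg1
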