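import Groth.Agent.Calg1.AnalyticUnramified
import Groth.Agent.Calg4.Japanese

/-!
Analytically unramified local domains have finite normalisation.
-/

set_option autoImplicit false

universe u

open IsLocalRing

namespace Groth.Calg1

/-- A quotient of a complete Noetherian local ring is complete. -/
theorem isAdicComplete_quotient {C : Type u} [CommRing C] [IsLocalRing C] [IsNoetherianRing C]
    [IsAdicComplete (maximalIdeal C) C] (J : Ideal C) [IsLocalRing (C ⧸ J)] :
    IsAdicComplete (maximalIdeal (C ⧸ J)) (C ⧸ J) := by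
  have hs : Function.Surjective (AdicCompletion.of (maximalIdeal C) (C ⧸ J)) := fun z => by
    obtain ⟨w, rfl⟩ := AdicCompletion.map_surjective (maximalIdeal C) (Submodule.mkQ_surjective J) z
    obtain ⟨c, rfl⟩ := AdicCompletion.of_surjective (maximalIdeal C) C w
    exact ⟨Submodule.mkQ J c, (AdicCompletion.map_of (maximalIdeal C) (Submodule.mkQ J) c).symm⟩
  have h1 : IsAdicComplete (maximalIdeal C) (C ⧸ J) :=
    AdicCompletion.of_bijective_iff.1 ⟨AdicCompletion.of_injective _ _, hs⟩
  rw [← Groth.Ega4b.map_maximalIdeal_quotient]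
  exact (IsAdicComplete.map_algebraMap_iff (maximalIdeal C) (C ⧸ J) (S := C ⧸ J)).2 h1

/-- Finitely many members of a family with values in a product of finite submodules span the others. -/
theorem exists_finset_span {T : Type u} [CommRing T] [IsNoetherianRing T] {ι : Type u} [Finite ι]
    {L : ι → Type u} [∀ i, AddCommGroup (L i)] [∀ i, Module T (L i)] (N : ∀ i, Submodule T (L i))
    (hN : ∀ i, (N i).FG) {X : Type u} (ψ : X → ∀ i, L i) (h : ∀ x i, ψ x i ∈ N i) :
    ∃ W : Finset X, ∀ x, ∃ c : X → T, ∀ i, ψ x i = ∑ y ∈ W, c y • ψ y i := by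
  classical
  haveI : Module.Finite T (Submodule.pi Set.univ N) := Module.Finite.iff_fg.2 (Submodule.fg_pi hN)
  let f : X → Submodule.pi Set.univ N := fun x => ⟨ψ x, fun i _ => h x i⟩
  obtain ⟨W, hW, hspan⟩ := (Submodule.fg_span_iff_fg_span_finset_subset (R := T) (Set.range f)).1
    (IsNoetherian.noetherian _)
  choose g hg using fun w : W => hW w.2
  refine ⟨Finset.univ.image g, fun x => ?_⟩
  have hmem : f x ∈ Submodule.span T (f '' (Finset.univ.image g : Finset X)) := by
    have hx : f x ∈ Submodule.span T (W : Set (Submodule.pi Set.univ N)) :=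
      hspan ▸ Submodule.subset_span ⟨x, rfl⟩
    refine Submodule.span_mono (fun w hw => ?_) hx
    exact ⟨g ⟨w, hw⟩, Finset.mem_coe.2 (Finset.mem_image.2 ⟨⟨w, hw⟩, Finset.mem_univ _, rfl⟩), hg ⟨w, hw⟩⟩
  obtain ⟨c, hc⟩ := (Submodule.mem_span_image_finset_iff_exists_fun' (R := T)).1 hmem
  refine ⟨c, fun i => ?_⟩
  have := congrFun (congrArg Subtype.val hc) i
  simpa [f] using this.symm

/-- A domain with a faithfully flat reduced Noetherian algebra whose components have finite
normalisation is N-1. -/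
theorem isN1_of_faithfullyFlat_isReduced (R T : Type u) [CommRing R] [IsDomain R] [CommRing T]
    [Algebra R T] [IsNoetherianRing T] [IsReduced T] [Module.FaithfullyFlat R T]
    (hcl : ∀ P ∈ minimalPrimes T, ∀ [P.IsPrime],
      Module.Finite T (integralClosure (T ⧸ P) (FractionRing (T ⧸ P)))) : CAlg.IsN1 R := by
  classical
  let ι := {P : Ideal T // P ∈ minimalPrimes T}
  haveI : Finite ι := (minimalPrimes.finite_of_isNoetherianRing T).to_subtype
  haveI hp : ∀ i : ι, i.1.IsPrime := fun i => i.2.1.1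
  let L : ι → Type u := fun i => FractionRing (T ⧸ i.1)
  let g : ∀ i : ι, R →+* L i := fun i =>
    (algebraMap (T ⧸ i.1) (L i)).comp ((Ideal.Quotient.mk i.1).comp (algebraMap R T))
  have hgi : ∀ i, Function.Injective (g i) := by
    refine fun i => (injective_iff_map_eq_zero _).2 fun r hr => ?_
    by_contra h0
    have hmem : algebraMap R T r ∈ i.1 := by
      rw [← Ideal.Quotient.eq_zero_iff_mem]
      refine IsFractionRing.injective (T ⧸ i.1) (L i) ?_
      rw [map_zero, ← hr]; rfl
    refine Set.disjoint_left.1 (Ideal.disjoint_nonZeroDivisors_of_mem_minimalPrimes i.2) hmem ?_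
    refine mem_nonZeroDivisors_iff_right.2 fun z hz => ?_
    have hreg := Module.Flat.isSMulRegular_of_isRegular (M := T) (IsRegular.of_ne_zero (R := R) h0)
    refine hreg (?_ : r • z = r • (0 : T))
    rw [smul_zero, Algebra.smul_def, mul_comm]; exact hz
  have hφex : ∀ i : ι, ∃ φ : FractionRing R →+* L i,
      ∀ a, φ (algebraMap R (FractionRing R) a) = g i a :=
    fun i => ⟨IsFractionRing.lift (hgi i), fun a => IsFractionRing.lift_algebraMap (hgi i) a⟩
  choose φ hφ using hφex
  let R' := integralClosure R (FractionRing R)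
  have hint : ∀ (x : R') (i : ι), φ i x ∈
      ((integralClosure (T ⧸ i.1) (L i)).toSubmodule).restrictScalars T := by
    rintro ⟨x, p, hpm, hpr⟩ i
    refine ⟨p.map ((Ideal.Quotient.mk i.1).comp (algebraMap R T)), hpm.map _, ?_⟩
    rw [Polynomial.eval₂_map]
    have h2 := congrArg (φ i) hpr
    rw [map_zero, Polynomial.hom_eval₂] at h2
    rw [← h2]
    refine congrArg (fun f => Polynomial.eval₂ f (φ i x) p) (RingHom.ext fun a => ?_)
    exact (hφ i a).symm
  obtain ⟨W, hW⟩ := exists_finset_span
    (fun i : ι => ((integralClosure (T ⧸ i.1) (L i)).toSubmodule).restrictScalars T)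
    (fun i => Module.Finite.iff_fg.1 (hcl i.1 i.2)) (fun (x : R') i => φ i x) hint
  let G : Finset (FractionRing R) := W.image Subtype.val
  refine (Groth.Calg4.finite_ic_iff R (FractionRing R)).2
    ⟨G, G.finite_toSet, fun r => ⟨fun hr => ?_, fun hr => ?_⟩⟩
  swap
  · induction hr using Submodule.span_induction with
    | mem z hz =>
      obtain ⟨x, -, rfl⟩ := Finset.mem_image.1 hz
      exact x.2
    | zero => exact isIntegral_zero
    | add a b _ _ ha hb => exact ha.add hb
    | smul c a _ ha => exact ha.smul c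
  obtain ⟨c, hc⟩ := hW ⟨r, hr⟩
  obtain ⟨v, hv⟩ := IsLocalization.exist_integer_multiples_of_finset (nonZeroDivisors R) (insert r G)
  have hv' : ∀ z ∈ insert r G, ∃ u, algebraMap R (FractionRing R) u = algebraMap R _ (v : R) * z := fun z hz => by
    obtain ⟨u, hu⟩ := hv z hz
    exact ⟨u, by rw [hu, Algebra.smul_def]⟩
  choose u hu using hv'
  have hG : ∀ x : W, (x.1 : FractionRing R) ∈ insert r G := fun x =>
    Finset.mem_insert_of_mem (Finset.mem_image.2 ⟨x, x.2, rfl⟩)
  let u₀ := u r (Finset.mem_insert_self r G)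
  let J : Ideal R := Ideal.span (Set.range fun x : W => u _ (hG x))
  have hmemT : algebraMap R T u₀ ∈ J.map (algebraMap R T) := by
    suffices algebraMap R T u₀ = ∑ x : W, c x.1 * algebraMap R T (u _ (hG x)) by
      rw [this]
      exact Ideal.sum_mem _ fun x _ => Ideal.mul_mem_left _ _
        (Ideal.mem_map_of_mem _ (Ideal.subset_span ⟨x, rfl⟩))
    rw [← sub_eq_zero]
    refine IsReduced.eq_zero _ ?_
    rw [← mem_nilradical, nilradical, Ideal.radical_eq_sInf, Ideal.mem_sInf]
    intro P hP
    haveI := hP.2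
    obtain ⟨Q, hQ, hQP⟩ := Ideal.exists_minimalPrimes_le (bot_le : (⊥ : Ideal T) ≤ P)
    refine hQP (Ideal.Quotient.eq_zero_iff_mem.1 (IsFractionRing.injective (T ⧸ Q) (L ⟨Q, hQ⟩) ?_))
    have hgu : ∀ z (hz : z ∈ insert r G), algebraMap (T ⧸ Q) (L ⟨Q, hQ⟩) (Ideal.Quotient.mk Q (algebraMap R T (u z hz))) =
        g ⟨Q, hQ⟩ (v : R) * φ ⟨Q, hQ⟩ z := fun z hz => by
      rw [← hφ ⟨Q, hQ⟩ (v : R), ← map_mul (φ ⟨Q, hQ⟩), ← hu z hz]
      exact (hφ ⟨Q, hQ⟩ (u z hz)).symm
    rw [map_sub, map_sum, map_sub, map_sum, map_zero, sub_eq_zero, hgu, hc ⟨Q, hQ⟩, Finset.mul_sum,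
      ← Finset.sum_coe_sort W]
    refine Finset.sum_congr rfl fun x _ => ?_
    rw [map_mul, map_mul, hgu, Algebra.smul_def, mul_left_comm]
    rfl
  have hmemR : u₀ ∈ J := by
    rw [← Ideal.comap_map_eq_self_of_faithfullyFlat (B := T) J]
    exact hmemT
  obtain ⟨d, hd⟩ := Ideal.mem_span_range_iff_exists_fun.1 hmemR
  have hv0 : algebraMap R (FractionRing R) (v : R) ≠ 0 :=
    (map_ne_zero_iff _ (IsFractionRing.injective R _)).2 (nonZeroDivisors.ne_zero v.2)
  have : r = ∑ x : W, d x • (x.1 : FractionRing R) := by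
    refine mul_left_cancel₀ hv0 ?_
    rw [← hu r (Finset.mem_insert_self r G), show u r _ = u₀ from rfl, ← hd, map_sum, Finset.mul_sum]
    refine Finset.sum_congr rfl fun x _ => ?_
    rw [map_mul, hu, Algebra.smul_def, mul_left_comm]
  rw [this]
  exact Submodule.sum_mem _ fun x _ => Submodule.smul_mem _ _
    (Submodule.subset_span (Finset.mem_image.2 ⟨x, x.2, rfl⟩))

/-- An analytically unramified local domain is N-1, given that complete local domains are. -/
theorem isN1_of_isReduced_completion
    (hcl : ∀ (C : Type u) [CommRing C] [IsDomain C] [IsLocalRing C] [IsNoetherianRing C]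
      [IsAdicComplete (maximalIdeal C) C], CAlg.IsN1 C)
    (R : Type u) [CommRing R] [IsDomain R] [IsLocalRing R] [IsNoetherianRing R]
    (hred : IsReduced (AdicCompletion (maximalIdeal R) R)) : CAlg.IsN1 R := by
  haveI : IsNoetherianRing (AdicCompletion (maximalIdeal R) R) :=
    isNoetherianRing_adicCompletion _ (IsNoetherian.noetherian _)
  haveI := hred
  haveI : Module.FaithfullyFlat R (AdicCompletion (maximalIdeal R) R) :=
    Module.FaithfullyFlat.of_flat_of_isLocalHom
  refine isN1_of_faithfullyFlat_isReduced R (AdicCompletion (maximalIdeal R) R) fun P _ _ => ?_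
  haveI : Nontrivial (AdicCompletion (maximalIdeal R) R ⧸ P) :=
    Ideal.Quotient.nontrivial_iff.2 (Ideal.IsPrime.ne_top inferInstance)
  haveI : IsLocalRing (AdicCompletion (maximalIdeal R) R ⧸ P) :=
    IsLocalRing.of_surjective' (Ideal.Quotient.mk P) Ideal.Quotient.mk_surjective
  haveI := isAdicComplete_quotient P
  haveI : Module.Finite (AdicCompletion (maximalIdeal R) R ⧸ P)
      (integralClosure (AdicCompletion (maximalIdeal R) R ⧸ P)
        (FractionRing (AdicCompletion (maximalIdeal R) R ⧸ P))) := hcl _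
  exact Module.Finite.trans (AdicCompletion (maximalIdeal R) R ⧸ P) _

end Groth.Calg1
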