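import Mathlib
import Groth.Prelude.Def_CAlg
import Groth.Agent.LocCohBase.Depth

/-!
The depth step of the acyclicity lemma.
-/

set_option autoImplicit false

universe u

open CategoryTheory IsLocalRing

namespace Groth.Calg1

variable {R : Type u} [CommRing R] [IsLocalRing R] [IsNoetherianRing R]

theorem one_le_depth_of_injective {M N : Type u} [AddCommGroup M] [Module R M] [Module.Finite R M]
    [AddCommGroup N] [Module R N] [Module.Finite R N] (f : M →ₗ[R] N) (hf : Function.Injective f)
    (h : 1 ≤ LocCoh.depth R N) : 1 ≤ LocCoh.depth R M := by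
  have := (LocCohBase.idealDepth_shortExact (maximalIdeal R) f (LinearMap.range f).mkQ hf
    (Submodule.mkQ_surjective _) (LinearMap.exact_map_mkQ_range f)).2.2
  exact le_trans (le_min h le_add_self) this

theorem depth_eq_top_of_subsingleton (M : Type u) [AddCommGroup M] [Module R M] [Subsingleton M] :
    LocCoh.depth R M = ⊤ :=
  LocCohBase.idealDepth_eq_top_of_smul_top_eq_top (Subsingleton.elim _ _)

theorem le_depth_range (C : ChainComplex (ModuleCat.{u} R) ℕ) (e : ℕ)
    (hzero : ∀ j, e < j → Limits.IsZero (C.X j)) (hfin : ∀ j, Module.Finite R (C.X j))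
    (hdepth : ∀ j, j ≤ e → (j : ℕ∞) ≤ LocCoh.depth R (C.X j))
    (i : ℕ) (habove : ∀ j, i < j → C.ExactAt j) :
    ∀ k j, e ≤ j + k → i ≤ j → ((j + 1 : ℕ) : ℕ∞) ≤ LocCoh.depth R (LinearMap.range (C.d (j + 1) j).hom) := by
  intro k
  induction k with
  | zero =>
    intro j hj _
    haveI := ModuleCat.subsingleton_of_isZero (hzero (j + 1) (by omega))
    haveI : Subsingleton (LinearMap.range (C.d (j + 1) j).hom) :=
      ⟨fun ⟨a, x, hx⟩ ⟨b, y, hy⟩ => Subtype.ext (by
        change a = b
        rw [← hx, ← hy, Subsingleton.elim x y])⟩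
    rw [depth_eq_top_of_subsingleton]
    exact le_top
  | succ k ih =>
    intro j hj hij
    by_cases hje : e ≤ j
    · exact (fun h => h) (by
        haveI := ModuleCat.subsingleton_of_isZero (hzero (j + 1) (by omega))
        haveI : Subsingleton (LinearMap.range (C.d (j + 1) j).hom) :=
          ⟨fun ⟨a, x, hx⟩ ⟨b, y, hy⟩ => Subtype.ext (by
            change a = b
            rw [← hx, ← hy, Subsingleton.elim x y])⟩
        rw [depth_eq_top_of_subsingleton]
        exact le_top)
    · have h2 := ih (j + 1) (by omega) (by omega)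
      have hex := ((C.exactAt_iff' (j + 2) (j + 1) j (by simp) (by simp)).1 (habove (j + 1) (by omega))).moduleCat_range_eq_ker
      haveI := hfin (j + 1)
      haveI := hfin j
      haveI := hfin (j + 1 + 1)
      let f := (LinearMap.range (C.d (j + 1 + 1) (j + 1)).hom).subtype
      let g := (C.d (j + 1) j).hom.rangeRestrict
      have hfg : Function.Exact f g := by
        intro x
        rw [Set.mem_range]
        constructor
        · intro hx
          have hx' : (C.d (j + 1) j).hom x = 0 := congrArg Subtype.val hx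
          have hm : x ∈ LinearMap.range (C.d (j + 1 + 1) (j + 1)).hom := hex ▸ hx'
          exact ⟨⟨x, hm⟩, rfl⟩
        · rintro ⟨y, rfl⟩
          have hm : (y : C.X (j + 1)) ∈ LinearMap.ker (C.d (j + 1) j).hom := hex ▸ y.2
          exact Subtype.ext hm
      have h := (LocCohBase.idealDepth_shortExact (maximalIdeal R) f g Subtype.val_injective
        (LinearMap.surjective_rangeRestrict _) hfg).2.1
      refine le_trans (le_min (hdepth (j + 1) (by omega)) ?_) h
      change ((j + 1 : ℕ) : ℕ∞) ≤ LocCoh.depth R _ - 1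
      revert h2
      generalize LocCoh.depth R (LinearMap.range (C.d (j + 1 + 1) (j + 1)).hom) = D
      cases D with
      | top => simp
      | coe a => intro h2; norm_cast at h2 ⊢; omega

/-- At the largest spot of non-exactness, the homology has depth at least one. -/
theorem one_le_depth_homology (C : ChainComplex (ModuleCat.{u} R) ℕ) (e : ℕ)
    (hzero : ∀ j, e < j → Limits.IsZero (C.X j)) (hfin : ∀ j, Module.Finite R (C.X j))
    (hdepth : ∀ j, j ≤ e → (j : ℕ∞) ≤ LocCoh.depth R (C.X j))
    (i : ℕ) (hi : 0 < i) (hnot : ¬ C.ExactAt i) (habove : ∀ j, i < j → C.ExactAt j) :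
    1 ≤ LocCoh.depth R (C.homology i) := by
  have hie : i ≤ e := by
    by_contra h
    exact hnot ((C.exactAt_iff i).2 (ShortComplex.exact_of_isZero_X₂ _ (hzero i (by omega))))
  obtain ⟨l, rfl⟩ : ∃ l, i = l + 1 := ⟨i - 1, by omega⟩
  let S := C.sc' (l + 2) (l + 1) l
  have e1 : C.homology (l + 1) ≅ S.homology :=
    ShortComplex.homologyMapIso (C.isoSc' (l + 2) (l + 1) l (by simp) (by simp))
  let e2 := (e1 ≪≫ S.moduleCatHomologyIso).toLinearEquiv
  haveI := hfin (l + 1)
  haveI := hfin (l + 2)
  let B : Submodule R (C.X (l + 1)) := LinearMap.range (C.d (l + 2) (l + 1)).hom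
  have h1 := le_depth_range C e hzero hfin hdepth (l + 1) habove e (l + 1) (by omega) le_rfl
  have h := (LocCohBase.idealDepth_shortExact (maximalIdeal R) B.subtype B.mkQ Subtype.val_injective
    (Submodule.mkQ_surjective _) (LinearMap.exact_subtype_mkQ B)).2.1
  have hq : 1 ≤ LocCoh.depth R (C.X (l + 1) ⧸ B) := by
    refine le_trans (le_min ?_ ?_) h
    · exact le_trans (by exact_mod_cast Nat.succ_pos l) (hdepth (l + 1) hie)
    · change (1 : ℕ∞) ≤ LocCoh.depth R (LinearMap.range (C.d (l + 2) (l + 1)).hom) - 1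
      revert h1
      generalize LocCoh.depth R (LinearMap.range (C.d (l + 1 + 1) (l + 1)).hom) = D
      cases D with
      | top => simp
      | coe a => intro h1; norm_cast at h1 ⊢; omega
  let ψ : (LinearMap.ker S.g.hom ⧸ LinearMap.range S.moduleCatToCycles) →ₗ[R] C.X (l + 1) ⧸ B :=
    Submodule.mapQ _ B (LinearMap.ker S.g.hom).subtype (by
      rintro _ ⟨x, rfl⟩
      exact ⟨x, rfl⟩)
  have hψ : Function.Injective ψ := by
    rw [← LinearMap.ker_eq_bot, eq_bot_iff]
    intro x hx
    obtain ⟨y, rfl⟩ := Submodule.mkQ_surjective _ x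
    obtain ⟨z, hz⟩ := (Submodule.Quotient.mk_eq_zero B).1 hx
    exact (Submodule.Quotient.mk_eq_zero _).2 ⟨z, Subtype.ext hz⟩
  haveI : IsNoetherian R (C.X (l + 1) ⧸ B) := isNoetherian_of_isNoetherianRing_of_finite _ _
  haveI : Module.Finite R (C.homology (l + 1)) :=
    Module.Finite.of_injective (ψ.comp e2.toLinearMap) (hψ.comp e2.injective)
  exact one_le_depth_of_injective (ψ.comp e2.toLinearMap) (hψ.comp e2.injective) hq

end Groth.Calg1
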