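import Mathlib
import Groth.Prelude.Def_Found
import Groth.Agent.Ega4Algebra2.CplQuot
import Groth.Agent.PropsBasic.GRingLocal
import Groth.Agent.PropsBasic.NagataLocal

/-!
Analytically unramified local domains: the principal criterion and Nagata local domains.
-/

set_option autoImplicit false

universe u

open IsLocalRing

namespace Groth.Calg1

/-- Multiplication by an element which is regular on `B/xB` stays regular on `T/xT` for `T` flat. -/
theorem mem_span_of_flat {B T : Type u} [CommRing B] [CommRing T] [Algebra B T] [Module.Flat B T]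
    {x c : B} (hc : ∀ b : B, c * b ∈ Ideal.span {x} → b ∈ Ideal.span {x}) {w : T}
    (h : algebraMap B T c * w ∈ Ideal.span {algebraMap B T x}) :
    w ∈ Ideal.span {algebraMap B T x} := by
  obtain ⟨u', hu⟩ := Ideal.mem_span_singleton'.1 h
  obtain ⟨k, a, y, hxy, hfa⟩ := Module.Flat.isTrivialRelation_of_sum_smul_eq_zero (R := B) (M := T)
    (f := ![c, -x]) (x := ![w, u']) (by
      simp [Fin.sum_univ_two, Algebra.smul_def]
      linear_combination -hu)
  have hw := hxy 0
  simp only [Matrix.cons_val_zero] at hw
  rw [hw]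
  refine Ideal.sum_mem _ fun j _ => ?_
  have hj := hfa j
  simp only [Fin.sum_univ_two, Matrix.cons_val_zero, Matrix.cons_val_one] at hj
  obtain ⟨b, hb⟩ := Ideal.mem_span_singleton'.1
    (hc (a 0 j) (Ideal.mem_span_singleton'.2 ⟨a 1 j, by linear_combination -hj⟩))
  rw [Algebra.smul_def, ← hb, map_mul]
  exact Ideal.mul_mem_right _ _ (Ideal.mul_mem_left _ _ (Ideal.mem_span_singleton_self _))

/-- The principal criterion: a flat algebra over a Noetherian domain is reduced as soon as, at each
associated prime `P` of `B/xB`, `P` is locally principal and generates a radical ideal. -/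
theorem isReduced_of_flat {B T : Type u} [CommRing B] [IsDomain B] [IsNoetherianRing B] [CommRing T]
    [Algebra B T] [Module.Flat B T] (x : B) (hx : x ≠ 0)
    (hsep : ∀ z : T, (∀ n : ℕ, z ∈ Ideal.span {algebraMap B T x ^ n}) → z = 0)
    (h : ∀ P ∈ associatedPrimes B (B ⧸ Ideal.span {x}),
      (P.map (algebraMap B T)).IsRadical ∧
        ∃ π ∈ P, ∃ s, s ∉ P ∧ ∀ y ∈ P, ∃ t, s * y = π * t) :
    IsReduced T := by
  classical
  set f := algebraMap B T with hf
  have hmul : ∀ {y : B}, y ≠ 0 → ∀ z : T, f y * z = 0 → z = 0 := by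
    intro y hy z hz
    have := Module.Flat.isSMulRegular_of_isRegular (M := T) (IsRegular.of_ne_zero hy)
    exact this (show y • z = y • (0 : T) by rw [smul_zero, Algebra.smul_def]; exact hz)
  have key : ∀ z : T, IsNilpotent z → z ∈ Ideal.span {f x} := by
    intro z hz
    have hex : ∀ P ∈ associatedPrimes B (B ⧸ Ideal.span {x}),
        ∃ c, c ∉ P ∧ f c * z ∈ Ideal.span {f x} := by
      intro P hP
      obtain ⟨hrad, π, hπ, s, hs, hdiv⟩ := h P hP
      haveI : P.IsPrime := hP.1
      have hxP : x ∈ P := by
        obtain ⟨_, w, hw⟩ := hP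
        rw [hw]
        refine Ideal.le_radical ?_
        rw [Submodule.mem_colon_singleton, Submodule.mem_bot]
        obtain ⟨w, rfl⟩ := Ideal.Quotient.mk_surjective w
        rw [← Ideal.Quotient.mk_eq_mk, ← Submodule.Quotient.mk_smul, Submodule.Quotient.mk_eq_zero]
        exact Ideal.mul_mem_right _ _ (Ideal.mem_span_singleton_self x)
      have hπ0 : π ≠ 0 := by
        rintro rfl
        obtain ⟨t, ht⟩ := hdiv x hxP
        rw [zero_mul, mul_eq_zero] at ht
        exact ht.elim (fun h0 => hs (h0 ▸ P.zero_mem)) hx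
      -- the multiplicity of `x` at `P`
      obtain ⟨e, xe, hxe, hxeq⟩ : ∃ (e : ℕ) (xe : B), xe ∉ P ∧ s ^ e * x = π ^ e * xe := by
        by_contra! hcon
        have hseq : ∀ k : ℕ, ∃ xk : B, xk ∈ P ∧ s ^ k * x = π ^ k * xk := by
          intro k
          induction k with
          | zero => exact ⟨x, hxP, by simp⟩
          | succ k ih =>
            obtain ⟨xk, hxk, hk⟩ := ih
            obtain ⟨t, ht⟩ := hdiv xk hxk
            have heq : s ^ (k + 1) * x = π ^ (k + 1) * t := by
              rw [pow_succ' s, mul_assoc, hk, mul_left_comm, ht, pow_succ, mul_assoc]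
            exact ⟨t, by_contra fun hn => hcon (k + 1) t hn heq, heq⟩
        choose xs hxs hxeq using hseq
        let I : ℕ →o Ideal B :=
          { toFun := fun k =>
              { carrier := {y | ∃ n : ℕ, ∃ w, s ^ n * (π ^ k * y) = x * w}
                add_mem' := by
                  rintro a b ⟨n, w, hw⟩ ⟨m, w', hw'⟩
                  exact ⟨n + m, s ^ m * w + s ^ n * w',
                    by linear_combination s ^ m * hw + s ^ n * hw'⟩
                zero_mem' := ⟨0, 0, by simp⟩
                smul_mem' := by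
                  rintro r a ⟨n, w, hw⟩
                  exact ⟨n, r * w, by rw [smul_eq_mul]; linear_combination r * hw⟩ }
            monotone' := monotone_nat_of_le_succ fun k y => by
              rintro ⟨n, w, hw⟩
              exact ⟨n, π * w, by linear_combination π * hw⟩ }
        obtain ⟨e, he⟩ := monotone_stabilizes_iff_noetherian.2 ‹IsNoetherianRing B› I
        have hmem : xs (e + 1) ∈ I (e + 1) :=
          ⟨0, s ^ (e + 1), by rw [pow_zero, one_mul, ← hxeq (e + 1), mul_comm]⟩
        rw [← he (e + 1) e.le_succ] at hmem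
        obtain ⟨n, w, hw⟩ := hmem
        have : s ^ (n + e + 1) * x = π * w * x := by
          linear_combination s ^ n * hxeq (e + 1) + π * hw
        have hsn : s ^ (n + e + 1) = π * w := mul_right_cancel₀ hx this
        exact hs (Ideal.IsPrime.mem_of_pow_mem inferInstance _ (hsn ▸ P.mul_mem_right w hπ))
      -- nilpotents are divisible by all powers of `π` at `P`
      have hdivT : ∀ z : T, z ∈ P.map f → ∃ z', f s * z = f π * z' := by
        intro z hz
        induction hz using Submodule.span_induction with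
        | mem a ha =>
          obtain ⟨y, hy, rfl⟩ := ha
          obtain ⟨t, ht⟩ := hdiv y hy
          exact ⟨f t, by rw [← map_mul, ht, map_mul]⟩
        | zero => exact ⟨0, by simp⟩
        | add a b _ _ ha hb =>
          obtain ⟨a', ha⟩ := ha
          obtain ⟨b', hb⟩ := hb
          exact ⟨a' + b', by rw [mul_add, ha, hb, mul_add]⟩
        | smul r a _ ha =>
          obtain ⟨a', ha⟩ := ha
          exact ⟨r * a', by rw [smul_eq_mul]; linear_combination r * ha⟩
      have hn : ∀ n : ℕ, ∃ zn, IsNilpotent zn ∧ f s ^ n * z = f π ^ n * zn := by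
        intro n
        induction n with
        | zero => exact ⟨z, hz, by simp⟩
        | succ n ih =>
          obtain ⟨zn, ⟨N, hN⟩, heq⟩ := ih
          obtain ⟨z', hz'⟩ := hdivT zn (hrad ⟨N, hN ▸ Submodule.zero_mem _⟩)
          refine ⟨z', ⟨N, hmul (pow_ne_zero N hπ0) _ ?_⟩, by
            linear_combination f s * heq + f π ^ n * hz'⟩
          rw [map_pow, ← mul_pow, ← hz', mul_pow, hN, mul_zero]
      obtain ⟨ze, -, hze⟩ := hn e
      refine ⟨xe * s ^ e, fun hmem => ?_, ?_⟩
      · rcases (inferInstance : P.IsPrime).mem_or_mem hmem with h1 | h1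
        · exact hxe h1
        · exact hs (Ideal.IsPrime.mem_of_pow_mem inferInstance _ h1)
      · have h2 : f xe * (f π ^ e) = f x * f s ^ e := by
          rw [← map_pow, ← map_pow, ← map_mul, ← map_mul, mul_comm xe, ← hxeq, mul_comm]
        rw [map_mul, map_pow, mul_assoc, hze, ← mul_assoc, h2, mul_assoc]
        exact Ideal.mul_mem_right _ _ (Ideal.mem_span_singleton_self _)
    let I : Ideal B :=
      { carrier := {c | f c * z ∈ Ideal.span {f x}}
        add_mem' := fun {a b} ha hb => by
          simp only [Set.mem_setOf_eq] at ha hb ⊢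
          rw [map_add, add_mul]; exact add_mem ha hb
        zero_mem' := by simp
        smul_mem' := fun r a ha => by
          simp only [Set.mem_setOf_eq, smul_eq_mul] at ha ⊢
          rw [map_mul, mul_assoc]; exact Ideal.mul_mem_left _ _ ha }
    obtain ⟨c, hcI, hc⟩ : ∃ c ∈ I, ∀ P ∈ associatedPrimes B (B ⧸ Ideal.span {x}), c ∉ P := by
      by_contra! hcon
      have hfin := associatedPrimes.finite B (B ⧸ Ideal.span {x})
      have hsub : (I : Set B) ⊆ ⋃ P ∈ (↑hfin.toFinset : Set (Ideal B)), ((id P : Ideal B) : Set B) := by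
        intro c hcI
        obtain ⟨P, hP, hcP⟩ := hcon c hcI
        exact Set.mem_biUnion (hfin.mem_toFinset.2 hP) hcP
      obtain ⟨P, hP, hle⟩ := (Ideal.subset_union_prime ⊥ ⊥
        (fun P hP _ _ => (hfin.mem_toFinset.1 hP).1)).1 hsub
      obtain ⟨c, hc, hcz⟩ := hex P (hfin.mem_toFinset.1 hP)
      exact hc (hle hcz)
    refine mem_span_of_flat (c := c) (fun b hb => ?_) hcI
    by_contra hbn
    have hmem : c ∈ ⋃ P ∈ associatedPrimes B (B ⧸ Ideal.span {x}), (P : Set B) := by
      rw [biUnion_associatedPrimes_eq_zero_divisors]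
      refine ⟨Ideal.Quotient.mk _ b, fun h0 => hbn (Ideal.Quotient.eq_zero_iff_mem.1 h0), ?_⟩
      rw [← Ideal.Quotient.mk_eq_mk, ← Submodule.Quotient.mk_smul, Submodule.Quotient.mk_eq_zero]
      exact hb
    obtain ⟨P, hP, hcP⟩ := Set.mem_iUnion₂.1 hmem
    exact hc P hP hcP
  refine ⟨fun z hz => hsep z fun n => ?_⟩
  suffices ∀ n : ℕ, ∃ w, IsNilpotent w ∧ z = f x ^ n * w by
    obtain ⟨w, -, hw⟩ := this n
    exact Ideal.mem_span_singleton'.2 ⟨w, by rw [hw, mul_comm]⟩
  intro n
  induction n with
  | zero => exact ⟨z, hz, by simp⟩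
  | succ n ih =>
    obtain ⟨w, hw, heq⟩ := ih
    obtain ⟨w', hw'⟩ := Ideal.mem_span_singleton'.1 (key w hw)
    obtain ⟨N, hN⟩ := hw
    refine ⟨w', ⟨N, hmul (pow_ne_zero N hx) _ ?_⟩, by rw [heq, ← hw']; ring⟩
    rw [map_pow, ← mul_pow, mul_comm, hw', hN]

section Completion

variable {A : Type u} [CommRing A] [IsLocalRing A] [IsNoetherianRing A]

/-- Separatedness of the completion for powers of an element of the maximal ideal. -/
theorem eq_zero_of_forall_mem_span_pow {x : A} (hx : x ∈ maximalIdeal A)
    (z : AdicCompletion (maximalIdeal A) A)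
    (h : ∀ n : ℕ, z ∈ Ideal.span {algebraMap A (AdicCompletion (maximalIdeal A) A) x ^ n}) :
    z = 0 := by
  haveI := Groth.Ega4b.isNoetherianRing_cpl A
  haveI : IsNoetherianRing (AdicCompletion (maximalIdeal A) A) :=
    Groth.Calg1.isNoetherianRing_adicCompletion _ (IsNoetherian.noetherian _)
  have hle : Ideal.span {algebraMap A (AdicCompletion (maximalIdeal A) A) x} ≠ ⊤ := by
    intro htop
    refine (maximalIdeal.isMaximal (AdicCompletion (maximalIdeal A) A)).ne_top (top_le_iff.1 ?_)
    rw [← htop, Ideal.span_le, Set.singleton_subset_iff, AdicCompletion.maximalIdeal_eq_map]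
    exact Ideal.mem_map_of_mem _ hx
  have := Ideal.iInf_pow_eq_bot_of_isLocalRing _ hle
  rw [← Ideal.mem_bot, ← this, Ideal.mem_iInf]
  exact fun n => by rw [Ideal.span_singleton_pow]; exact h n

/-- The completion of a quotient is the quotient of the completion; so the ideal is radical when the
completion of the quotient is reduced. -/
theorem isRadical_map_of_isReduced_completion (I : Ideal A) [Nontrivial (A ⧸ I)]
    (h : IsReduced (AdicCompletion (maximalIdeal (A ⧸ I)) (A ⧸ I))) :
    (I.map (algebraMap A (AdicCompletion (maximalIdeal A) A))).IsRadical := by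
  have hker := Groth.Ega4b.ker_cplQuot A I
  intro z hz
  obtain ⟨n, hn⟩ := hz
  rw [← hker, RingHom.mem_ker] at hn ⊢
  rw [map_pow] at hn
  exact h.eq_zero _ ⟨n, hn⟩

end Completion

end Groth.Calg1
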