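import Groth.Agent.Calg1.AnalyticUnramified
import Groth.Agent.Calg1.NagataBasic
import Groth.Agent.Calg2.CompleteStructure

/-!
Nagata local domains are analytically unramified.
-/

set_option autoImplicit false

universe u

open IsLocalRing

namespace Groth.Calg1

/-- In a normal Noetherian domain, a conductor ideal `P = (A :_A w)` that is prime is locally principal. -/
theorem exists_pi_of_isIntegrallyClosed {A K : Type u} [CommRing A] [IsDomain A] [IsNoetherianRing A]
    [IsIntegrallyClosed A] [Field K] [Algebra A K] [IsFractionRing A K] (P : Ideal A) (hP : P ≠ ⊥)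
    (w : K) (hw : w ∉ Set.range (algebraMap A K))
    (hmem : ∀ y ∈ P, ∃ t, algebraMap A K t = w * algebraMap A K y) :
    ∃ π ∈ P, ∃ s, s ∉ P ∧ algebraMap A K s = w * algebraMap A K π := by
  by_contra! hcon
  apply hw
  refine IsIntegrallyClosed.isIntegral_iff.1 ?_
  refine isIntegral_of_smul_mem_submodule (Submodule.map (Algebra.linearMap A K) P) ?_
    ((IsNoetherian.noetherian P).map _) w ?_
  · rw [Submodule.ne_bot_iff]
    obtain ⟨y, hy, hy0⟩ := Submodule.exists_mem_ne_zero_of_ne_bot hP
    exact ⟨algebraMap A K y, ⟨y, hy, rfl⟩,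
      (map_ne_zero_iff _ (IsFractionRing.injective A K)).2 hy0⟩
  · rintro _ ⟨y, hy, rfl⟩
    obtain ⟨t, ht⟩ := hmem y hy
    exact ⟨t, by_contra fun hn => hcon y hy t hn ht, ht.trans (Algebra.smul_def w _).symm⟩

theorem sup_span_eq_top {C : Type u} [CommRing C] {n : Ideal C} [hn : n.IsMaximal] {s : C}
    (hs : s ∉ n) : n ⊔ Ideal.span {s} = ⊤ :=
  (Ideal.IsMaximal.out (self := hn)).2 _ (lt_of_le_of_ne le_sup_left fun h =>
    hs (h ▸ Ideal.mem_sup_right (Ideal.mem_span_singleton_self s)))

/-- The completion of a local ring is detected by the completions at the maximal ideals of a finite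
extension. -/
theorem isReduced_completion_of_finite (R : Type u) [CommRing R] [IsLocalRing R] [IsNoetherianRing R]
    (C : Type u) [CommRing C] [Algebra R C] [Module.Finite R C]
    (hinj : Function.Injective (algebraMap R C))
    (h : ∀ (n : Ideal C) [n.IsMaximal],
      IsReduced (AdicCompletion (maximalIdeal (Localization.AtPrime n)) (Localization.AtPrime n))) :
    IsReduced (AdicCompletion (maximalIdeal R) R) := by
  classical
  set m := maximalIdeal R with hm
  let J : Ideal C := m.map (algebraMap R C)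
  have hcomap : ∀ (n : Ideal C) [n.IsMaximal], n.comap (algebraMap R C) = m := fun n _ =>
    IsLocalRing.eq_maximalIdeal (Ideal.isMaximal_comap_of_isIntegral_of_isMaximal n)
  have hJle : ∀ (n : Ideal C) [n.IsMaximal], J ≤ n := fun n _ => by
    rw [Ideal.map_le_iff_le_comap, hcomap n]
  have hover : ∀ p : Ideal C, p.IsPrime → J ≤ p → p.IsMaximal := fun p _ hle => by
    refine Ideal.isMaximal_of_isIntegral_of_isMaximal_comap (R := R) p ?_
    have h1 : m ≤ p.comap (algebraMap R C) := Ideal.map_le_iff_le_comap.1 hle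
    rw [← (maximalIdeal.isMaximal R).eq_of_le (Ideal.IsPrime.ne_top inferInstance) h1]
    exact maximalIdeal.isMaximal R
  haveI : IsNoetherianRing C := IsNoetherianRing.of_finite R C
  have hfinmax : {n : Ideal C | n.IsMaximal}.Finite := by
    refine (Ideal.finite_minimalPrimes_of_isNoetherianRing C J).subset fun n hn => ?_
    haveI : n.IsMaximal := hn
    refine ⟨⟨inferInstance, hJle n⟩, fun p hp hpn => ?_⟩
    exact ((hover p hp.1 hp.2).eq_of_le (Ideal.IsMaximal.ne_top ‹_›) hpn).ge
  let s := hfinmax.toFinset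
  let N : Ideal C := ∏ n ∈ s, n
  obtain ⟨e, he⟩ := Ideal.exists_pow_le_of_le_radical_of_fg (I := N) (J := J)
    (by
      rw [Ideal.radical_eq_sInf]
      refine le_sInf fun p ⟨hle, hp⟩ => ?_
      exact Ideal.prod_le_inf.trans (Finset.inf_le (f := id) (hfinmax.mem_toFinset.2 (hover p hp hle))))
    (IsNoetherian.noetherian _)
  obtain ⟨c, hc⟩ := Ideal.exists_pow_inf_eq_pow_smul m (LinearMap.range (Algebra.linearMap R C))
  refine ⟨fun z hz => AdicCompletion.ext_evalₐ fun j => ?_⟩
  obtain ⟨r, hr⟩ := Ideal.Quotient.mk_surjective (AdicCompletion.evalₐ m (e * (j + c) + j) z)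
  have hrn : ∀ (n : Ideal C) [n.IsMaximal], algebraMap R C r ∈ n ^ (e * (j + c) + j) := by
    intro n _
    have hle : m.map ((algebraMap C (Localization.AtPrime n)).comp (algebraMap R C)) ≤
        maximalIdeal (Localization.AtPrime n) := by
      rw [← Ideal.map_map, ← Localization.AtPrime.map_eq_maximalIdeal]
      exact Ideal.map_mono (hJle n)
    haveI := h n
    have h0 : Groth.PropsBasic.GRingLocal.cplMap m _
        ((algebraMap C (Localization.AtPrime n)).comp (algebraMap R C)) hle z = 0 :=
      (IsNilpotent.map hz _).eq_zero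
    have h1 := Groth.PropsBasic.GRingLocal.evalₐ_cplMap m _ _ hle _ z r hr.symm
    rw [h0, map_zero, eq_comm, Ideal.Quotient.eq_zero_iff_mem, ← Localization.AtPrime.map_eq_maximalIdeal,
      ← Ideal.map_pow, RingHom.comp_apply,
      IsLocalization.algebraMap_mem_map_algebraMap_iff n.primeCompl] at h1
    obtain ⟨s, hs, hsr⟩ := h1
    have htop : n ^ (e * (j + c) + j) ⊔ Ideal.span {s} = ⊤ :=
      Ideal.pow_sup_eq_top (sup_span_eq_top hs)
    obtain ⟨a, ha, b, hb, hab⟩ := Submodule.mem_sup.1 (htop ▸ Submodule.mem_top : (1 : C) ∈ _)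
    obtain ⟨d, rfl⟩ := Ideal.mem_span_singleton'.1 hb
    have : algebraMap R C r = a * algebraMap R C r + d * (s * algebraMap R C r) := by
      linear_combination -(algebraMap R C r) * hab
    rw [this]
    exact add_mem (Ideal.mul_mem_right _ _ ha) (Ideal.mul_mem_left _ _ hsr)
  have hrJ : algebraMap R C r ∈ J ^ (j + c) := by
    have hprod : algebraMap R C r ∈ ∏ n ∈ s, n ^ (e * (j + c) + j) := by
      rw [Ideal.prod_eq_iInf_of_pairwise_isCoprime]
      · simp only [Ideal.mem_iInf]
        intro n hn
        haveI : n.IsMaximal := hfinmax.mem_toFinset.1 hn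
        exact hrn n
      · intro a ha b hb hne
        haveI : a.IsMaximal := hfinmax.mem_toFinset.1 ha
        haveI : b.IsMaximal := hfinmax.mem_toFinset.1 hb
        exact (Ideal.isCoprime_of_isMaximal hne).pow
    rw [Finset.prod_pow] at hprod
    have := (Ideal.pow_right_mono he (j + c)) (by
      rw [← pow_mul]; exact Ideal.pow_le_pow_right (Nat.le_add_right _ _) hprod)
    exact this
  have hmem : r ∈ m ^ j := by
    have h1 : algebraMap R C r ∈
        m ^ (j + c) • (⊤ : Submodule R C) ⊓ LinearMap.range (Algebra.linearMap R C) := by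
      refine ⟨?_, ⟨r, rfl⟩⟩
      rw [Ideal.smul_top_eq_map, SetLike.mem_coe, Submodule.restrictScalars_mem, Ideal.map_pow]
      exact hrJ
    rw [hc (j + c) (Nat.le_add_left _ _), Nat.add_sub_cancel] at h1
    have h2 := (Submodule.smul_mono le_rfl inf_le_right) h1
    rw [← Submodule.map_top, ← Submodule.map_smul'', smul_eq_mul, Ideal.mul_top] at h2
    obtain ⟨y, hy, hyr⟩ := h2
    exact hinj hyr ▸ hy
  have hle : j ≤ e * (j + c) + j := Nat.le_add_left _ _
  obtain ⟨cs, rfl⟩ := AdicCompletion.mk_surjective m R z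
  rw [AdicCompletion.evalₐ_mk, Ideal.Quotient.eq] at hr
  rw [AdicCompletion.evalₐ_mk, map_zero, Ideal.Quotient.eq_zero_iff_mem]
  have h2 : cs.val j - cs.val (e * (j + c) + j) ∈ m ^ j := by
    have := SModEq.sub_mem.1 (cs.property hle)
    rwa [smul_eq_mul, Ideal.mul_top] at this
  have h3 : r - cs.val (e * (j + c) + j) ∈ m ^ j := Ideal.pow_le_pow_right hle hr
  have := Ideal.add_mem _ (Ideal.sub_mem _ h2 h3) hmem
  simpa using this

theorem lt_of_add_one_le {a b : WithBot ℕ∞} {n : ℕ} (h : a + 1 ≤ b) (hb : b < (n + 1 : ℕ)) :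
    a < (n : ℕ) := by
  match a with
  | ⊥ => exact WithBot.bot_lt_coe _
  | ((⊤ : ℕ∞) : WithBot ℕ∞) =>
    exfalso
    have h1 := h.trans_lt hb
    exact absurd h1 (by
      rw [show ((⊤ : ℕ∞) : WithBot ℕ∞) + 1 = ((⊤ : ℕ∞) : WithBot ℕ∞) from rfl]; exact not_lt.2 le_top)
  | (((d : ℕ) : ℕ∞) : WithBot ℕ∞) =>
    have h1 : ((d : ℕ∞) : WithBot ℕ∞) + 1 < (n + 1 : ℕ) := h.trans_lt hb
    have h2 : d + 1 < n + 1 := by exact_mod_cast h1
    exact_mod_cast Nat.lt_of_succ_lt_succ h2

/-- The inductive step: a normal Nagata local domain. -/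
theorem isReduced_completion_normal (A : Type u) [CommRing A] [IsDomain A] [IsLocalRing A]
    [IsNoetherianRing A] [IsIntegrallyClosed A] (hA : CAlg.IsNagata A) (n : ℕ)
    (hdimA : ringKrullDim A < (n + 1 : ℕ))
    (ih : ∀ (R : Type u) [CommRing R] [IsDomain R] [IsLocalRing R] [IsNoetherianRing R],
      CAlg.IsNagata R → ringKrullDim R < n → IsReduced (AdicCompletion (maximalIdeal R) R)) :
    IsReduced (AdicCompletion (maximalIdeal A) A) := by
  by_cases hbot : maximalIdeal A = ⊥
  · haveI : IsAdicComplete (maximalIdeal A) A := by rw [hbot]; infer_instance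
    exact isReduced_of_injective (AdicCompletion.ofAlgEquiv (maximalIdeal A)).symm
      (AdicCompletion.ofAlgEquiv (maximalIdeal A)).symm.injective
  obtain ⟨x, hx, hx0⟩ := Submodule.exists_mem_ne_zero_of_ne_bot hbot
  refine isReduced_of_flat x hx0 (eq_zero_of_forall_mem_span_pow hx) fun P hP => ?_
  let F := FractionRing A
  obtain ⟨hPp, w, hw⟩ := isAssociatedPrime_iff.1 hP
  haveI := hPp
  obtain ⟨a, rfl⟩ := Ideal.Quotient.mk_surjective w
  have hmemP : ∀ y, y ∈ P ↔ y * a ∈ Ideal.span {x} := fun y => by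
    rw [hw, Submodule.mem_colon_singleton, Submodule.mem_bot, ← Ideal.Quotient.mk_eq_mk,
      ← Submodule.Quotient.mk_smul, Submodule.Quotient.mk_eq_zero, smul_eq_mul]
  have hxP : x ∈ P := (hmemP x).2 (Ideal.mul_mem_right _ _ (Ideal.mem_span_singleton_self x))
  refine ⟨?_, ?_⟩
  · haveI : Nontrivial (A ⧸ P) := Ideal.Quotient.nontrivial_iff.2 hPp.ne_top
    haveI : IsLocalRing (A ⧸ P) :=
      IsLocalRing.of_surjective' (Ideal.Quotient.mk P) Ideal.Quotient.mk_surjective
    refine isRadical_map_of_isReduced_completion P (ih (A ⧸ P)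
      (isNagata_of_surjective _ Ideal.Quotient.mk_surjective hA) ?_)
    have h1 : ringKrullDim (A ⧸ P) + 1 ≤ ringKrullDim A :=
      le_trans (add_le_add_left (ringKrullDim_le_of_surjective
        (Ideal.Quotient.factor ((Ideal.span_singleton_le_iff_mem _).2 hxP))
        (Ideal.Quotient.factor_surjective _)) 1)
        (ringKrullDim_quotient_succ_le_of_nonZeroDivisor (mem_nonZeroDivisors_of_ne_zero hx0))
    exact lt_of_add_one_le h1 hdimA
  · have hxne : algebraMap A F x ≠ 0 := (map_ne_zero_iff _ (IsFractionRing.injective A F)).2 hx0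
    obtain ⟨π, hπ, s, hs, hsπ⟩ := exists_pi_of_isIntegrallyClosed P
      (fun h0 => hx0 (by rw [h0] at hxP; simpa using hxP))
      (algebraMap A F a / algebraMap A F x) (by
        rintro ⟨c, hc⟩
        rw [eq_div_iff hxne, ← map_mul] at hc
        refine hPp.ne_top ((Ideal.eq_top_iff_one _).2 ((hmemP 1).2 ?_))
        rw [one_mul, ← IsFractionRing.injective A F hc]
        exact Ideal.mul_mem_left _ _ (Ideal.mem_span_singleton_self x))
      (fun y hy => by
        obtain ⟨t, ht⟩ := Ideal.mem_span_singleton'.1 ((hmemP y).1 hy)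
        refine ⟨t, ?_⟩
        rw [div_mul_eq_mul_div, eq_div_iff hxne, ← map_mul, ← map_mul, ht, mul_comm])
    refine ⟨π, hπ, s, hs, fun y hy => ?_⟩
    obtain ⟨t, ht⟩ := Ideal.mem_span_singleton'.1 ((hmemP y).1 hy)
    refine ⟨t, IsFractionRing.injective A F ?_⟩
    rw [map_mul, map_mul, hsπ, mul_comm (algebraMap A F π), mul_comm _ (algebraMap A F y),
      ← mul_assoc (algebraMap A F y), mul_comm (algebraMap A F y), div_mul_eq_mul_div, ← map_mul,
      mul_comm a y, ← ht, map_mul, mul_div_cancel_right₀ _ hxne]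

/-- A Nagata local domain has reduced completion. -/
theorem isReduced_completion_of_isNagata (R : Type u) [CommRing R] [IsDomain R] [IsLocalRing R]
    [IsNoetherianRing R] (h : CAlg.IsNagata R) :
    IsReduced (AdicCompletion (maximalIdeal R) R) := by
  suffices H : ∀ (n : ℕ) (R : Type u) [CommRing R] [IsDomain R] [IsLocalRing R] [IsNoetherianRing R],
      CAlg.IsNagata R → ringKrullDim R < n → IsReduced (AdicCompletion (maximalIdeal R) R) by
    obtain ⟨n, hn⟩ : ∃ n : ℕ, ringKrullDim R < n := by
      have hlt : ringKrullDim R ≠ ⊤ := ringKrullDim_ne_top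
      generalize ringKrullDim R = x at hlt
      match x, hlt with
      | ⊥, _ => exact ⟨0, WithBot.bot_lt_coe _⟩
      | ((⊤ : ℕ∞) : WithBot ℕ∞), hlt => exact absurd rfl hlt
      | (((d : ℕ) : ℕ∞) : WithBot ℕ∞), _ => exact ⟨d + 1, by exact_mod_cast Nat.lt_succ_self d⟩
    exact H n R h hn
  intro n
  induction n with
  | zero =>
    intro R _ _ _ _ _ hdim
    exact absurd hdim (not_lt.2 (by simpa using (ringKrullDim_nonneg_of_nontrivial (R := R))))
  | succ n ih =>
    intro R _ _ _ _ hR hdim
    let K := FractionRing R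
    have hN2 : CAlg.IsN2 R := by
      have hb := hR.2 (⊥ : Ideal R)
      letI : Algebra (R ⧸ (⊥ : Ideal R)) R := (RingEquiv.quotientBot R).toRingHom.toAlgebra
      haveI : Module.Finite (R ⧸ (⊥ : Ideal R)) R :=
        Module.Finite.of_surjective (Algebra.linearMap _ R) (RingEquiv.quotientBot R).surjective
      exact isN2_of_finite (RingEquiv.quotientBot R).injective hb
    let R' := integralClosure R K
    haveI : Module.Finite R R' := Groth.Calg4.finite_ic_of_isN2 hN2 K K
    haveI : IsFractionRing R' K := integralClosure.isFractionRing_of_finite_extension K K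
    haveI : IsIntegrallyClosed R' := integralClosure.isIntegrallyClosedOfFiniteExtension K
    refine isReduced_completion_of_finite R R'
      (fun a b hab => IsFractionRing.injective R K (congrArg Subtype.val hab)) fun m' _ => ?_
    haveI : IsNoetherianRing R' := IsNoetherianRing.of_finite R R'
    set A := Localization.AtPrime m'
    have hA : CAlg.IsNagata A :=
      Groth.PropsBasic.isNagata_of_isLocalization m'.primeCompl A (isNagata_of_finite (S := R') hR)
    haveI : IsIntegrallyClosed A := isIntegrallyClosed_of_isLocalization A m'.primeCompl m'.primeCompl_le_nonZeroDivisors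
    have hdimA : ringKrullDim A < (n + 1 : ℕ) := by
      refine lt_of_le_of_lt (le_trans ?_
        (Groth.Calg2.CompleteStructure.ringKrullDim_le_of_finite_injective (S := R) (R := R'))) hdim
      rw [IsLocalization.AtPrime.ringKrullDim_eq_height m' A]
      exact Ideal.height_le_ringKrullDim_of_ne_top (Ideal.IsPrime.ne_top inferInstance)
    exact isReduced_completion_normal A hA n hdimA ih

end Groth.Calg1
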