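import Groth.Agent.Calg1.AnalyticallyUnramifiedN1
import Groth.Agent.Calg2.CompleteNagata

/-!
Analytically unramified local domains are N-1.
-/

set_option autoImplicit false

universe u

namespace Groth.Calg1

/-- An analytically unramified Noetherian local domain is N-1. -/
theorem isN1_of_analyticallyUnramified (R : Type u) [CommRing R] [IsDomain R] [IsLocalRing R]
    [IsNoetherianRing R] (hred : IsReduced (AdicCompletion (IsLocalRing.maximalIdeal R) R)) :
    CAlg.IsN1 R :=
  isN1_of_isReduced_completion
    (fun C _ _ _ _ _ => Groth.Calg4.finite_ic_of_isN2
      (Groth.Calg2.CompleteNagata.isN2_of_isAdicComplete C) (FractionRing C) (FractionRing C))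
    R hred

end Groth.Calg1
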