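import Mathlib
import Groth.Agent.Calg3.DualTF

/-!
Associated primes of `N ⊗ M` for `N` flat over the Noetherian base.
-/

set_option autoImplicit false
universe u

namespace Groth.Calg1

open TensorProduct Submodule

theorem associatedPrimes_pi_subset {R : Type u} [CommRing R] {ι : Type u} [Fintype ι]
    (X : ι → Type u) [∀ i, AddCommGroup (X i)] [∀ i, Module R (X i)] :
    associatedPrimes R (∀ i, X i) ⊆ ⋃ i, associatedPrimes R (X i) := by
  classical
  rintro q ⟨hq, x, hx⟩
  have h : (⊥ : Submodule R (∀ i, X i)).colon {x} =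
      Finset.univ.inf fun i => (⊥ : Submodule R (X i)).colon {x i} := by
    ext r
    simp only [mem_colon_singleton, mem_bot, Submodule.mem_finsetInf, Finset.mem_univ, true_implies]
    exact ⟨fun h i => congrFun h i, funext⟩
  have h2 : q = Finset.univ.inf fun i => ((⊥ : Submodule R (X i)).colon {x i}).radical := by
    rw [hx, h]
    induction (Finset.univ : Finset ι) using Finset.induction_on with
    | empty => simp [Ideal.radical_top]
    | insert a t hat ih => simp [Finset.inf_insert, Ideal.radical_inf, ih]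
  obtain ⟨i, -, hi⟩ := (Ideal.IsPrime.inf_le' hq).mp h2.ge
  refine Set.mem_iUnion.mpr ⟨i, hq, x i, le_antisymm ?_ hi⟩
  exact h2.le.trans (Finset.inf_le (Finset.mem_univ i))

variable {R S N : Type u} [CommRing R] [CommRing S] [Algebra R S] [AddCommGroup N] [Module S N]
  [Module R N] [IsScalarTower R S N]

/-- `N ⊗ R/I ≅ N/IN`. -/
theorem nonempty_tensorQuotientEquiv (I : Ideal R) :
    Nonempty ((N ⊗[R] (R ⧸ I)) ≃ₗ[S] N ⧸ I.map (algebraMap R S) • (⊤ : Submodule S N)) := by
  set P := I.map (algebraMap R S) • (⊤ : Submodule S N)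
  have hmem : ∀ a ∈ I, ∀ n : N, a • n ∈ P := fun a ha n => by
    rw [← algebraMap_smul S a n]
    exact Submodule.smul_mem_smul (Ideal.mem_map_of_mem _ ha) trivial
  let fwd : N →ₗ[S] (R ⧸ I) →ₗ[R] N ⧸ P :=
    { toFun := fun n => (Submodule.liftQ I (LinearMap.toSpanSingleton R (N ⧸ P) (P.mkQ n))
        fun a ha => by
          rw [LinearMap.mem_ker, LinearMap.toSpanSingleton_apply, Submodule.mkQ_apply,
            ← Submodule.Quotient.mk_smul, Submodule.Quotient.mk_eq_zero]
          exact hmem a ha n)
      map_add' := fun n m => by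
        refine LinearMap.ext fun r => ?_
        obtain ⟨r, rfl⟩ := Ideal.Quotient.mk_surjective r
        exact smul_add r (P.mkQ n) (P.mkQ m)
      map_smul' := fun s n => by
        refine LinearMap.ext fun r => ?_
        obtain ⟨r, rfl⟩ := Ideal.Quotient.mk_surjective r
        exact (smul_comm s r (P.mkQ n)).symm }
  let bwd : (N ⧸ P) →ₗ[S] N ⊗[R] (R ⧸ I) :=
    Submodule.liftQ P ((AlgebraTensorModule.mk R S N (R ⧸ I)).flip 1) (by
      rw [Submodule.smul_le]
      intro a ha n _
      rw [LinearMap.mem_ker, map_smul]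
      suffices h : I.map (algebraMap R S) ≤
          LinearMap.ker (LinearMap.toSpanSingleton S (N ⊗[R] (R ⧸ I)) (n ⊗ₜ 1)) from h ha
      rw [Ideal.map_le_iff_le_comap]
      intro b hb
      rw [Ideal.mem_comap, LinearMap.mem_ker, LinearMap.toSpanSingleton_apply, algebraMap_smul,
        ← tmul_smul, ← Algebra.algebraMap_eq_smul_one, Ideal.Quotient.algebraMap_eq,
        Ideal.Quotient.eq_zero_iff_mem.mpr hb, tmul_zero])
  refine ⟨LinearEquiv.ofLinear (AlgebraTensorModule.lift fwd) bwd ?_ ?_⟩
  · refine Submodule.linearMap_qext _ (LinearMap.ext fun n => ?_)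
    show fwd n (Ideal.Quotient.mk I 1) = P.mkQ n
    exact one_smul R (P.mkQ n)
  · refine AlgebraTensorModule.ext fun n r => ?_
    obtain ⟨r, rfl⟩ := Ideal.Quotient.mk_surjective r
    show bwd (r • P.mkQ n) = n ⊗ₜ Ideal.Quotient.mk I r
    rw [LinearMap.map_smul_of_tower]
    show r • (n ⊗ₜ[R] (1 : R ⧸ I)) = _
    rw [← tmul_smul, ← Algebra.algebraMap_eq_smul_one, Ideal.Quotient.algebraMap_eq]

variable [IsNoetherianRing R]

/-- A submodule maximal without `p` as an associated prime. -/
theorem exists_quotient_single (M : Type u) [AddCommGroup M] [Module R M] [Module.Finite R M]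
    (p : Ideal R) : ∃ Q : Submodule R M, p ∉ associatedPrimes R Q ∧
      associatedPrimes R (M ⧸ Q) ⊆ {p} := by
  have hne : {Q : Submodule R M | p ∉ associatedPrimes R Q}.Nonempty :=
    ⟨⊥, not_isAssociatedPrime_of_subsingleton⟩
  obtain ⟨Q, hQ, hmax⟩ := set_has_maximal_iff_noetherian.mpr (inferInstance : IsNoetherian R M) _ hne
  refine ⟨Q, hQ, fun p' hp' => by_contra fun hne => ?_⟩
  obtain ⟨hpr, f, hf⟩ := (isAssociatedPrime_iff_exists_injective_linearMap _ _).mp hp'
  let Q' : Submodule R M := (LinearMap.range f).comap Q.mkQ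
  have hle : Q ≤ Q' := fun x hx => by
    show Q.mkQ x ∈ LinearMap.range f
    rw [Submodule.mkQ_apply, (Submodule.Quotient.mk_eq_zero Q).mpr hx]
    exact zero_mem _
  let g : Q' →ₗ[R] LinearMap.range f := Q.mkQ.restrict fun x hx => hx
  have hex : Function.Exact (Submodule.inclusion hle) g := by
    intro x
    constructor
    · intro hx
      exact ⟨⟨x.1, (Submodule.Quotient.mk_eq_zero Q).mp (congrArg Subtype.val hx)⟩, rfl⟩
    · rintro ⟨y, rfl⟩
      exact Subtype.ext ((Submodule.Quotient.mk_eq_zero Q).mpr y.2)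
  have hpQ' : p ∉ associatedPrimes R Q' := fun h => by
    rcases associatedPrimes.subset_union_of_exact (Submodule.inclusion_injective hle) hex h with h | h
    · exact hQ h
    · have h3 : p ∈ associatedPrimes R (R ⧸ p') :=
        (LinearEquiv.isAssociatedPrime_iff (LinearEquiv.ofInjective f hf)).mpr h
      rw [associatedPrimes.eq_singleton_of_isPrimary hpr.isPrimary, hpr.radical,
        Set.mem_singleton_iff] at h3
      exact hne h3.symm
  refine hmax Q' hpQ' (lt_of_le_of_ne hle fun e => ?_)
  obtain ⟨x, hx⟩ := Submodule.mkQ_surjective Q (f (Ideal.Quotient.mk p' 1))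
  have hxQ : x ∈ Q := e ▸ (show x ∈ Q' from ⟨_, hx.symm⟩)
  rw [Submodule.mkQ_apply, (Submodule.Quotient.mk_eq_zero Q).mpr hxQ] at hx
  exact hpr.ne_top ((Ideal.eq_top_iff_one _).mpr
    (Ideal.Quotient.eq_zero_iff_mem.mp (hf (by rw [map_zero]; exact hx.symm))))

variable [Module.Flat R N]

omit [IsNoetherianRing R] in
theorem lTensor_injective_of_injective {M M' : Type u} [AddCommGroup M] [Module R M]
    [AddCommGroup M'] [Module R M'] (f : M →ₗ[R] M') (hf : Function.Injective f) :
    Function.Injective (AlgebraTensorModule.lTensor S N f) :=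
  Module.Flat.lTensor_preserves_injective_linearMap f hf

theorem associatedPrimes_tensor_of_pow (p : Ideal R) [p.IsPrime] (n : ℕ) :
    ∀ (M : Type u) [AddCommGroup M] [Module R M] [Module.Finite R M],
      (∀ a ∈ p ^ n, ∀ m : M, a • m = 0) → (∀ s ∉ p, ∀ m : M, s • m = 0 → m = 0) →
      associatedPrimes S (N ⊗[R] M) ⊆
        associatedPrimes S (N ⧸ p.map (algebraMap R S) • (⊤ : Submodule S N)) := by
  induction n with
  | zero =>
    intro M _ _ _ h0 _
    have : Subsingleton M := ⟨fun a b => by
      have ha := h0 1 (by simp) a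
      have hb := h0 1 (by simp) b
      rw [one_smul] at ha hb
      rw [ha, hb]⟩
    rw [associatedPrimes.eq_empty_of_subsingleton]
    exact Set.empty_subset _
  | succ n ih =>
    intro M _ _ _ h0 hinj
    let T : Submodule R M := Submodule.torsionBySet R M p
    have hT : ∀ m : M, m ∈ T ↔ ∀ a ∈ p, a • m = 0 := fun m => by
      simp [T, Submodule.mem_torsionBySet_iff]
    refine (associatedPrimes.subset_union_of_exact
      (f := AlgebraTensorModule.lTensor S N T.subtype) (g := AlgebraTensorModule.lTensor S N T.mkQ)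
      (lTensor_injective_of_injective _ Subtype.val_injective)
      (lTensor_exact N (LinearMap.exact_subtype_mkQ T) (Submodule.mkQ_surjective T))).trans
      (Set.union_subset ?_ ?_)
    · -- `T` embeds into a free `R/p`-module
      have htor : Module.IsTorsionBySet R T p := fun x a =>
        Subtype.ext ((hT x.1).mp x.2 a.1 a.2)
      letI : Module (R ⧸ p) T := htor.module
      haveI : IsScalarTower R (R ⧸ p) T := htor.isScalarTower
      haveI : Module.Finite (R ⧸ p) T := Module.Finite.of_restrictScalars_finite R _ _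
      haveI : Module.IsTorsionFree (R ⧸ p) T :=
        Groth.Calg3.isTorsionFree_of_smul_eq_zero fun c x hc hcx => by
          obtain ⟨c, rfl⟩ := Ideal.Quotient.mk_surjective c
          refine Subtype.ext (hinj c (fun h => hc (Ideal.Quotient.eq_zero_iff_mem.mpr h)) x.1 ?_)
          have hcx' : c • x = 0 := by rw [← hcx]; exact (algebraMap_smul (R ⧸ p) c x).symm
          exact congrArg Subtype.val hcx'
      obtain ⟨f, hf⟩ := Groth.Calg3.exists_injective_of_torsionFree (R ⧸ p) T
      let g : (N ⊗[R] (ULift.{u} (Fin (Module.finrank (R ⧸ p) T)) → R ⧸ p)) ≃ₗ[S] _ :=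
        TensorProduct.piRight R S N (fun _ : ULift.{u} (Fin (Module.finrank (R ⧸ p) T)) => R ⧸ p)
      let f' : T →ₗ[R] (ULift.{u} (Fin (Module.finrank (R ⧸ p) T)) → R ⧸ p) :=
        (LinearMap.funLeft R (R ⧸ p) ULift.down).comp (f.restrictScalars R)
      have hf' : Function.Injective f' :=
        (LinearMap.funLeft_injective_of_surjective R (R ⧸ p) ULift.down ULift.down_surjective).comp hf
      refine (associatedPrimes.subset_of_injective (f := g.toLinearMap.comp
        (AlgebraTensorModule.lTensor S N f')) (g.injective.comp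
          (lTensor_injective_of_injective _ hf'))).trans ?_
      refine (associatedPrimes_pi_subset _).trans (Set.iUnion_subset fun _ => ?_)
      exact (LinearEquiv.AssociatedPrimes.eq (nonempty_tensorQuotientEquiv p).some).subset
    · refine ih (M ⧸ T) (fun a ha m => ?_) fun s hs m hm => ?_
      · obtain ⟨m, rfl⟩ := Submodule.Quotient.mk_surjective T m
        rw [← Submodule.Quotient.mk_smul, Submodule.Quotient.mk_eq_zero, hT]
        intro b hb
        rw [smul_smul]
        exact h0 _ (by rw [pow_succ']; exact Ideal.mul_mem_mul hb ha) m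
      · obtain ⟨m, rfl⟩ := Submodule.Quotient.mk_surjective T m
        rw [← Submodule.Quotient.mk_smul, Submodule.Quotient.mk_eq_zero, hT] at hm
        rw [Submodule.Quotient.mk_eq_zero, hT]
        intro a ha
        exact hinj s hs _ (by rw [smul_comm]; exact hm a ha)

theorem associatedPrimes_tensor (M : Type u) [AddCommGroup M] [Module R M] :
    associatedPrimes S (N ⊗[R] M) =
      ⋃ p ∈ associatedPrimes R M,
        associatedPrimes S (N ⧸ p.map (algebraMap R S) • (⊤ : Submodule S N)) := by
  classical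
  refine subset_antisymm ?_ (Set.iUnion₂_subset fun p hp => ?_)
  swap
  · obtain ⟨-, f, hf⟩ := (isAssociatedPrime_iff_exists_injective_linearMap _ _).mp hp
    refine subset_trans (LinearEquiv.AssociatedPrimes.eq (nonempty_tensorQuotientEquiv p).some).symm.subset ?_
    exact associatedPrimes.subset_of_injective (lTensor_injective_of_injective (S := S) f hf)
  intro q hq
  obtain ⟨hqp, x, hx⟩ := hq
  obtain ⟨M₀, hfin, x₀, hx₀⟩ : ∃ M₀ : Submodule R M, M₀.FG ∧ ∃ x₀ : N ⊗[R] M₀,
      AlgebraTensorModule.lTensor S N M₀.subtype x₀ = x := by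
    clear hx
    induction x using TensorProduct.induction_on with
    | zero => exact ⟨⊥, Submodule.fg_bot, 0, map_zero _⟩
    | tmul n m => exact ⟨span R {m}, Submodule.fg_span_singleton m,
        n ⊗ₜ ⟨m, Submodule.subset_span rfl⟩, rfl⟩
    | add a b ha hb =>
      obtain ⟨A, hA, a₀, rfl⟩ := ha
      obtain ⟨B, hB, b₀, rfl⟩ := hb
      refine ⟨A ⊔ B, hA.sup hB,
        AlgebraTensorModule.lTensor S N (Submodule.inclusion le_sup_left) a₀ +
          AlgebraTensorModule.lTensor S N (Submodule.inclusion le_sup_right) b₀, ?_⟩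
      rw [map_add]
      congr 1 <;> (rw [← LinearMap.comp_apply, ← AlgebraTensorModule.lTensor_comp]; rfl)
  have hinjM := lTensor_injective_of_injective (S := S) (N := N) M₀.subtype Subtype.val_injective
  have hq₀ : q ∈ associatedPrimes S (N ⊗[R] M₀) := by
    refine ⟨hqp, x₀, ?_⟩
    rw [hx]
    congr 1
    ext r
    simp only [mem_colon_singleton, mem_bot, ← hx₀, ← map_smul]
    rw [map_eq_zero_iff _ hinjM]
  haveI : Module.Finite R M₀ := Module.Finite.iff_fg.mpr hfin
  choose Q hQ hQs using fun p : associatedPrimes R M₀ => exists_quotient_single M₀ p.1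
  haveI : Fintype (associatedPrimes R M₀) := (associatedPrimes.finite R M₀).fintype
  let π : M₀ →ₗ[R] ∀ p, M₀ ⧸ Q p := LinearMap.pi fun p => (Q p).mkQ
  have hπ : Function.Injective π := by
    rw [← LinearMap.ker_eq_bot]
    by_contra hne
    haveI : Nontrivial (LinearMap.ker π) := Submodule.nontrivial_iff_ne_bot.mpr hne
    obtain ⟨p, hp⟩ := associatedPrimes.nonempty R (LinearMap.ker π)
    have hpM : p ∈ associatedPrimes R M₀ :=
      associatedPrimes.subset_of_injective (f := (LinearMap.ker π).subtype) Subtype.val_injective hp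
    have hle : LinearMap.ker π ≤ Q ⟨p, hpM⟩ := fun y hy => by
      have := congrFun (LinearMap.mem_ker.mp hy) ⟨p, hpM⟩
      exact (Submodule.Quotient.mk_eq_zero _).mp this
    exact hQ ⟨p, hpM⟩ (associatedPrimes.subset_of_injective (Submodule.inclusion_injective hle) hp)
  let e := TensorProduct.piRight R S N (fun p : associatedPrimes R M₀ => M₀ ⧸ Q p)
  obtain ⟨p, hp⟩ := Set.mem_iUnion.mp <| associatedPrimes_pi_subset (R := S)
    (fun p : associatedPrimes R M₀ => N ⊗[R] (M₀ ⧸ Q p)) <|
    associatedPrimes.subset_of_injective (f := e.toLinearMap.comp (AlgebraTensorModule.lTensor S N π))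
      (e.injective.comp (lTensor_injective_of_injective _ hπ)) hq₀
  refine Set.mem_iUnion₂_of_mem
    (associatedPrimes.subset_of_injective (f := M₀.subtype) Subtype.val_injective p.2) ?_
  haveI : (p.1).IsPrime := p.2.1
  have hzero : ∀ s ∉ p.1, ∀ m : M₀ ⧸ Q p, s • m = 0 → m = 0 := fun s hs m hm => by
    by_contra h
    have : s ∈ ⋃ q ∈ associatedPrimes R (M₀ ⧸ Q p), (q : Set R) := by
      rw [biUnion_associatedPrimes_eq_zero_divisors]; exact ⟨m, h, hm⟩
    obtain ⟨q', hq', hsq⟩ := Set.mem_iUnion₂.mp this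
    obtain rfl : q' = p.1 := hQs p hq'
    exact hs hsq
  obtain ⟨n, hn⟩ : ∃ n, p.1 ^ n ≤ Module.annihilator R (M₀ ⧸ Q p) := by
    refine Ideal.exists_pow_le_of_le_radical_of_fg ?_ (IsNoetherian.noetherian _)
    rw [← Ideal.sInf_minimalPrimes]
    exact le_sInf fun q' hq' => (Set.mem_singleton_iff.mp
      (hQs p (Module.associatedPrimes.minimalPrimes_annihilator_subset_associatedPrimes R _ hq'))).ge
  exact associatedPrimes_tensor_of_pow p.1 n (M₀ ⧸ Q p)
    (fun a ha m => Module.mem_annihilator.mp (hn ha) m) hzero hp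

end Groth.Calg1
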