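import Groth.Agent.Calg8.AcyclicityLemma
import Groth.Agent.LocCohBase.DepthLocal
import Groth.Agent.FrobLCI.AusBuch
import Mathlib

/-! The Buchsbaum–Eisenbud criterion, necessity. -/

set_option autoImplicit false
universe u

namespace Groth.Calg1.BE

open Groth.Calg8.BE Groth.Ega4Algebra1 IsLocalRing

variable {R : Type u} [CommRing R]

/-- Exactness at all spots `1, …, e`. -/
def ExactCx (e : ℕ) {n : ℕ → ℕ} (A : (i : ℕ) → Matrix (Fin (n i)) (Fin (n (i + 1))) R) : Prop :=
  ∀ i < e, LinearMap.ker (A i).mulVecLin = next e A i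

/-- The expected rank of the map from spot `i + 1` to spot `i`. -/
def rZ (e : ℕ) (n : ℕ → ℕ) (i : ℕ) : ℤ :=
  ∑ t ∈ Finset.Icc (i + 1) e, (-1 : ℤ) ^ (t - (i + 1)) * (n t : ℤ)

theorem rZ_succ {e : ℕ} (n : ℕ → ℕ) {i : ℕ} (h : i + 1 ≤ e) :
    rZ e n i = n (i + 1) - rZ e n (i + 1) := by
  rw [rZ, rZ, ← Finset.sum_Ioc_add_eq_sum_Icc h, Nat.sub_self, pow_zero, one_mul]
  have h3 : Finset.Ioc (i + 1) e = Finset.Icc (i + 2) e := by ext; simp; omega
  have h4 : ∑ t ∈ Finset.Icc (i + 2) e, (-1 : ℤ) ^ (t - (i + 1)) * (n t : ℤ) =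
      -∑ t ∈ Finset.Icc (i + 2) e, (-1 : ℤ) ^ (t - (i + 2)) * (n t : ℤ) := by
    rw [← Finset.sum_neg_distrib]
    refine Finset.sum_congr rfl fun t ht => ?_
    rw [Finset.mem_Icc] at ht
    rw [show t - (i + 1) = (t - (i + 2)) + 1 by omega, pow_succ]
    ring
  rw [h3, h4]
  ring

theorem rZ_eq_zero {e : ℕ} (n : ℕ → ℕ) {i : ℕ} (h : e < i + 1) : rZ e n i = 0 := by
  rw [rZ, Finset.Icc_eq_empty (by omega), Finset.sum_empty]

section Local

variable [IsLocalRing R] [IsNoetherianRing R] {e : ℕ} {n : ℕ → ℕ}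
  {A : (i : ℕ) → Matrix (Fin (n i)) (Fin (n (i + 1))) R}

/-- A module of finite projective dimension has projective dimension at most the depth. -/
theorem pdLT_of_depth_le {d : ℕ} (hd : LocCoh.depth R R ≤ d) :
    ∀ (m : ℕ) (M : Type u) [AddCommGroup M] [Module R M] [Module.Finite R M],
      PdLT R M m → PdLT R M (d + 1) := by
  intro m
  induction m with
  | zero => intro M _ _ _ h; exact h.mono (Nat.zero_le _)
  | succ m ih =>
    intro M _ _ _ h
    by_cases hm : PdLT R M m
    · exact ih M hm
    refine h.mono ?_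
    by_contra hlt
    have : Nontrivial M := not_subsingleton_iff_nontrivial.1 fun hs =>
      hm ((PdLT.zero_iff.2 hs).mono (Nat.zero_le _))
    have h1 := Groth.FrobLCI.auslander_buchsbaum m M h hm
    rw [h1] at hd
    have h2 : ((m : ℕ) : ℕ∞) ≤ (d : ℕ∞) := le_trans le_self_add hd
    have := Nat.cast_le.1 h2
    omega

omit [IsLocalRing R] [IsNoetherianRing R] in
theorem nonempty_coker_equiv (hex : ExactCx e A) {i : ℕ} (hi : i + 1 < e) :
    Nonempty (((Fin (n (i + 1)) → R) ⧸ LinearMap.range (A (i + 1)).mulVecLin) ≃ₗ[R]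
      LinearMap.range (A i).mulVecLin) := by
  have h : LinearMap.range (A (i + 1)).mulVecLin = LinearMap.ker (A i).mulVecLin := by
    rw [hex i (by omega), next, if_pos hi]
  exact ⟨(Submodule.quotEquivOfEq _ _ h).trans (LinearMap.quotKerEquivRange (A i).mulVecLin)⟩

omit [IsLocalRing R] [IsNoetherianRing R] in
theorem exists_pdLT_coker (hex : ExactCx e A) :
    ∀ k i, i + k + 1 = e →
      PdLT R ((Fin (n i) → R) ⧸ LinearMap.range (A i).mulVecLin) (k + 2) := by
  intro k
  induction k with
  | zero =>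
    intro i hi
    rw [PdLT.ker_iff _ (Submodule.mkQ_surjective _) 0]
    refine PdLT.one_iff.2 ?_
    have hk : LinearMap.ker (A i).mulVecLin = ⊥ := by
      rw [hex i (by omega), next, if_neg (by omega)]
    rw [Submodule.ker_mkQ]
    exact Module.Projective.of_equiv
      (LinearEquiv.ofInjective (A i).mulVecLin (LinearMap.ker_eq_bot.1 hk))
  | succ k ih =>
    intro i hi
    rw [PdLT.ker_iff _ (Submodule.mkQ_surjective _) (k + 1)]
    obtain ⟨q⟩ := nonempty_coker_equiv hex (i := i) (by omega)
    rw [Submodule.ker_mkQ]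
    exact (ih (i + 1) (by omega)).of_equiv q

/-- From the spot where the depth is exceeded on, the images are direct summands. -/
theorem isSummand_range (hex : ExactCx e A) {d : ℕ} (hd : LocCoh.depth R R ≤ d) {i : ℕ} (hi : i < e)
    (hdi : d ≤ i) : IsSummand (LinearMap.range (A i).mulVecLin) := by
  have hsum : ∀ j, Module.Projective R ((Fin (n j) → R) ⧸ LinearMap.range (A j).mulVecLin) →
      IsSummand (LinearMap.range (A j).mulVecLin) := by
    intro j hj
    obtain ⟨s, hs⟩ := Module.projective_lifting_property (LinearMap.range (A j).mulVecLin).mkQ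
      LinearMap.id (Submodule.mkQ_surjective _)
    refine ⟨LinearMap.id - s.comp (LinearMap.range (A j).mulVecLin).mkQ, fun v => ?_, fun y hy => ?_⟩
    · rw [← Submodule.Quotient.mk_eq_zero (LinearMap.range (A j).mulVecLin)]
      have := LinearMap.congr_fun hs (Submodule.Quotient.mk v)
      simp only [LinearMap.comp_apply, Submodule.mkQ_apply, LinearMap.id_apply] at this
      simp [this]
    · simp [(Submodule.Quotient.mk_eq_zero (LinearMap.range (A j).mulVecLin)).2 hy]
  have h0 : PdLT R ((Fin (n 0) → R) ⧸ LinearMap.range (A 0).mulVecLin) (d + 1) :=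
    pdLT_of_depth_le hd _ _ (exists_pdLT_coker hex (e - 1) 0 (by omega))
  have key : ∀ j, j ≤ d → j < e →
      PdLT R ((Fin (n j) → R) ⧸ LinearMap.range (A j).mulVecLin) (d - j + 1) := by
    intro j
    induction j with
    | zero => intro _ _; simpa using h0
    | succ j ihj =>
      intro hjd hje
      have h1 := ihj (by omega) (by omega)
      rw [show d - j + 1 = (d - (j + 1)) + 2 by omega,
        PdLT.ker_iff _ (Submodule.mkQ_surjective _) _, Submodule.ker_mkQ] at h1
      obtain ⟨q⟩ := nonempty_coker_equiv hex (i := j) hje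
      exact h1.of_equiv q.symm
  induction i, hdi using Nat.le_induction with
  | base => exact hsum d (PdLT.one_iff.1 (by simpa using key d le_rfl hi))
  | succ i hdi ih =>
    obtain ⟨π, hπ1, hπ2⟩ := ih (by omega)
    have : Module.Projective R (LinearMap.range (A i).mulVecLin) :=
      Module.Projective.of_split (LinearMap.range (A i).mulVecLin).subtype
        (π.codRestrict _ hπ1) (LinearMap.ext fun y => Subtype.ext (hπ2 y y.2))
    obtain ⟨q⟩ := nonempty_coker_equiv hex (i := i) hi
    exact hsum (i + 1) (Module.Projective.of_equiv q.symm)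

/-- Constant ranks from the spot where the depth is exceeded on. -/
theorem split_ranks (hex : ExactCx e A) {d : ℕ} (hd : LocCoh.depth R R ≤ d) :
    ∀ k i, i + k + 1 = e → d ≤ i →
      (Module.Free R (LinearMap.range (A i).mulVecLin) ∧
        (Module.finrank R (LinearMap.range (A i).mulVecLin) : ℤ) = rZ e n i) ∧
      ∃ r : ℕ, (r : ℤ) = rZ e n i ∧ CAlgX.minorIdeal (A i) (r + 1) = ⊥ ∧
        CAlgX.minorIdeal (A i) r = ⊤ := by
  intro k
  induction k using Nat.strong_induction_on with
  | _ k ih =>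
  intro i hi hdi
  obtain ⟨π, hπ1, hπ2⟩ := isSummand_range hex hd (i := i) (by omega) hdi
  let S := LinearMap.range (A i).mulVecLin
  have : Module.Projective R S := Module.Projective.of_split S.subtype
    (π.codRestrict _ hπ1) (LinearMap.ext fun y => Subtype.ext (hπ2 y y.2))
  have hfree : Module.Free R S := Module.free_of_flat_of_isLocalRing
  have hk : Module.Free R (LinearMap.ker (A i).mulVecLin) ∧
      (Module.finrank R (LinearMap.ker (A i).mulVecLin) : ℤ) = rZ e n (i + 1) := by
    rcases k with _ | k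
    · have h : LinearMap.ker (A i).mulVecLin = ⊥ := by
        rw [hex i (by omega), next, if_neg (by omega)]
      rw [h, rZ_eq_zero n (by omega)]
      exact ⟨Module.Free.of_subsingleton R _, by simp [finrank_bot]⟩
    · obtain ⟨⟨h1, h2⟩, -⟩ := ih k (by omega) (i + 1) (by omega) (by omega)
      have h : LinearMap.ker (A i).mulVecLin = LinearMap.range (A (i + 1)).mulVecLin := by
        rw [hex i (by omega), next, if_pos (by omega)]
      rw [h]
      exact ⟨h1, h2⟩
  have := hk.1
  let f := (A i).mulVecLin.rangeRestrict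
  obtain ⟨s, hs⟩ := Module.projective_lifting_property f LinearMap.id
    (A i).mulVecLin.surjective_rangeRestrict
  have hs' : ∀ y, f (s y) = y := fun y => LinearMap.congr_fun hs y
  let E : (Fin (n (i + 1)) → R) ≃ₗ[R] (LinearMap.ker (A i).mulVecLin × S) :=
    LinearEquiv.ofLinear
      (LinearMap.prod ((LinearMap.id - s ∘ₗ f).codRestrict _ fun v => by
        have := congrArg Subtype.val (hs' (f v))
        simp only [LinearMap.mem_ker, LinearMap.sub_apply, LinearMap.id_apply, LinearMap.comp_apply,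
          map_sub, sub_eq_zero]
        exact this.symm) f)
      ((LinearMap.ker (A i).mulVecLin).subtype.coprod s)
      (by
        refine LinearMap.ext fun p => ?_
        have h1 : f (p.1 : Fin (n (i + 1)) → R) = 0 := Subtype.ext (LinearMap.mem_ker.1 p.1.2)
        refine Prod.ext (Subtype.ext ?_) ?_
        · simp [h1, hs']
        · simp [h1, hs'])
      (by
        refine LinearMap.ext fun v => ?_
        simp)
  have hrk : (Module.finrank R S : ℤ) = rZ e n i := by
    have := E.finrank_eq
    rw [Module.finrank_fin_fun, Module.finrank_prod] at this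
    rw [rZ_succ n (by omega), ← hk.2]
    omega
  refine ⟨⟨hfree, hrk⟩, Module.finrank R S, hrk, ?_⟩
  exact Groth.Calg8.SplitMatrix.minorIdeal_of_split (A i) _
    (LinearMap.isCompl_of_proj (f := π.codRestrict S hπ1) fun y => Subtype.ext (hπ2 y y.2))
    (Module.finBasis R S)

end Local

section Global

variable [IsNoetherianRing R] {e : ℕ} {n : ℕ → ℕ}
  {A : (i : ℕ) → Matrix (Fin (n i)) (Fin (n (i + 1))) R}

omit [IsNoetherianRing R] in
theorem exactCx_loc [IsNoetherianRing R] (hex : ExactCx e A)
    (hA : ∀ i, i + 2 ≤ e → A i * A (i + 1) = 0) (p : Ideal R) [p.IsPrime] :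
    ExactCx e (loc p A) := by
  intro i hi
  refine le_antisymm (fun z hz => ?_) (next_le_ker (fun i hi => ?_) i)
  · obtain ⟨b, v, hb, hv⟩ := exists_num p z
    obtain ⟨c, hc, hcv⟩ := exists_eq_of_comp_eq p (v := (A i).mulVec v) (w := 0) (by
      rw [← loc_mulVec, hv, Matrix.mulVec_smul, show (loc p A i).mulVec z = 0 from hz, smul_zero]
      exact funext fun j => (map_zero _).symm)
    have h1 : c • v ∈ LinearMap.ker (A i).mulVecLin := by
      rw [LinearMap.mem_ker, Matrix.mulVecLin_apply, Matrix.mulVec_smul, hcv, smul_zero]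
    rw [hex i hi] at h1
    have h2 := mem_next_loc p h1
    have h3 : algebraMap R (Localization.AtPrime p) ∘ (c • v) =
        algebraMap R (Localization.AtPrime p) (c * b) • z := by
      rw [map_mul, mul_smul, ← hv]
      funext j
      simp
    rw [h3] at h2
    have hu : IsUnit (algebraMap R (Localization.AtPrime p) (c * b)) :=
      IsLocalization.map_units _ (⟨c * b, fun hm => ((‹p.IsPrime›).mem_or_mem hm).elim hc hb⟩ :
        p.primeCompl)
    obtain ⟨w, hw⟩ := hu.exists_left_inv
    have := Submodule.smul_mem _ w h2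
    rwa [smul_smul, hw, one_smul] at this
  · rw [← Matrix.map_mul, hA i hi, Matrix.map_zero _ (map_zero _)]

/-- The depth of the localised ring, as a module over itself. -/
theorem depth_localizedModule_self (p : Ideal R) [p.IsPrime] :
    LocCoh.depth (Localization.AtPrime p) (LocalizedModule p.primeCompl R) =
      LocCoh.depth (Localization.AtPrime p) (Localization.AtPrime p) :=
  LocCohBase.idealDepth_congr
    ((IsLocalizedModule.iso p.primeCompl
      (Algebra.linearMap R (Localization.AtPrime p))).extendScalarsOfIsLocalization p.primeCompl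
        (Localization.AtPrime p))

omit [IsNoetherianRing R] in
theorem minorIdeal_succ_le {a b : ℕ} (B : Matrix (Fin a) (Fin b) R) (s : ℕ) :
    CAlgX.minorIdeal B (s + 1) ≤ CAlgX.minorIdeal B s := by
  rw [CAlgX.minorIdeal, Ideal.span_le]
  rintro _ ⟨⟨f, g⟩, rfl⟩
  show (B.submatrix f g).det ∈ CAlgX.minorIdeal B s
  rw [Matrix.det_succ_row_zero]
  exact Ideal.sum_mem _ fun j _ => Ideal.mul_mem_left _ _
    (Ideal.subset_span ⟨(f ∘ Fin.succ, g ∘ j.succAbove), rfl⟩)

omit [IsNoetherianRing R] in
theorem matrixRank_eq {a b : ℕ} (B : Matrix (Fin a) (Fin b) R) {r : ℕ}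
    (hne : CAlgX.minorIdeal B r ≠ ⊥) (hb : CAlgX.minorIdeal B (r + 1) = ⊥) :
    CAlgX.matrixRank B = r := by
  have hle : ∀ s, r + 1 ≤ s → CAlgX.minorIdeal B s = ⊥ := by
    intro s hs
    induction s, hs using Nat.le_induction with
    | base => exact hb
    | succ s hs ih => exact le_bot_iff.1 (ih ▸ minorIdeal_succ_le B s)
  refine le_antisymm (csSup_le ⟨r, hne⟩ fun s hs => ?_)
    (le_csSup ⟨r, fun s hs => ?_⟩ hne) <;>
  · by_contra h
    exact hs (hle s (by omega))

theorem eq_bot_of_forall_associated (J : Ideal R)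
    (h : ∀ p ∈ associatedPrimes R R, ∀ (_ : p.IsPrime),
      J.map (algebraMap R (Localization.AtPrime p)) = ⊥) : J = ⊥ := by
  refine (Submodule.eq_bot_iff _).2 fun x hx => ?_
  by_contra hx0
  obtain ⟨P, hP, hle⟩ := exists_le_isAssociatedPrime_of_isNoetherianRing R x hx0
  have := hP.isPrime
  have h0 : algebraMap R (Localization.AtPrime P) x = 0 := by
    rw [← Ideal.mem_bot, ← h P hP hP.isPrime]
    exact Ideal.mem_map_of_mem _ hx
  obtain ⟨s, hs⟩ := (IsLocalization.map_eq_zero_iff P.primeCompl _ x).1 h0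
  exact s.2 (hle (by rw [Submodule.mem_colon_singleton, Submodule.mem_bot]; exact hs))

/-- Necessity in the criterion of Buchsbaum and Eisenbud. -/
theorem necessity [IsLocalRing R] (hex : ExactCx e A) (hA : ∀ i, i + 2 ≤ e → A i * A (i + 1) = 0)
    {i : ℕ} (hi : i < e) :
    (CAlgX.matrixRank (A i) : ℤ) = rZ e n i ∧
      (CAlgX.detIdeal (A i) = ⊤ ∨ ∃ rs : List R, rs.length = i + 1 ∧
        (∀ x ∈ rs, x ∈ CAlgX.detIdeal (A i)) ∧ RingTheory.Sequence.IsRegular R rs) := by
  have key : ∀ p : Ideal R, ∀ [p.IsPrime],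
      LocCoh.depth (Localization.AtPrime p) (Localization.AtPrime p) ≤ (i : ℕ∞) →
      ∃ r : ℕ, (r : ℤ) = rZ e n i ∧
        (CAlgX.minorIdeal (A i) (r + 1)).map (algebraMap R (Localization.AtPrime p)) = ⊥ ∧
        (CAlgX.minorIdeal (A i) r).map (algebraMap R (Localization.AtPrime p)) = ⊤ := by
    intro p hp hd
    obtain ⟨-, r, hr, h1, h2⟩ :=
      split_ranks (exactCx_loc hex hA p) (d := i) hd (e - i - 1) i (by omega) le_rfl
    rw [minorIdeal_map] at h1 h2
    exact ⟨r, hr, h1, h2⟩
  have key0 : ∀ p ∈ associatedPrimes R R, ∀ (_ : p.IsPrime),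
      LocCoh.depth (Localization.AtPrime p) (Localization.AtPrime p) ≤ (i : ℕ∞) := by
    intro p hp _
    have h1 := mt (LocCohBase.one_le_depth_localized_iff p R).1 (not_not_intro hp)
    rw [depth_localizedModule_self, not_le, Order.lt_one_iff] at h1
    simp [h1]
  obtain ⟨P, hP⟩ := associatedPrimes.nonempty R R
  have := hP.isPrime
  obtain ⟨r, hr, -, htop⟩ := key P (key0 P hP hP.isPrime)
  have hb : CAlgX.minorIdeal (A i) (r + 1) = ⊥ := by
    refine eq_bot_of_forall_associated _ fun p hp hpp => ?_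
    obtain ⟨r', hr', h1, -⟩ := key p (key0 p hp hpp)
    obtain rfl : r' = r := by omega
    exact h1
  have hrank : CAlgX.matrixRank (A i) = r := by
    refine matrixRank_eq _ (fun h => ?_) hb
    rw [h, Ideal.map_bot] at htop
    exact bot_ne_top htop
  refine ⟨by rw [hrank, hr], ?_⟩
  rw [CAlgX.detIdeal, hrank]
  by_cases hI : CAlgX.minorIdeal (A i) r = ⊤
  · exact Or.inl hI
  refine Or.inr ?_
  have hdepth : ((i + 1 : ℕ) : ℕ∞) ≤ LocCoh.idealDepth (CAlgX.minorIdeal (A i) r) R := by
    refine LocCohBase.le_idealDepth_of_forall_depth _ _ R fun p _ hp => ?_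
    rw [depth_localizedModule_self]
    by_contra h
    have hd : LocCoh.depth (Localization.AtPrime p) (Localization.AtPrime p) ≤ (i : ℕ∞) := by
      rw [not_le, Nat.cast_succ] at h
      exact Order.le_of_lt_add_one h
    obtain ⟨r', hr', -, h2⟩ := key p hd
    obtain rfl : r' = r := by omega
    refine (maximalIdeal.isMaximal (Localization.AtPrime p)).ne_top (top_le_iff.1 (h2 ▸ ?_))
    rw [Ideal.map_le_iff_le_comap, LocCohBase.comap_maximalIdeal_atPrime]
    exact hp
  obtain ⟨rs, hlen, hreg, hmem⟩ := (LocCohBase.le_idealDepth_iff_exists _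
    (by rwa [smul_eq_mul, Ideal.mul_top]) _).1 hdepth
  exact ⟨rs, hlen, hmem,
    RingTheory.Sequence.IsRegular.of_isWeaklyRegular_of_mem_maximalIdeal (L := R) (reg := hreg)
      (mem := fun x hx => le_maximalIdeal hI (hmem x hx))⟩

end Global

end Groth.Calg1.BE
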