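import Groth.Agent.EGA41Two.CMPrime

/-!
A local ring with a Cohen–Macaulay module of full support is equidimensional and catenary.
-/

set_option autoImplicit false

universe u

open IsLocalRing

namespace Groth.Calg1

theorem supportDim_eq_of_support_eq_univ {R M : Type u} [CommRing R] [AddCommGroup M] [Module R M]
    (h : Module.support R M = Set.univ) : Module.supportDim R M = ringKrullDim R := by
  rw [Module.supportDim, h]
  exact Order.krullDim_eq_of_orderIso OrderIso.Set.univ

theorem support_localized_eq_univ {R M : Type u} [CommRing R] [AddCommGroup M] [Module R M]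
    [Module.Finite R M] (h : Module.support R M = Set.univ) (p : Ideal R) [p.IsPrime] :
    Module.support (Localization.AtPrime p) (LocalizedModule p.primeCompl M) = Set.univ := by
  refine Set.eq_univ_of_forall fun Q => ?_
  rw [Module.mem_support_iff_of_finite]
  intro z hz
  obtain ⟨a, s, rfl⟩ := IsLocalization.exists_mk'_eq p.primeCompl z
  rw [Module.mem_annihilator] at hz
  have hQ : algebraMap R (Localization.AtPrime p) a ∈ Q.asIdeal := by
    let q := Q.asIdeal.comap (algebraMap R (Localization.AtPrime p))
    have hq : (⟨q, Ideal.IsPrime.comap _⟩ : PrimeSpectrum R) ∈ Module.support R M := h ▸ Set.mem_univ _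
    by_contra hne
    obtain ⟨G, hG⟩ := Module.Finite.fg_top (R := R) (M := M)
    have hkill : ∀ m : M, ∃ u ∈ p.primeCompl, u • a • m = 0 := fun m => by
      have h1 := hz (LocalizedModule.mk m 1)
      have h2 : algebraMap R (Localization.AtPrime p) a • LocalizedModule.mk m (1 : p.primeCompl) = 0 := by
        rw [← IsLocalization.mk'_spec' (Localization.AtPrime p) a s, mul_smul, h1, smul_zero]
      rw [algebraMap_smul, LocalizedModule.smul'_mk, ← LocalizedModule.zero_mk (1 : p.primeCompl),
        LocalizedModule.mk_eq] at h2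
      obtain ⟨u, hu⟩ := h2
      refine ⟨u, u.2, ?_⟩
      simpa [Submonoid.smul_def] using hu
    choose u hu hum using hkill
    classical
    have hann : (∏ g ∈ G, u g) * a ∈ Module.annihilator R M := by
      rw [Module.mem_annihilator]
      intro m
      have hm : m ∈ Submodule.span R (G : Set M) := hG ▸ Submodule.mem_top
      induction hm using Submodule.span_induction with
      | mem g hg =>
        obtain ⟨c, hc⟩ := Finset.dvd_prod_of_mem u hg
        rw [hc, mul_smul, mul_comm, mul_smul, hum, smul_zero]
      | zero => exact smul_zero _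
      | add x y _ _ hx hy => rw [smul_add, hx, hy, add_zero]
      | smul r x _ hx => rw [smul_comm, hx, smul_zero]
    have hmem := Module.mem_support_iff_of_finite.1 hq hann
    change algebraMap R (Localization.AtPrime p) ((∏ g ∈ G, u g) * a) ∈ Q.asIdeal at hmem
    rw [map_mul] at hmem
    rcases Q.isPrime.mem_or_mem hmem with h1 | h1
    · have hunit : IsUnit (algebraMap R (Localization.AtPrime p) (∏ g ∈ G, u g)) :=
        IsLocalization.map_units (Localization.AtPrime p)
          (⟨_, prod_mem fun g _ => hu g⟩ : p.primeCompl)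
      exact Q.isPrime.ne_top (Ideal.eq_top_of_isUnit_mem _ h1 hunit)
    · exact hne h1
  rw [IsLocalization.mk'_eq_mul_mk'_one]
  exact Q.asIdeal.mul_mem_right _ hQ

/-- `dim R/p + ht p = dim R` when a Cohen–Macaulay module has full support. -/
theorem ringKrullDim_quotient_add_height {R M : Type u} [CommRing R] [IsLocalRing R] [IsNoetherianRing R]
    [AddCommGroup M] [Module R M] [Module.Finite R M] (hM : LocCoh.IsCohenMacaulayModule R M)
    (hsupp : Module.support R M = Set.univ) (p : Ideal R) [p.IsPrime] :
    ringKrullDim (R ⧸ p) + (p.height : WithBot ℕ∞) = ringKrullDim R := by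
  have : Nontrivial M := Groth.LocCohBase.nontrivial_of_CM hM
  have hp : (⟨p, inferInstance⟩ : PrimeSpectrum R) ∈ Module.support R M := hsupp ▸ Set.mem_univ _
  have hne : p • (⊤ : Submodule R M) ≠ ⊤ :=
    Groth.LocCohBase.smul_maximalIdeal_ne_top M (Ideal.IsPrime.ne_top inferInstance)
  obtain ⟨n, hn⟩ := ENat.ne_top_iff_exists.1 (Groth.LocCohBase.idealDepth_ne_top hne)
  have h1 := Groth.LocCohBase.supportDim_eq_add_idealDepth (Ideal.IsPrime.ne_top inferInstance) n M hM hn.symm
  rw [supportDim_eq_of_support_eq_univ hsupp, Groth.EGA41Two.supportDim_quotient_smul_top ⟨p, inferInstance⟩ hp] at h1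
  have h2 := Groth.EGA41Two.supportDim_localized_eq_idealDepth n M hM p
    (Module.mem_support_iff.1 hp) hn.symm
  rw [supportDim_eq_of_support_eq_univ (support_localized_eq_univ hsupp p),
    IsLocalization.AtPrime.ringKrullDim_eq_height p] at h2
  rw [h1, h2]

theorem add_natCast_inj {a b : WithBot ℕ∞} {n : ℕ} (h : a + (n : WithBot ℕ∞) = b + n) : a = b :=
  Groth.EGA41Two.withBot_add_natCast_inj.1 h

/-- In a local ring with a Cohen–Macaulay module of full support, heights go up by one along covers. -/
theorem height_eq_of_covBy {R M : Type u} [CommRing R] [IsLocalRing R] [IsNoetherianRing R]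
    [AddCommGroup M] [Module R M] [Module.Finite R M] (hM : LocCoh.IsCohenMacaulayModule R M)
    (hsupp : Module.support R M = Set.univ) {p q : PrimeSpectrum R} (h : p ⋖ q) :
    q.asIdeal.height = p.asIdeal.height + 1 := by
  let A := Localization.AtPrime q.asIdeal
  have hq : q ∈ Module.support R M := hsupp ▸ Set.mem_univ _
  have := Groth.LocCohBase.nontrivial_of_CM hM
  obtain ⟨d, hd⟩ := Groth.LocCohBase.exists_depth_eq (R := R) M
  have hMq := Groth.LocCohBase.isCM_localized d M hM hd q.asIdeal (Module.mem_support_iff.1 hq)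
  let P := p.asIdeal.map (algebraMap R A)
  have hle : p.asIdeal ≤ q.asIdeal := h.le
  haveI hP : P.IsPrime :=
    IsLocalization.isPrime_of_isPrime_disjoint q.asIdeal.primeCompl A p.asIdeal inferInstance
      (Set.disjoint_left.2 fun x hx hxp => hx (hle hxp))
  have hPcomap : P.comap (algebraMap R A) = p.asIdeal :=
    IsLocalization.comap_map_of_isPrime_disjoint q.asIdeal.primeCompl A inferInstance
      (Set.disjoint_left.2 fun x hx hxp => hx (hle hxp))
  have h1 := ringKrullDim_quotient_add_height hMq (support_localized_eq_univ hsupp q.asIdeal) P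
  rw [IsLocalization.AtPrime.ringKrullDim_eq_height q.asIdeal A,
    ← IsLocalization.height_comap q.asIdeal.primeCompl P, Ideal.under_def, hPcomap] at h1
  have hdim : ringKrullDim (A ⧸ P) = 1 := by
    rw [ringKrullDim_quotient]
    let qA : PrimeSpectrum A := IsLocalRing.closedPoint A
    have hcq : (maximalIdeal A).comap (algebraMap R A) = q.asIdeal :=
      IsLocalization.AtPrime.comap_maximalIdeal A q.asIdeal
    have key : ∀ x : PrimeSpectrum A, x ∈ PrimeSpectrum.zeroLocus (P : Set A) →
        x.asIdeal = P ∨ x.asIdeal = maximalIdeal A := by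
      intro x hx
      let x' : PrimeSpectrum R := ⟨x.asIdeal.comap (algebraMap R A), Ideal.IsPrime.comap _⟩
      have hpx : p ≤ x' := fun a ha => by
        change algebraMap R A a ∈ x.asIdeal
        exact hx (Ideal.mem_map_of_mem _ ha)
      have hxq : x' ≤ q := fun a ha => hcq ▸ Ideal.comap_mono (IsLocalRing.le_maximalIdeal x.isPrime.ne_top) ha
      have hx' : x.asIdeal = x'.asIdeal.map (algebraMap R A) :=
        (IsLocalization.map_comap q.asIdeal.primeCompl A _).symm
      rcases h.eq_or_eq hpx hxq with h2 | h2
      · exact Or.inl (by rw [hx', h2])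
      · exact Or.inr (by rw [hx', h2, Localization.AtPrime.map_eq_maximalIdeal])
    have hPm : P ≠ maximalIdeal A := fun h2 => h.lt.ne (PrimeSpectrum.ext (by rw [← hPcomap, h2, hcq]))
    refine le_antisymm (Order.krullDim_le_one_iff.2 fun x => ?_) ?_
    · rcases key x.1 x.2 with h2 | h2
      · exact Or.inl fun y _ => by
          change x.1.asIdeal ≤ y.1.asIdeal
          rw [h2]; exact y.2
      · exact Or.inr fun y _ => by
          change y.1.asIdeal ≤ x.1.asIdeal
          rw [h2]; exact IsLocalRing.le_maximalIdeal y.1.isPrime.ne_top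
    · let a : PrimeSpectrum.zeroLocus (P : Set A) := ⟨⟨P, hP⟩, fun x hx => hx⟩
      let b : PrimeSpectrum.zeroLocus (P : Set A) := ⟨qA, IsLocalRing.le_maximalIdeal hP.ne_top⟩
      have hab : a < b := lt_of_le_of_ne (IsLocalRing.le_maximalIdeal hP.ne_top)
        fun h2 => hPm (congrArg (fun z => z.1.asIdeal) h2)
      exact Order.LTSeries.length_le_krullDim ((RelSeries.singleton _ a).snoc b hab)
  rw [hdim, add_comm] at h1
  exact_mod_cast h1.symm

theorem length_eq_of_CM {R M : Type u} [CommRing R] [IsLocalRing R] [IsNoetherianRing R]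
    [AddCommGroup M] [Module R M] [Module.Finite R M] (hM : LocCoh.IsCohenMacaulayModule R M)
    (hsupp : Module.support R M = Set.univ) (s : LTSeries (PrimeSpectrum R))
    (hhead : s.head.asIdeal ∈ minimalPrimes R) (hlast : s.last.asIdeal = maximalIdeal R)
    (hsat : ∀ i : Fin s.length, s (Fin.castSucc i) ⋖ s (Fin.succ i)) :
    (s.length : WithBot ℕ∞) = ringKrullDim R := by
  have key : ∀ i : Fin (s.length + 1), (s i).asIdeal.height = (i : ℕ) := by
    intro i
    induction i using Fin.induction with
    | zero =>
      rw [Fin.val_zero, Nat.cast_zero, Ideal.height_eq_zero_iff]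
      exact hhead
    | succ i ih =>
      rw [height_eq_of_covBy hM hsupp (hsat i), ih]
      simp
  rw [← IsLocalRing.maximalIdeal_height_eq_ringKrullDim, ← hlast, RelSeries.last, key (Fin.last _)]
  simp

end Groth.Calg1
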