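import Mathlib
import Groth.Prelude.Def_CAlg
import Groth.Prelude.Def_Found
import Groth.Agent.Calg1.CMCatenary
import Groth.Agent.Calg1.CatenaryLocal
import Groth.Agent.Calg4.RegularAscent

/-!
Cohen–Macaulay rings are universally catenary.
-/

set_option autoImplicit false

universe u

open IsLocalRing

namespace Groth.Calg1

theorem isCatenary_of_isCohenMacaulayLocalRing (R : Type u) [CommRing R]
    [hR : LocCoh.IsCohenMacaulayLocalRing R] : CAlg.IsCatenary R := by
  have hsupp : Module.support R R = Set.univ := by
    rw [Module.support_eq_zeroLocus, Module.annihilator_eq_bot.2 inferInstance]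
    simp
  refine ⟨fun p q _ => ?_, fun s t h1 h2 hs ht => ?_⟩
  · obtain ⟨n, hn⟩ : ∃ n : ℕ, (maximalIdeal R).height = n :=
      ⟨_, (ENat.coe_toNat (Ideal.height_ne_top (Ideal.IsPrime.ne_top inferInstance))).symm⟩
    refine ⟨n, fun s _ _ => ?_⟩
    have h := Order.LTSeries.length_le_krullDim s
    rw [show Order.krullDim (PrimeSpectrum R) = ringKrullDim R from rfl,
      ← IsLocalRing.maximalIdeal_height_eq_ringKrullDim, hn] at h
    exact_mod_cast h
  · have key : ∀ (s : LTSeries (PrimeSpectrum R)),
        (∀ i : Fin s.length, s (Fin.castSucc i) ⋖ s (Fin.succ i)) →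
          s.last.asIdeal.height = s.head.asIdeal.height + s.length := by
      intro s hs
      have : ∀ i : Fin (s.length + 1), (s i).asIdeal.height = s.head.asIdeal.height + (i : ℕ) := by
        intro i
        induction i using Fin.induction with
        | zero => simp [RelSeries.head]
        | succ i ih =>
          rw [height_eq_of_covBy hR.supportDim_eq_depth hsupp (hs i), ih]
          simp [add_assoc]
      simpa [RelSeries.last] using this (Fin.last _)
    have e := key s hs
    rw [h1, h2, key t ht] at e
    obtain ⟨k, hk⟩ := ENat.ne_top_iff_exists.1 (Ideal.height_ne_top (Ideal.IsPrime.ne_top t.head.2))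
    rw [← hk] at e
    norm_cast at e
    omega

theorem isCatenary_of_isCohenMacaulayRing (R : Type u) [CommRing R]
    [hR : LocCoh.IsCohenMacaulayRing R] : CAlg.IsCatenary R :=
  (isCatenary_iff_localization R).2 fun m _ =>
    haveI := hR.isCohenMacaulayLocalRing_localization m
    isCatenary_of_isCohenMacaulayLocalRing _

theorem isUniversallyCatenary_of_isCohenMacaulayRing (R : Type u) [CommRing R]
    [hR : LocCoh.IsCohenMacaulayRing R] : CAlg.IsUniversallyCatenary R :=
  (isUniversallyCatenary_iff_mvPolynomial R).2 ⟨inferInstance, fun n =>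
    haveI : LocCoh.IsCohenMacaulayRing (MvPolynomial (Fin n) R) :=
      Groth.Calg4.isCohenMacaulayRing_of_flat_of_regular_fibers R _ fun p _ =>
        IsRegularRing.of_ringEquiv
          (MvPolynomial.algebraTensorAlgEquiv R p.ResidueField (σ := Fin n)).symm.toRingEquiv
    isCatenary_of_isCohenMacaulayRing _⟩

end Groth.Calg1
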