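import Mathlib
import Groth.Prelude.Def_CAlgX

/-!
Exactness of completion on free modules on arbitrary index sets; lifting splittings.
-/

set_option autoImplicit false
universe u

namespace Groth.Calg1

open scoped BigOperators

variable {R : Type u} [CommRing R]

section coordinatewise

variable {α : Type u}

lemma mem_smul_top_iff (J : Ideal R) (v : α →₀ R) :
    v ∈ (J • ⊤ : Submodule R (α →₀ R)) ↔ ∀ a, v a ∈ J := by
  refine ⟨fun h a => ?_, fun h => ?_⟩
  · induction h using Submodule.smul_induction_on' with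
    | smul r hr x _ => simpa using J.mul_mem_right _ hr
    | add x _ y _ hx hy => simpa using add_mem hx hy
  · rw [← v.sum_single]
    refine Submodule.sum_mem _ fun a _ => ?_
    rw [← Finsupp.smul_single_one]
    exact Submodule.smul_mem_smul (h a) Submodule.mem_top

/-- The coordinates at `a` of a vector in `(α →₀ R) ^ l`. -/
def coords {l : ℕ} (v : Fin l → (α →₀ R)) (a : α) : Fin l → R := fun i => v i a

/-- Apply a matrix `A` to a vector in `M ^ m`. -/
def applyMat {l m : ℕ} (A : Fin l → Fin m → R) {M : Type u} [AddCommGroup M] [Module R M]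
    (w : Fin m → M) : Fin l → M := fun i => ∑ j, A i j • w j

lemma coords_applyMat {l m : ℕ} (A : Fin l → Fin m → R) (w : Fin m → (α →₀ R)) (a : α) :
    coords (applyMat A w) a = applyMat A (coords w a) := by
  funext i; simp [coords, applyMat]

lemma exists_preimage_coordwise {l m : ℕ} (A : Fin l → Fin m → R) (J : Ideal R)
    (v : Fin l → (α →₀ R))
    (h : ∀ a, ∃ u : Fin m → R, (∀ j, u j ∈ J) ∧ applyMat A u = coords v a) :
    ∃ w : Fin m → (α →₀ R), (∀ j, w j ∈ (J • ⊤ : Submodule R (α →₀ R))) ∧ applyMat A w = v := by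
  classical
  choose u huJ hu using h
  let D := Finset.univ.biUnion fun i => (v i).support
  refine ⟨fun j => ∑ a ∈ D, Finsupp.single a (u a j), fun j => ?_, ?_⟩
  · exact (mem_smul_top_iff J _).mpr fun b => by
      simp only [Finsupp.coe_finsetSum, Finset.sum_apply, Finsupp.single_apply]
      refine J.sum_mem fun a _ => ?_
      split_ifs with h
      · exact huJ a j
      · exact J.zero_mem
  · funext i; ext b
    simp only [applyMat, Finsupp.coe_finsetSum, Finset.sum_apply, Finsupp.coe_smul, Pi.smul_apply,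
      Finsupp.single_apply, Finset.sum_ite_eq']
    by_cases hb : b ∈ D
    · simp only [hb, if_true]
      exact congrFun (hu b) i
    · have : v i b = 0 := Finsupp.notMem_support_iff.mp fun hs =>
        hb (Finset.mem_biUnion.mpr ⟨i, Finset.mem_univ i, hs⟩)
      simp [hb, this]

/-- Uniform Artin–Rees for the image of a matrix. -/
lemma exists_artinRees [IsNoetherianRing R] (I : Ideal R) {l m : ℕ} (A : Fin l → Fin m → R) :
    ∃ c, ∀ n, ∀ u : Fin m → R, (∀ i, applyMat A u i ∈ I ^ (n + c)) →
      ∃ u' : Fin m → R, (∀ j, u' j ∈ I ^ n) ∧ applyMat A u' = applyMat A u := by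
  let φ : (Fin m → R) →ₗ[R] (Fin l → R) :=
    { toFun := applyMat A
      map_add' := fun x y => funext fun i => by simp [applyMat, mul_add, Finset.sum_add_distrib]
      map_smul' := fun r x => funext fun i => by
        simp [applyMat, Finset.mul_sum, mul_left_comm] }
  obtain ⟨c, hc⟩ := Ideal.exists_pow_inf_eq_pow_smul I (LinearMap.range φ)
  refine ⟨c, fun n u hu => ?_⟩
  have hmem : applyMat A u ∈ I ^ (n + c) • ⊤ ⊓ LinearMap.range φ := by
    refine ⟨?_, ⟨u, rfl⟩⟩
    show applyMat A u ∈ (I ^ (n + c) • ⊤ : Submodule R (Fin l → R))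
    rw [pi_eq_sum_univ (applyMat A u)]
    exact Submodule.sum_mem _ fun i _ => Submodule.smul_mem_smul (hu i) Submodule.mem_top
  rw [hc (n + c) (by omega)] at hmem
  have h2 : applyMat A u ∈ (I ^ n • ⊤ : Submodule R (Fin m → R)).map φ := by
    rw [Submodule.map_smul'', Submodule.map_top]
    rw [Nat.add_sub_cancel] at hmem
    exact Submodule.smul_mono le_rfl inf_le_right hmem
  obtain ⟨u', hu', he⟩ := h2
  refine ⟨u', fun j => ?_, he⟩
  have h3 := Submodule.mem_map_of_mem (f := LinearMap.proj j) hu'
  rw [Submodule.map_smul''] at h3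
  have h4 := Submodule.smul_mono (le_refl (I ^ n)) (le_top : _ ≤ (⊤ : Submodule R R)) h3
  rwa [smul_eq_mul, Ideal.mul_top] at h4

lemma val_applyMat (I : Ideal R) {l m : ℕ} (A : Fin l → Fin m → R)
    (y : Fin m → AdicCompletion I (α →₀ R)) (w : Fin m → (α →₀ R)) (n : ℕ)
    (h : ∀ j, (y j).val n = Submodule.Quotient.mk (w j)) (i : Fin l) :
    (applyMat A y i).val n = Submodule.Quotient.mk (applyMat A w i) := by
  show AdicCompletion.eval I _ n (∑ j, A i j • y j) =
    Submodule.mkQ (I ^ n • ⊤ : Submodule R (α →₀ R)) (∑ j, A i j • w j)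
  rw [map_sum, map_sum]
  refine Finset.sum_congr rfl fun j _ => ?_
  rw [map_smul, map_smul]
  exact congrArg _ (h j)

/-- A vector in the completion of a free module which is levelwise, coordinatewise in the image
of a matrix is in the image of the matrix. -/
theorem exists_applyMat_eq [IsNoetherianRing R] (I : Ideal R) {l m : ℕ} (A : Fin l → Fin m → R)
    (x : Fin l → AdicCompletion I (α →₀ R))
    (h : ∀ n, ∃ v : Fin l → (α →₀ R), (∀ i, (x i).val n = Submodule.Quotient.mk (v i)) ∧
      ∀ a, ∃ u : Fin m → R, ∀ i, coords v a i - applyMat A u i ∈ I ^ n) :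
    ∃ y : Fin m → AdicCompletion I (α →₀ R), applyMat A y = x := by
  classical
  obtain ⟨c, hc⟩ := exists_artinRees I A
  -- levelwise preimages
  have hw : ∀ n, ∃ w : Fin m → (α →₀ R),
      ∀ i, (x i).val n = Submodule.Quotient.mk (applyMat A w i) := by
    intro n
    obtain ⟨v, hv, hu⟩ := h n
    choose u hu using hu
    let D := Finset.univ.biUnion fun i => (v i).support
    let w : Fin m → (α →₀ R) := fun j => ∑ a ∈ D, Finsupp.single a (u a j)
    refine ⟨w, fun i => ?_⟩
    rw [hv i, Submodule.Quotient.eq, mem_smul_top_iff]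
    intro b
    have hb2 : ∀ j, w j b = if b ∈ D then u b j else 0 := fun j => by
      simp [w, Finsupp.single_apply]
    show v i b - (∑ j, A i j • w j) b ∈ I ^ n
    by_cases hb : b ∈ D
    · have := hu b i
      simpa [applyMat, coords, hb2, hb] using this
    · have : v i b = 0 := Finsupp.notMem_support_iff.mp fun hs =>
        hb (Finset.mem_biUnion.mpr ⟨i, Finset.mem_univ i, hs⟩)
      simp [hb2, hb, this]
  choose w hw using hw
  -- correct them to a Cauchy sequence
  have step : ∀ n (p : Fin m → (α →₀ R)), (∀ i, (x i).val (n + c) = Submodule.Quotient.mk (applyMat A p i)) →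
      ∃ p' : Fin m → (α →₀ R), (∀ j, p' j - p j ∈ (I ^ n • ⊤ : Submodule R (α →₀ R))) ∧
        ∀ i, (x i).val (n + 1 + c) = Submodule.Quotient.mk (applyMat A p' i) := by
    intro n p hp
    let d : Fin m → (α →₀ R) := fun j => w (n + 1 + c) j - p j
    have hd : ∀ i, applyMat A d i ∈ (I ^ (n + c) • ⊤ : Submodule R (α →₀ R)) := by
      intro i
      have h1 : (x i).val (n + c) = Submodule.Quotient.mk (applyMat A (w (n + 1 + c)) i) := by
        rw [← (x i).property (show n + c ≤ n + 1 + c by omega), hw]; rfl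
      rw [show applyMat A d i = applyMat A (w (n + 1 + c)) i - applyMat A p i by
        simp [applyMat, d, smul_sub, Finset.sum_sub_distrib]]
      rw [← Submodule.Quotient.eq, ← h1, ← hp]
    obtain ⟨e, he, hee⟩ := exists_preimage_coordwise A (I ^ n) (applyMat A d) fun a => by
      obtain ⟨u', h1, h2⟩ := hc n (coords d a) (fun i => by
        rw [← coords_applyMat]; exact (mem_smul_top_iff _ _).mp (hd i) a)
      exact ⟨u', h1, by rw [h2, coords_applyMat]⟩
    refine ⟨fun j => p j + e j, fun j => by simpa using he j, fun i => ?_⟩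
    rw [hw (n + 1 + c) i]
    congr 1
    have := congrFun hee i
    simp only [applyMat, d, smul_sub, Finset.sum_sub_distrib, smul_add, Finset.sum_add_distrib] at this ⊢
    rw [this, add_sub_cancel]
  choose nx hnx1 hnx2 using step
  let P : (n : ℕ) → {p : Fin m → (α →₀ R) //
      ∀ i, (x i).val (n + c) = Submodule.Quotient.mk (applyMat A p i)} := fun n =>
    Nat.rec ⟨w (0 + c), hw (0 + c)⟩ (fun n p => ⟨nx n p.1 p.2, hnx2 n p.1 p.2⟩) n
  let y : Fin m → AdicCompletion I (α →₀ R) := fun j =>
    AdicCompletion.mk I _ (AdicCompletion.AdicCauchySequence.mk I _ (fun n => (P n).1 j) fun n => by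
      rw [SModEq.sub_mem, ← neg_mem_iff, neg_sub]
      exact hnx1 n (P n).1 (P n).2 j)
  refine ⟨y, funext fun i => AdicCompletion.ext fun n => ?_⟩
  rw [val_applyMat I A y (P n).1 n (fun j => rfl) i, ← (x i).property (show n ≤ n + c by omega),
    (P n).2 i]
  rfl

theorem flat_adicCompletion_finsupp [IsNoetherianRing R] (I : Ideal R) :
    Module.Flat R (AdicCompletion I (α →₀ R)) := by
  classical
  refine Module.Flat.of_forall_isTrivialRelation fun {l f x} hfx => ?_
  -- generators of the syzygies of `f`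
  let φ : (Fin l → R) →ₗ[R] R := Fintype.linearCombination R f
  obtain ⟨m, g, hg⟩ := Submodule.fg_iff_exists_fin_generating_family.mp
    (IsNoetherian.noetherian (LinearMap.ker φ))
  let A : Fin l → Fin m → R := fun i j => g j i
  obtain ⟨c, hc⟩ := exists_artinRees I (fun (_ : Fin 1) (i : Fin l) => f i)
  obtain ⟨y, hy⟩ := exists_applyMat_eq I A x fun n => by
    choose v hv using fun i => Submodule.Quotient.mk_surjective _ ((x i).val (n + c))
    refine ⟨v, fun i => by rw [← (x i).property (Nat.le_add_right n c), ← hv i]; rfl, fun a => ?_⟩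
    have h0 : (applyMat (fun (_ : Fin 1) (i : Fin l) => f i) v 0) ∈
        (I ^ (n + c) • ⊤ : Submodule R (α →₀ R)) := by
      have h1 := val_applyMat I (fun (_ : Fin 1) (i : Fin l) => f i) x v (n + c)
        (fun i => (hv i).symm) 0
      rw [show applyMat (fun (_ : Fin 1) (i : Fin l) => f i) x 0 = 0 from hfx] at h1
      exact (Submodule.Quotient.mk_eq_zero _).mp h1.symm
    obtain ⟨u', hu', hu''⟩ := hc n (coords v a) fun i => by
      rw [← coords_applyMat]
      show (applyMat _ v i) a ∈ _
      rw [Subsingleton.elim i 0]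
      exact (mem_smul_top_iff _ _).mp h0 a
    have hk : coords v a - u' ∈ LinearMap.ker φ := by
      have := congrFun hu'' 0
      simp only [applyMat, smul_eq_mul] at this
      simp [φ, Fintype.linearCombination_apply, mul_sub, Finset.sum_sub_distrib, mul_comm _ (f _), this]
    rw [← hg, Submodule.mem_span_range_iff_exists_fun] at hk
    obtain ⟨u, hu⟩ := hk
    refine ⟨u, fun i => ?_⟩
    have h3 : applyMat A u i = coords v a i - u' i := by
      have := congrFun hu i
      simpa [applyMat, A, mul_comm] using this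
    rw [h3, sub_sub_cancel]
    exact hu' i
  refine ⟨m, A, y, fun i => (congrFun hy i).symm, fun j => ?_⟩
  have : φ (g j) = 0 := LinearMap.mem_ker.mp (hg ▸ Submodule.subset_span ⟨j, rfl⟩)
  simpa [φ, Fintype.linearCombination_apply, A, mul_comm] using this

end coordinatewise

/-- Splittings modulo all powers give a splitting. -/
theorem split_of_split_mod_powers {M N : Type u} [IsNoetherianRing R] (I : Ideal R)
    (hI : I ≤ (⊥ : Ideal R).jacobson) [AddCommGroup M] [Module R M] [Module.Finite R M]
    [AddCommGroup N] [Module R N] [Module.Finite R N] (u : N →ₗ[R] M)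
    (h : ∀ n₀ : ℕ, ∃ n, n₀ ≤ n ∧ ∃ s : (M ⧸ (I ^ n) • (⊤ : Submodule R M)) →ₗ[R]
      (N ⧸ (I ^ n) • (⊤ : Submodule R N)),
      ∀ x : N, s (Submodule.Quotient.mk (u x)) = Submodule.Quotient.mk x) :
    ∃ s : M →ₗ[R] N, s.comp u = LinearMap.id := by
  classical
  obtain ⟨a, π, hπ⟩ := Module.Finite.exists_fin' R M
  obtain ⟨b, v, hv⟩ := Submodule.fg_iff_exists_fin_generating_family.mp
    (IsNoetherian.noetherian (LinearMap.ker π))
  let φ : (Fin a → N) →ₗ[R] (Fin b → N) :=
    { toFun := fun w j => ∑ i, v j i • w i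
      map_add' := fun x y => funext fun j => by simp [smul_add, Finset.sum_add_distrib]
      map_smul' := fun r x => funext fun j => by simp [Finset.smul_sum, smul_comm r] }
  obtain ⟨r, q, hq⟩ := Module.Finite.exists_fin' R N
  let j : (N →ₗ[R] N) →ₗ[R] (Fin r → N) :=
    LinearMap.pi fun i => LinearMap.applyₗ (q (Pi.single i 1))
  have hj : Function.Injective j := fun f g hfg => by
    refine (LinearMap.cancel_right hq).mp (LinearMap.pi_ext' fun i => LinearMap.ext_ring ?_)
    exact congrFun hfg i
  obtain ⟨c, hc⟩ := Ideal.exists_pow_inf_eq_pow_smul I (LinearMap.range φ)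
  obtain ⟨c', hc'⟩ := Ideal.exists_pow_inf_eq_pow_smul I (LinearMap.range j)
  let P : Submodule R (N →ₗ[R] N) := LinearMap.range (LinearMap.lcomp R N u)
  have : Module.Finite R (N →ₗ[R] N) := Module.Finite.of_injective j hj
  have key : ∀ k : ℕ, (LinearMap.id : N →ₗ[R] N) ∈ P ⊔ I ^ k • ⊤ := by
    intro k
    obtain ⟨n, hn, s, hs⟩ := h (k + c' + c)
    choose t₀ ht₀ using fun i => Submodule.Quotient.mk_surjective _
      (s (Submodule.Quotient.mk (π (Pi.single i 1))))
    let T : (Fin a → R) →ₗ[R] N := Fintype.linearCombination R t₀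
    have hT : ∀ w, (Submodule.Quotient.mk (T w) : N ⧸ (I ^ n • ⊤ : Submodule R N)) =
        s (Submodule.Quotient.mk (π w)) := fun w => by
      have : (Submodule.mkQ (I ^ n • ⊤ : Submodule R N)) ∘ₗ T =
          s ∘ₗ Submodule.mkQ _ ∘ₗ π := LinearMap.pi_ext' fun i => LinearMap.ext_ring (by
        simp [T, Fintype.linearCombination_apply_single, ht₀])
      exact LinearMap.congr_fun this w
    have hvT : φ t₀ ∈ I ^ n • ⊤ ⊓ LinearMap.range φ := by
      refine ⟨?_, ⟨t₀, rfl⟩⟩
      have hcomp : ∀ jj, φ t₀ jj ∈ (I ^ n • ⊤ : Submodule R N) := fun jj => by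
        rw [← Submodule.Quotient.mk_eq_zero]
        have h0 : π (v jj) = 0 := LinearMap.mem_ker.mp (hv ▸ Submodule.subset_span ⟨jj, rfl⟩)
        have := hT (v jj)
        rw [h0, Submodule.Quotient.mk_zero, map_zero] at this
        simpa [T, φ, Fintype.linearCombination_apply] using this
      show φ t₀ ∈ (I ^ n • ⊤ : Submodule R (Fin b → N))
      rw [show φ t₀ = ∑ jj, LinearMap.single R (fun _ : Fin b => N) jj (φ t₀ jj) from
        (Finset.univ_sum_single (φ t₀)).symm]
      refine Submodule.sum_mem _ fun jj _ => ?_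
      have hm := Submodule.mem_map_of_mem (f := LinearMap.single R (fun _ : Fin b => N) jj) (hcomp jj)
      rw [Submodule.map_smul''] at hm
      exact Submodule.smul_mono le_rfl le_top hm
    rw [hc n (by omega)] at hvT
    have h2 : φ t₀ ∈ (I ^ (n - c) • ⊤ : Submodule R (Fin a → N)).map φ := by
      rw [Submodule.map_smul'', Submodule.map_top]
      exact Submodule.smul_mono le_rfl inf_le_right hvT
    obtain ⟨δ, hδ, hδe⟩ := h2
    let T' : (Fin a → R) →ₗ[R] N := Fintype.linearCombination R (t₀ - δ)
    have hker : LinearMap.ker π ≤ LinearMap.ker T' := by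
      rw [← hv, Submodule.span_le]
      rintro _ ⟨jj, rfl⟩
      have := congrFun hδe jj
      simp only [φ, LinearMap.coe_mk, AddHom.coe_mk] at this
      simp [T', Fintype.linearCombination_apply, smul_sub, Finset.sum_sub_distrib, this]
    let s' : M →ₗ[R] N := (LinearMap.ker π).liftQ T' hker ∘ₗ
      (π.quotKerEquivOfSurjective hπ).symm.toLinearMap
    have hs' : ∀ w, s' (π w) = T' w := fun w => by
      show (LinearMap.ker π).liftQ T' hker ((π.quotKerEquivOfSurjective hπ).symm (π w)) = T' w
      rw [show (π.quotKerEquivOfSurjective hπ).symm (π w) = Submodule.Quotient.mk w from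
        (π.quotKerEquivOfSurjective hπ).symm_apply_eq.mpr rfl]
      rfl
    have hmod : ∀ x : N, (LinearMap.id - s' ∘ₗ u : N →ₗ[R] N) x ∈ (I ^ (n - c) • ⊤ : Submodule R N) := by
      intro x
      obtain ⟨w, hw⟩ := hπ (u x)
      have h3 : x - T w ∈ (I ^ (n - c) • ⊤ : Submodule R N) := by
        refine Submodule.smul_mono_left (Ideal.pow_le_pow_right (Nat.sub_le n c)) ?_
        rw [← Submodule.Quotient.eq, hT, hw, hs]
      have h4 : T w - T' w ∈ (I ^ (n - c) • ⊤ : Submodule R N) := by
        simp only [T, T', Fintype.linearCombination_apply, Pi.sub_apply, smul_sub,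
          Finset.sum_sub_distrib, sub_sub_cancel]
        refine Submodule.sum_mem _ fun i _ => Submodule.smul_mem _ _ ?_
        have hm := Submodule.mem_map_of_mem (f := LinearMap.proj i) hδ
        rw [Submodule.map_smul''] at hm
        exact Submodule.smul_mono le_rfl le_top hm
      have := add_mem h3 h4
      simpa [← hw, hs'] using this
    have hH : (LinearMap.id - s' ∘ₗ u : N →ₗ[R] N) ∈ (I ^ k • ⊤ : Submodule R (N →ₗ[R] N)) := by
      have hjm : j (LinearMap.id - s' ∘ₗ u) ∈ I ^ (n - c) • ⊤ ⊓ LinearMap.range j := by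
        refine ⟨?_, ⟨_, rfl⟩⟩
        show j _ ∈ (I ^ (n - c) • ⊤ : Submodule R (Fin r → N))
        rw [show j (LinearMap.id - s' ∘ₗ u) = ∑ i, LinearMap.single R (fun _ : Fin r => N) i
          ((LinearMap.id - s' ∘ₗ u : N →ₗ[R] N) (q (Pi.single i 1))) from
          (Finset.univ_sum_single (j (LinearMap.id - s' ∘ₗ u))).symm]
        refine Submodule.sum_mem _ fun i _ => ?_
        have hm := Submodule.mem_map_of_mem (f := LinearMap.single R (fun _ : Fin r => N) i)
          (hmod (q (Pi.single i 1)))
        rw [Submodule.map_smul''] at hm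
        exact Submodule.smul_mono le_rfl le_top hm
      rw [hc' (n - c) (by omega)] at hjm
      have : j (LinearMap.id - s' ∘ₗ u) ∈ (I ^ k • ⊤ : Submodule R (N →ₗ[R] N)).map j := by
        rw [Submodule.map_smul'', Submodule.map_top]
        exact Submodule.smul_mono (Ideal.pow_le_pow_right (by omega)) inf_le_right hjm
      obtain ⟨z, hz, hze⟩ := this
      exact hj hze ▸ hz
    rw [← add_sub_cancel (s' ∘ₗ u) LinearMap.id]
    exact add_mem (Submodule.mem_sup_left ⟨s', rfl⟩) (Submodule.mem_sup_right hH)
  have : IsHausdorff I ((N →ₗ[R] N) ⧸ P) := IsHausdorff.of_le_jacobson I _ hI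
  have hid : P.mkQ LinearMap.id = 0 := this.haus _ fun k => by
    rw [SModEq.zero]
    have hm := Submodule.mem_map_of_mem (f := P.mkQ) (key k)
    rwa [Submodule.map_sup, Submodule.mkQ_map_self, bot_sup_eq, Submodule.map_smul'',
      Submodule.map_top, Submodule.range_mkQ] at hm
  obtain ⟨s, hs⟩ := (Submodule.Quotient.mk_eq_zero P).mp hid
  exact ⟨s, hs⟩

theorem universallyInjective_completion_to_pi [IsNoetherianRing R] (I : Ideal R) (α : Type u) :
    ∀ (n m : ℕ) (x : Fin n → AdicCompletion I (α →₀ R)) (y : Fin m → (α → AdicCompletion I R))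
      (a : Fin n → Fin m → R),
      (∀ i, (LinearMap.pi fun b : α => AdicCompletion.map I (Finsupp.lapply b : (α →₀ R) →ₗ[R] R) :
        AdicCompletion I (α →₀ R) →ₗ[R] (α → AdicCompletion I R)) (x i) = ∑ j, a i j • y j) →
      ∃ z : Fin m → AdicCompletion I (α →₀ R), ∀ i, x i = ∑ j, a i j • z j := by
  intro n m x y a h
  obtain ⟨z, hz⟩ := exists_applyMat_eq I a x fun k => by
    choose v hv using fun i => Submodule.Quotient.mk_surjective _ ((x i).val k)
    refine ⟨v, fun i => (hv i).symm, fun b => ?_⟩
    choose u hu using fun j => Submodule.Quotient.mk_surjective _ ((y j b).val k)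
    refine ⟨u, fun i => ?_⟩
    have h1 := congrArg (fun z : AdicCompletion I R => AdicCompletion.eval I R k z) (congrFun (h i) b)
    have h2 : (Submodule.Quotient.mk (coords v b i - applyMat a u i) :
        R ⧸ (I ^ k • ⊤ : Submodule R R)) = 0 := by
      rw [Submodule.Quotient.mk_sub, sub_eq_zero]
      have e1 : AdicCompletion.eval I R k
          ((AdicCompletion.map I (Finsupp.lapply b : (α →₀ R) →ₗ[R] R) :
            AdicCompletion I (α →₀ R) →ₗ[R] AdicCompletion I R) (x i)) =
          Submodule.Quotient.mk (coords v b i) := by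
        show (AdicCompletion.map I (Finsupp.lapply b : (α →₀ R) →ₗ[R] R) (x i)).val k = _
        rw [AdicCompletion.map_val_apply, ← hv i]; rfl
      rw [Finset.sum_apply, map_sum] at h1
      refine (e1.symm.trans h1).trans ?_
      show _ = Submodule.mkQ (I ^ k • ⊤ : Submodule R R) (∑ j, a i j • u j)
      rw [map_sum]
      exact Finset.sum_congr rfl fun j _ => by
        rw [Pi.smul_apply, map_smul, map_smul, AdicCompletion.eval_apply, ← hu j]; rfl
    rw [Submodule.Quotient.mk_eq_zero, smul_eq_mul, Ideal.mul_top] at h2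
    exact h2
  exact ⟨z, fun i => (congrFun hz i).symm⟩

end Groth.Calg1
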