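import Mathlib

/-! A complete module all of whose levels are flat over a Noetherian ring is flat. -/

set_option autoImplicit false
universe u v

namespace Groth.Calg1.CompleteFlat

variable {A : Type u} [CommRing A] (𝔞 : Ideal A) (P : Type v) [AddCommGroup P] [Module A P]

/-- Every level `P/𝔞^n P` satisfies the equational criterion over `A/𝔞^n`. -/
def LevelFlat : Prop :=
  ∀ (n k : ℕ) (a : Fin k → A) (z : Fin k → P), ∑ i, a i • z i ∈ (𝔞 ^ n • ⊤ : Submodule A P) →
    ∃ (k' : ℕ) (b : Fin k → Fin k' → A) (w : Fin k' → P),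
      (∀ i, z i - ∑ j, b i j • w j ∈ (𝔞 ^ n • ⊤ : Submodule A P)) ∧
        ∀ j, ∑ i, a i * b i j ∈ 𝔞 ^ n

variable {𝔞 P}

theorem levels_decompose (h : LevelFlat 𝔞 P) (N : ℕ) {l l' : ℕ} (F : Fin l' → Fin l → A)
    (z : Fin l → P) (hz : ∀ p, ∑ i, F p i • z i ∈ (𝔞 ^ N • ⊤ : Submodule A P)) :
    ∃ (k : ℕ) (a : Fin l → Fin k → A) (w : Fin k → P),
      (∀ i, z i - ∑ j, a i j • w j ∈ (𝔞 ^ N • ⊤ : Submodule A P)) ∧
        ∀ p j, ∑ i, F p i * a i j ∈ 𝔞 ^ N := by
  suffices hP : ∀ T : Finset (Fin l'), ∃ (k : ℕ) (a : Fin l → Fin k → A) (w : Fin k → P),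
      (∀ i, z i - ∑ j, a i j • w j ∈ (𝔞 ^ N • ⊤ : Submodule A P)) ∧
        ∀ p ∈ T, ∀ j, ∑ i, F p i * a i j ∈ 𝔞 ^ N by
    obtain ⟨k, a, w, h1, h2⟩ := hP Finset.univ
    exact ⟨k, a, w, h1, fun p => h2 p (Finset.mem_univ p)⟩
  intro T
  induction T using Finset.induction with
  | empty =>
    refine ⟨l, fun i j => if i = j then 1 else 0, z, fun i => ?_,
      fun p hp => absurd hp (Finset.notMem_empty p)⟩
    simp
  | insert q T hq ih =>
    obtain ⟨k, a, w, h1, h2⟩ := ih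
    have hrel : ∑ j, (∑ i, F q i * a i j) • w j ∈ (𝔞 ^ N • ⊤ : Submodule A P) := by
      have hd : ∑ i, F q i • (z i - ∑ j, a i j • w j) ∈ (𝔞 ^ N • ⊤ : Submodule A P) :=
        Submodule.sum_mem _ fun i _ => Submodule.smul_mem _ _ (h1 i)
      have hsub := Submodule.sub_mem _ (hz q) hd
      have hcomm : ∑ j, (∑ i, F q i * a i j) • w j = ∑ i, F q i • ∑ j, a i j • w j := by
        simp only [Finset.sum_smul, Finset.smul_sum, mul_smul]
        exact Finset.sum_comm
      rw [hcomm]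
      convert hsub using 1
      simp only [smul_sub, Finset.sum_sub_distrib, sub_sub_cancel]
    obtain ⟨k', b, w', hw', hb⟩ := h N k _ w hrel
    refine ⟨k', fun i j' => ∑ j, a i j * b j j', w', fun i => ?_, fun p hp j' => ?_⟩
    · have hd : ∑ j, a i j • (w j - ∑ j', b j j' • w' j') ∈ (𝔞 ^ N • ⊤ : Submodule A P) :=
        Submodule.sum_mem _ fun j _ => Submodule.smul_mem _ _ (hw' j)
      have hcomm : ∑ j', (∑ j, a i j * b j j') • w' j' = ∑ j, a i j • ∑ j', b j j' • w' j' := by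
        simp only [Finset.sum_smul, Finset.smul_sum, mul_smul]
        exact Finset.sum_comm
      convert Submodule.add_mem _ (h1 i) hd using 1
      simp only [smul_sub, Finset.sum_sub_distrib, hcomm]
      abel
    · have hcomm : ∑ i, F p i * ∑ j, a i j * b j j' = ∑ j, (∑ i, F p i * a i j) * b j j' := by
        simp only [Finset.mul_sum, Finset.sum_mul, mul_assoc]
        exact Finset.sum_comm
      rw [hcomm]
      rcases Finset.mem_insert.mp hp with rfl | hp
      · exact hb j'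
      · exact Ideal.sum_mem _ fun j _ => Ideal.mul_mem_right _ _ (h2 p hp j)

theorem pi_mem_pow_smul_top {l : ℕ} {n : ℕ} {v : Fin l → A}
    (hv : v ∈ (𝔞 ^ n • ⊤ : Submodule A (Fin l → A))) (i : Fin l) : v i ∈ 𝔞 ^ n := by
  refine Submodule.smul_induction_on hv (fun r hr x _ => ?_) (fun x y hx hy => ?_)
  · exact Ideal.mul_mem_right _ _ hr
  · exact Ideal.add_mem _ hx hy

theorem mem_pow_smul_top_pi {l : ℕ} {n : ℕ} {v : Fin l → A} (hv : ∀ i, v i ∈ 𝔞 ^ n) :
    v ∈ (𝔞 ^ n • ⊤ : Submodule A (Fin l → A)) := by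
  classical
  have h := pi_eq_sum_univ v
  rw [h]
  exact Submodule.sum_mem _ fun i _ => Submodule.smul_mem_smul (hv i) Submodule.mem_top

/-- Approximate lifting of relations. -/
theorem exists_lift_const [IsNoetherianRing A] (h : LevelFlat 𝔞 P) {l l' m : ℕ}
    (F : Fin l' → Fin l → A) (r : Fin m → Fin l → A)
    (hgen : ∀ v : Fin l → A, (∀ p, ∑ i, F p i * v i = 0) →
      ∃ c : Fin m → A, ∀ i, v i = ∑ j, c j * r j i) :
    ∃ c : ℕ, ∀ (n : ℕ) (z : Fin l → P),
      (∀ p, ∑ i, F p i • z i ∈ (𝔞 ^ (n + c) • ⊤ : Submodule A P)) →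
        ∃ y : Fin m → P, ∀ i, z i - ∑ j, r j i • y j ∈ (𝔞 ^ n • ⊤ : Submodule A P) := by
  let φ : (Fin l → A) →ₗ[A] (Fin l' → A) :=
    LinearMap.pi fun p => ∑ i, F p i • LinearMap.proj i
  have hφ : ∀ v p, φ v p = ∑ i, F p i * v i := fun v p => by simp [φ, LinearMap.sum_apply]
  obtain ⟨c, hc⟩ := Ideal.exists_pow_inf_eq_pow_smul 𝔞 (LinearMap.range φ)
  refine ⟨c, fun n z hz => ?_⟩
  obtain ⟨k, a, w, h1, h2⟩ := levels_decompose h (n + c) F z hz
  have key : ∀ j, ∃ (e : Fin l → A) (d : Fin m → A),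
      (∀ i, e i ∈ 𝔞 ^ n) ∧ ∀ i, a i j = e i + ∑ q, d q * r q i := by
    intro j
    let v : Fin l → A := fun i => a i j
    have hv : φ v ∈ (𝔞 ^ (n + c) • ⊤ : Submodule A (Fin l' → A)) ⊓ LinearMap.range φ :=
      ⟨mem_pow_smul_top_pi fun p => by rw [hφ]; exact h2 p j, v, rfl⟩
    rw [hc (n + c) (by omega), Nat.add_sub_cancel] at hv
    have hle : 𝔞 ^ n • ((𝔞 ^ c • ⊤ : Submodule A (Fin l' → A)) ⊓ LinearMap.range φ) ≤
        Submodule.map φ (𝔞 ^ n • ⊤) := by
      rw [Submodule.map_smul'', Submodule.map_top]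
      exact Submodule.smul_mono le_rfl inf_le_right
    obtain ⟨e, he, heq⟩ := hle hv
    have hker : ∀ p, ∑ i, F p i * (v - e) i = 0 := fun p => by
      rw [← hφ, map_sub, heq, sub_self]; rfl
    obtain ⟨d, hd⟩ := hgen _ hker
    exact ⟨e, d, fun i => pi_mem_pow_smul_top he i, fun i => by
      rw [← hd i]; exact (add_sub_cancel (e i) (v i)).symm⟩
  choose e d he hed using key
  refine ⟨fun q => ∑ j, d j q • w j, fun i => ?_⟩
  have hle : (𝔞 ^ (n + c) • ⊤ : Submodule A P) ≤ 𝔞 ^ n • ⊤ :=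
    Submodule.smul_mono_left (Ideal.pow_le_pow_right (by omega))
  have h3 : ∑ j, e j i • w j ∈ (𝔞 ^ n • ⊤ : Submodule A P) :=
    Submodule.sum_mem _ fun j _ => Submodule.smul_mem_smul (he j i) Submodule.mem_top
  convert Submodule.add_mem _ (hle (h1 i)) h3 using 1
  have hcomm : ∑ q, r q i • ∑ j, d j q • w j = ∑ j, (∑ q, d j q * r q i) • w j := by
    simp only [Finset.smul_sum, Finset.sum_smul, smul_smul]
    rw [Finset.sum_comm]
    exact Finset.sum_congr rfl fun j _ => Finset.sum_congr rfl fun q _ => by rw [mul_comm]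
  rw [hcomm]
  simp only [hed, add_smul, Finset.sum_add_distrib]
  abel

theorem flat_of_levelFlat [IsNoetherianRing A] [IsAdicComplete 𝔞 P] (h : LevelFlat 𝔞 P) :
    Module.Flat A P := by
  refine Module.Flat.of_forall_isTrivialRelation fun {l f x} hx => ?_
  -- relations of `f`
  let φ : (Fin l → A) →ₗ[A] A := ∑ i, f i • LinearMap.proj i
  have hφ : ∀ v, φ v = ∑ i, f i * v i := fun v => by simp [φ, LinearMap.sum_apply]
  obtain ⟨m, r, hr⟩ :=
    Submodule.fg_iff_exists_fin_generating_family.mp (IsNoetherian.noetherian (LinearMap.ker φ))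
  have hr0 : ∀ j, ∑ i, f i * r j i = 0 := fun j => by
    have hj : r j ∈ LinearMap.ker φ := hr ▸ Submodule.subset_span ⟨j, rfl⟩
    rw [← hφ]; exact hj
  have hgen : ∀ v : Fin l → A, (∀ _ : Fin 1, ∑ i, f i * v i = 0) →
      ∃ c : Fin m → A, ∀ i, v i = ∑ j, c j * r j i := by
    intro v hv
    have hv' : v ∈ Submodule.span A (Set.range r) := by
      rw [hr, LinearMap.mem_ker, hφ]; exact hv 0
    obtain ⟨c, hc⟩ := (Submodule.mem_span_range_iff_exists_fun A).mp hv'
    exact ⟨c, fun i => by rw [← hc]; simp [Finset.sum_apply]⟩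
  -- relations of `r`
  let ψ : (Fin m → A) →ₗ[A] (Fin l → A) := Fintype.linearCombination A r
  have hψ : ∀ v i, ψ v i = ∑ j, r j i * v j := fun v i => by
    simp [ψ, Fintype.linearCombination_apply, Finset.sum_apply, mul_comm]
  obtain ⟨m', s, hs⟩ :=
    Submodule.fg_iff_exists_fin_generating_family.mp (IsNoetherian.noetherian (LinearMap.ker ψ))
  have hs0 : ∀ p i, ∑ j, r j i * s p j = 0 := fun p i => by
    have hp : s p ∈ LinearMap.ker ψ := hs ▸ Submodule.subset_span ⟨p, rfl⟩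
    rw [← hψ, LinearMap.mem_ker.mp hp]; rfl
  have hgen' : ∀ v : Fin m → A, (∀ i, ∑ j, r j i * v j = 0) →
      ∃ c : Fin m' → A, ∀ j, v j = ∑ p, c p * s p j := by
    intro v hv
    have hv' : v ∈ Submodule.span A (Set.range s) := by
      rw [hs, LinearMap.mem_ker]; ext i; rw [hψ]; exact hv i
    obtain ⟨c, hc⟩ := (Submodule.mem_span_range_iff_exists_fun A).mp hv'
    exact ⟨c, fun j => by rw [← hc]; simp [Finset.sum_apply]⟩
  obtain ⟨c, hc⟩ := exists_lift_const h (fun _ : Fin 1 => f) r hgen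
  obtain ⟨c', hc'⟩ := exists_lift_const h (fun i j => r j i) s hgen'
  choose y hy using fun n => hc (n + c') x fun _ => by rw [hx]; exact zero_mem _
  have hd : ∀ n, ∀ i, ∑ j, r j i • (y (n + 1) j - y n j) ∈
      (𝔞 ^ (n + c') • ⊤ : Submodule A P) := by
    intro n i
    have h1 : (𝔞 ^ (n + 1 + c') • ⊤ : Submodule A P) ≤ 𝔞 ^ (n + c') • ⊤ :=
      Submodule.smul_mono_left (Ideal.pow_le_pow_right (by omega))
    convert Submodule.sub_mem _ (hy n i) (h1 (hy (n + 1) i)) using 1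
    simp only [smul_sub, Finset.sum_sub_distrib]
    abel
  choose w hw using fun n => hc' n (fun j => y (n + 1) j - y n j) (hd n)
  let W : ℕ → Fin m' → P := fun n p => ∑ t ∈ Finset.range n, w t p
  let Y : ℕ → Fin m → P := fun n j => y n j - ∑ p, s p j • W n p
  have hYsucc : ∀ n j, Y (n + 1) j - Y n j ∈ (𝔞 ^ n • ⊤ : Submodule A P) := by
    intro n j
    convert hw n j using 1
    simp only [Y, W, Finset.sum_range_succ, smul_add, Finset.sum_add_distrib]
    abel
  have hYx : ∀ n i, x i - ∑ j, r j i • Y n j ∈ (𝔞 ^ n • ⊤ : Submodule A P) := by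
    intro n i
    have h1 : (𝔞 ^ (n + c') • ⊤ : Submodule A P) ≤ 𝔞 ^ n • ⊤ :=
      Submodule.smul_mono_left (Ideal.pow_le_pow_right (by omega))
    convert h1 (hy n i) using 1
    have h0 : ∑ j, r j i • ∑ p, s p j • W n p = 0 := by
      simp only [Finset.smul_sum, smul_smul]
      rw [Finset.sum_comm]
      refine Finset.sum_eq_zero fun p _ => ?_
      rw [← Finset.sum_smul, hs0, zero_smul]
    simp only [Y, smul_sub, Finset.sum_sub_distrib, h0, sub_zero]
  have hcauchy : ∀ j, ∀ {a b : ℕ}, a ≤ b → Y a j ≡ Y b j [SMOD (𝔞 ^ a • ⊤ : Submodule A P)] := by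
    intro j a b hab
    induction b, hab using Nat.le_induction with
    | base => exact SModEq.rfl
    | succ b hab ih =>
      refine ih.trans (SModEq.sub_mem.mpr ?_)
      have h1 : (𝔞 ^ b • ⊤ : Submodule A P) ≤ 𝔞 ^ a • ⊤ :=
        Submodule.smul_mono_left (Ideal.pow_le_pow_right hab)
      rw [← neg_sub]
      exact Submodule.neg_mem _ (h1 (hYsucc b j))
  choose L hL using fun j => IsPrecomplete.prec (I := 𝔞) (M := P) inferInstance (hcauchy j)
  refine ⟨m, fun i j => r j i, L, fun i => ?_, fun j => hr0 j⟩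
  rw [← sub_eq_zero]
  refine IsHausdorff.haus (I := 𝔞) inferInstance _ fun n => SModEq.zero.mpr ?_
  have h1 : ∑ j, r j i • (Y n j - L j) ∈ (𝔞 ^ n • ⊤ : Submodule A P) :=
    Submodule.sum_mem _ fun j _ => Submodule.smul_mem _ _ (SModEq.sub_mem.mp (hL j n))
  convert Submodule.add_mem _ (hYx n i) h1 using 1
  simp only [smul_sub, Finset.sum_sub_distrib]
  abel

end Groth.Calg1.CompleteFlat
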