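import Mathlib

/-!
Étale neighbourhoods of `V(I)` from sections modulo `I`; lifting monic factorizations.
-/

set_option autoImplicit false
universe u

namespace Groth.Calg1

open Polynomial

theorem exists_etale_neighbourhood {A B : Type u} [CommRing A] [CommRing B] [Algebra A B]
    [Algebra.Etale A B] (I : Ideal A) (σ : B →ₐ[A] A ⧸ I) :
    ∃ (A' : Type u) (_ : CommRing A') (_ : Algebra A A'), Algebra.Etale A A' ∧
      Function.Bijective (algebraMap (A ⧸ I) (A' ⧸ I.map (algebraMap A A'))) ∧
      ∃ τ : B →ₐ[A] A', ∀ b : B,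
        Ideal.Quotient.mk (I.map (algebraMap A A')) (τ b) =
          algebraMap (A ⧸ I) (A' ⧸ I.map (algebraMap A A')) (σ b) := by
  classical
  let K : Ideal B := RingHom.ker σ.toRingHom
  let IB : Ideal B := I.map (algebraMap A B)
  have hIK : IB ≤ K := Ideal.map_le_iff_le_comap.mpr fun a ha => by
    show σ (algebraMap A B a) = 0
    rw [σ.commutes]; exact Ideal.Quotient.eq_zero_iff_mem.mpr ha
  -- `K = K ^ 2 + IB`
  have hK2 : K ≤ K * K ⊔ IB := by
    let L : Ideal B := K * K ⊔ IB
    have hIL : ∀ a ∈ I, algebraMap A (B ⧸ L) a = 0 := fun a ha =>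
      Ideal.Quotient.eq_zero_iff_mem.mpr (Ideal.mem_sup_right (Ideal.mem_map_of_mem _ ha))
    let g₂ : B →ₐ[A] B ⧸ L := (Ideal.Quotient.liftₐ I (Algebra.ofId A (B ⧸ L)) hIL).comp σ
    have hsq : K.map (Ideal.Quotient.mk L) ^ 2 = ⊥ := by
      rw [← Ideal.map_pow, pow_two]; exact Ideal.map_mk_eq_bot_of_le le_sup_left
    have : Ideal.Quotient.mkₐ A L = g₂ := by
      refine Algebra.FormallyUnramified.ext _ ⟨2, hsq⟩ fun b => ?_
      obtain ⟨a, ha⟩ := Ideal.Quotient.mk_surjective (σ b)
      have h2 : g₂ b = Ideal.Quotient.mk L (algebraMap A B a) := by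
        show Ideal.Quotient.liftₐ I _ hIL (σ b) = _
        rw [← ha]; rfl
      rw [Ideal.Quotient.mkₐ_eq_mk, h2, Ideal.Quotient.eq, ← map_sub]
      refine Ideal.mem_map_of_mem _ ?_
      show σ (b - algebraMap A B a) = 0
      rw [map_sub, σ.commutes, ← ha]; exact sub_self _
    intro x hx
    refine Ideal.Quotient.eq_zero_iff_mem.mp ((AlgHom.congr_fun this x).trans ?_)
    show Ideal.Quotient.liftₐ I _ hIL (σ x) = 0
    rw [show σ x = 0 from hx, map_zero]
  -- `K / IB` is finitely generated
  obtain ⟨n, π, hπ⟩ := Algebra.FiniteType.iff_quotient_mvPolynomial''.mp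
    (inferInstance : Algebra.FiniteType A B)
  choose a ha using fun i => Ideal.Quotient.mk_surjective (σ (π (MvPolynomial.X i)))
  let K₀ : Ideal B := Ideal.span (Set.range fun i => π (MvPolynomial.X i) - algebraMap A B (a i))
  have hK₀ : K ≤ K₀ ⊔ IB := by
    intro x hx
    obtain ⟨p, rfl⟩ := hπ x
    have key : π p - algebraMap A B (MvPolynomial.eval a p) ∈ K₀ := by
      rw [← Ideal.Quotient.eq_zero_iff_mem, map_sub, sub_eq_zero]
      have : (Ideal.Quotient.mkₐ A K₀).comp π =
          (Algebra.ofId A (B ⧸ K₀)).comp (MvPolynomial.aeval a) := MvPolynomial.algHom_ext fun i => by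
        simp only [AlgHom.comp_apply, MvPolynomial.aeval_X, Ideal.Quotient.mkₐ_eq_mk]
        exact Ideal.Quotient.eq.mpr (Ideal.subset_span ⟨i, rfl⟩)
      have e := AlgHom.congr_fun this p
      rw [AlgHom.comp_apply, AlgHom.comp_apply] at e
      exact e
    have h1 : σ (algebraMap A B (MvPolynomial.eval a p)) = 0 := by
      have : σ (π p - algebraMap A B (MvPolynomial.eval a p)) = 0 := by
        have hle : K₀ ≤ K := Ideal.span_le.mpr (by
          rintro _ ⟨i, rfl⟩
          show σ (_ - _) = 0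
          rw [map_sub, σ.commutes, ← ha i]; exact sub_self _)
        exact hle key
      rw [map_sub, show σ (π p) = 0 from hx, zero_sub, neg_eq_zero] at this
      exact this
    rw [σ.commutes] at h1
    rw [← sub_add_cancel (π p) (algebraMap A B (MvPolynomial.eval a p))]
    exact add_mem (Ideal.mem_sup_left key)
      (Ideal.mem_sup_right (Ideal.mem_map_of_mem _ (Ideal.Quotient.eq_zero_iff_mem.mp h1)))
  let Kb : Ideal (B ⧸ IB) := K.map (Ideal.Quotient.mk IB)
  have hKb : Kb.FG := by
    have hle : K₀ ≤ K := Ideal.span_le.mpr (by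
      rintro _ ⟨i, rfl⟩
      show σ (_ - _) = 0
      rw [map_sub, σ.commutes, ← ha i]; exact sub_self _)
    have : Kb = K₀.map (Ideal.Quotient.mk IB) := by
      refine le_antisymm ?_ (Ideal.map_mono hle)
      refine (Ideal.map_mono hK₀).trans ?_
      rw [Ideal.map_sup, Ideal.map_quotient_self, sup_bot_eq]
    rw [this]; exact Ideal.FG.map (Submodule.fg_span (Set.finite_range _)) _
  obtain ⟨e, he, hKe⟩ := (Ideal.isIdempotentElem_iff_of_fg Kb hKb).mp (by
    refine le_antisymm Ideal.mul_le_left ?_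
    refine (Ideal.map_mono hK2).trans ?_
    rw [Ideal.map_sup, Ideal.map_quotient_self, sup_bot_eq, Ideal.map_mul])
  obtain ⟨e, rfl⟩ := Ideal.Quotient.mk_surjective e
  have heK : e ∈ K := by
    have : Ideal.Quotient.mk IB e ∈ Kb := hKe ▸ Ideal.mem_span_singleton_self _
    obtain ⟨x, hx, hxe⟩ := (Ideal.mem_map_iff_of_surjective _ Ideal.Quotient.mk_surjective).mp this
    have := K.sub_mem hx (hIK (Ideal.Quotient.eq.mp hxe))
    simpa using this
  let A' := Localization.Away (1 - e)
  let τ : B →ₐ[A] A' := IsScalarTower.toAlgHom A B A'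
  have : Algebra.Etale B A' := Algebra.Etale.of_isLocalizationAway (1 - e)
  refine ⟨A', inferInstance, inferInstance, Algebra.Etale.comp A B A', ?_, τ, ?_⟩
  all_goals
    have hu : IsUnit (σ (1 - e)) := by
      rw [map_sub, map_one, show σ e = 0 from heK, sub_zero]; exact isUnit_one
    let σ' : A' →+* A ⧸ I := IsLocalization.Away.lift (1 - e) (g := σ.toRingHom) hu
    have hker : ∀ x, σ' x = 0 → x ∈ I.map (algebraMap A A') := by
      intro x hx
      obtain ⟨b, ⟨s, hs⟩, rfl⟩ := IsLocalization.exists_mk'_eq (Submonoid.powers (1 - e)) x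
      have hb : b ∈ K := by
        have h1 := congrArg σ' (IsLocalization.mk'_spec A' b ⟨s, hs⟩)
        rw [map_mul, hx, zero_mul, IsLocalization.Away.lift_eq] at h1
        exact h1.symm
      have hmap : I.map (algebraMap A A') = IB.map (algebraMap B A') := by
        rw [Ideal.map_map, ← IsScalarTower.algebraMap_eq]
      rw [hmap, IsLocalization.mk'_eq_mul_mk'_one]
      refine Ideal.mul_mem_right _ _ ?_
      have : Ideal.Quotient.mk IB b ∈ Ideal.span {Ideal.Quotient.mk IB e} := by
        rw [← Ideal.submodule_span_eq, ← hKe]; exact Ideal.mem_map_of_mem _ hb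
      obtain ⟨c, hc⟩ := Ideal.mem_span_singleton'.mp this
      obtain ⟨c, rfl⟩ := Ideal.Quotient.mk_surjective c
      rw [← map_mul, Ideal.Quotient.eq] at hc
      have h2 : algebraMap B A' e ∈ IB.map (algebraMap B A') := by
        have h3 : algebraMap B A' ((1 - e) * e) ∈ IB.map (algebraMap B A') := by
          refine Ideal.mem_map_of_mem _ (Ideal.Quotient.eq_zero_iff_mem.mp ?_)
          rw [sub_mul, one_mul, map_sub, map_mul, he.eq, sub_self]
        rw [map_mul] at h3
        exact (Ideal.unit_mul_mem_iff_mem _ (IsLocalization.Away.algebraMap_isUnit _)).mp h3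
      have h4 := Ideal.mem_map_of_mem (algebraMap B A') hc
      rw [map_sub, map_mul] at h4
      simpa using Ideal.sub_mem _ (Ideal.mul_mem_left _ (algebraMap B A' c) h2) h4
    have hσ' : ∀ a : A, σ' (algebraMap A A' a) = Ideal.Quotient.mk I a := fun a => by
      rw [IsScalarTower.algebraMap_apply A B A', IsLocalization.Away.lift_eq]
      exact σ.commutes a
  · refine ⟨(injective_iff_map_eq_zero _).mpr fun x hx => ?_, fun y => ?_⟩
    · obtain ⟨a, rfl⟩ := Ideal.Quotient.mk_surjective x
      have hx' : algebraMap A A' a ∈ I.map (algebraMap A A') := Ideal.Quotient.eq_zero_iff_mem.mp hx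
      rw [← hσ' a]
      refine RingHom.mem_ker.mp ((Ideal.map_le_iff_le_comap.mpr fun c hc => ?_) hx')
      rw [Ideal.mem_comap, RingHom.mem_ker, hσ']; exact Ideal.Quotient.eq_zero_iff_mem.mpr hc
    · obtain ⟨x, rfl⟩ := Ideal.Quotient.mk_surjective y
      obtain ⟨a, ha⟩ := Ideal.Quotient.mk_surjective (σ' x)
      refine ⟨Ideal.Quotient.mk I a, ?_⟩
      show Ideal.Quotient.mk _ (algebraMap A A' a) = _
      exact Ideal.Quotient.eq.mpr (hker _ (by rw [map_sub, hσ', ha, sub_self]))
  · intro b
    obtain ⟨a, ha⟩ := Ideal.Quotient.mk_surjective (σ b)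
    rw [← ha]
    show _ = Ideal.Quotient.mk _ (algebraMap A A' a)
    refine Ideal.Quotient.eq.mpr (hker _ ?_)
    rw [map_sub, hσ', ha, show τ b = algebraMap B A' b from rfl, IsLocalization.Away.lift_eq]
    exact sub_self _

theorem exists_etale_lift_factorization_coprime {A : Type u} [CommRing A] (I : Ideal A) (f : A[X])
    (hf : f.Monic) (g h : (A ⧸ I)[X]) (hg : g.Monic) (hh : h.Monic) (hcop : IsCoprime g h)
    (hfgh : f.map (Ideal.Quotient.mk I) = g * h) :
    ∃ (A' : Type u) (_ : CommRing A') (_ : Algebra A A'), Algebra.Etale A A' ∧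
      Function.Bijective (algebraMap (A ⧸ I) (A' ⧸ I.map (algebraMap A A'))) ∧
      ∃ g' h' : A'[X], IsCoprime g' h' ∧ g'.Monic ∧ h'.Monic ∧ f.map (algebraMap A A') = g' * h' ∧
        g'.map (Ideal.Quotient.mk (I.map (algebraMap A A'))) =
          g.map (algebraMap (A ⧸ I) (A' ⧸ I.map (algebraMap A A'))) ∧
        h'.map (Ideal.Quotient.mk (I.map (algebraMap A A'))) =
          h.map (algebraMap (A ⧸ I) (A' ⧸ I.map (algebraMap A A'))) := by
  rcases subsingleton_or_nontrivial (A ⧸ I) with hs | hs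
  · let A' := Localization.Away (0 : A)
    have : Subsingleton A' := IsLocalization.subsingleton (M := Submonoid.powers (0 : A))
      (Submonoid.mem_powers 0)
    exact ⟨A', inferInstance, inferInstance, Algebra.Etale.of_isLocalizationAway (0 : A),
      ⟨fun a b _ => Subsingleton.elim a b, fun y => ⟨0, Subsingleton.elim _ _⟩⟩,
      1, 1, isCoprime_one_left, monic_one, monic_one, Subsingleton.elim _ _, Subsingleton.elim _ _,
      Subsingleton.elim _ _⟩
  · have : Nontrivial A := Function.Surjective.nontrivial (Ideal.Quotient.mk_surjective (I := I))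
    have hn : f.natDegree = g.natDegree + h.natDegree := by
      rw [← hg.natDegree_mul hh, ← hfgh, hf.natDegree_map]
    let p : MonicDegreeEq A f.natDegree := MonicDegreeEq.mk f hf rfl
    let σ := (UniversalCoprimeFactorizationRing.homEquiv (A ⧸ I) g.natDegree h.natDegree hn p).symm
      ⟨(MonicDegreeEq.mk g hg rfl, MonicDegreeEq.mk h hh rfl), hfgh.symm, hcop⟩
    obtain ⟨A', _, _, het, hbij, τ, hτ⟩ := exists_etale_neighbourhood I σ
    let E := UniversalCoprimeFactorizationRing.homEquiv A' g.natDegree h.natDegree hn p τ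
    refine ⟨A', _, _, het, hbij, E.1.1.1, E.1.2.1, E.2.2, E.1.1.monic, E.1.2.monic, E.2.1.symm, ?_, ?_⟩
    all_goals
      let q : A' →ₐ[A] A' ⧸ I.map (algebraMap A A') := Ideal.Quotient.mkₐ A _
      let ι : (A ⧸ I) →ₐ[A] A' ⧸ I.map (algebraMap A A') :=
        IsScalarTower.toAlgHom A (A ⧸ I) _
      have hqτ : q.comp τ = ι.comp σ := AlgHom.ext hτ
      have k₁ := UniversalCoprimeFactorizationRing.homEquiv_comp_fst
        A' g.natDegree h.natDegree hn p τ q
      have k₂ := UniversalCoprimeFactorizationRing.homEquiv_comp_snd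
        A' g.natDegree h.natDegree hn p τ q
      rw [hqτ, UniversalCoprimeFactorizationRing.homEquiv_comp_fst] at k₁
      rw [hqτ, UniversalCoprimeFactorizationRing.homEquiv_comp_snd] at k₂
      simp only [σ, Equiv.apply_symm_apply] at k₁ k₂
    · exact (congrArg Subtype.val k₁).symm
    · exact (congrArg Subtype.val k₂).symm

theorem exists_etale_lift_factorization {A : Type u} [CommRing A] (I : Ideal A) (f : A[X])
    (hf : f.Monic) (g h : (A ⧸ I)[X]) (hg : g.Monic) (hh : h.Monic) (hcop : IsCoprime g h)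
    (hfgh : f.map (Ideal.Quotient.mk I) = g * h) :
    ∃ (A' : Type u) (_ : CommRing A') (_ : Algebra A A'), Algebra.Etale A A' ∧
      Function.Bijective (algebraMap (A ⧸ I) (A' ⧸ I.map (algebraMap A A'))) ∧
      ∃ g' h' : A'[X], g'.Monic ∧ h'.Monic ∧ f.map (algebraMap A A') = g' * h' ∧
        g'.map (Ideal.Quotient.mk (I.map (algebraMap A A'))) =
          g.map (algebraMap (A ⧸ I) (A' ⧸ I.map (algebraMap A A'))) ∧
        h'.map (Ideal.Quotient.mk (I.map (algebraMap A A'))) =
          h.map (algebraMap (A ⧸ I) (A' ⧸ I.map (algebraMap A A'))) := by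
  obtain ⟨A', i1, i2, h1, h2, g', h', -, h3⟩ :=
    exists_etale_lift_factorization_coprime I f hf g h hg hh hcop hfgh
  exact ⟨A', i1, i2, h1, h2, g', h', h3⟩

end Groth.Calg1
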