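import Mathlib
import Groth.Prelude.Def_CAlgX
import Groth.Agent.Calg1.EssFPModels
import Groth.Agent.FlatMor2.FibCrit.General

/-!
The fibrewise criterion of flatness for local algebras essentially of finite presentation.
-/

set_option autoImplicit false

universe u

open IsLocalRing

namespace Groth.Calg1

set_option synthInstance.maxHeartbeats 200000 in
theorem flat_and_flat_of_fibre {R S S' M : Type u} [CommRing R] [CommRing S] [CommRing S']
    [IsLocalRing R] [IsLocalRing S] [IsLocalRing S'] [Algebra R S] [Algebra S S'] [Algebra R S'] [IsScalarTower R S S']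
    [IsLocalHom (algebraMap R S)] [IsLocalHom (algebraMap S S')]
    (hS : CAlgX.IsEssFinitePresentation R S) (hS' : CAlgX.IsEssFinitePresentation R S')
    [AddCommGroup M] [Module S' M] [Module S M] [Module R M] [IsScalarTower S S' M] [IsScalarTower R S' M]
    [IsScalarTower R S M] [Module.FinitePresentation S' M] [Nontrivial M] [Module.Flat R M]
    (hfib : Module.Flat (S ⧸ (maximalIdeal R).map (algebraMap R S))
      (M ⧸ (maximalIdeal R).map (algebraMap R S) • (⊤ : Submodule S M))) :
    Module.Flat R S ∧ Module.Flat S M := by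
  obtain ⟨S₀, _, _, _, _, N, hfp, hloc⟩ := hS
  have hq₀ : IsLocalization.AtPrime S ((maximalIdeal S).comap (algebraMap S₀ S)) :=
    isLocalization_atPrime_of_isLocalRing N
  letI : Algebra S₀ S' := ((algebraMap S S').comp (algebraMap S₀ S)).toAlgebra
  haveI : IsScalarTower S₀ S S' := IsScalarTower.of_algebraMap_eq' rfl
  haveI : IsScalarTower R S₀ S' := IsScalarTower.of_algebraMap_eq fun x => by
    rw [IsScalarTower.algebraMap_apply R S S', IsScalarTower.algebraMap_apply R S₀ S,
      ← IsScalarTower.algebraMap_apply S₀ S S']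
  obtain ⟨C, _, _, _, _, _, _, _, hCfp, hCloc⟩ := exists_model_hom (S₀ := S₀) hS'
  set q := (maximalIdeal S').comap (algebraMap C S') with hqdef
  letI : Module C M := Module.compHom M (algebraMap C S')
  haveI : IsScalarTower C S' M := IsScalarTower.of_algebraMap_smul fun _ _ => rfl
  letI : Module S₀ M := Module.compHom M (algebraMap S₀ S)
  haveI : IsScalarTower S₀ S M := IsScalarTower.of_algebraMap_smul fun _ _ => rfl
  haveI : IsScalarTower S₀ C M := IsScalarTower.of_algebraMap_smul fun b m => by
    change algebraMap C S' (algebraMap S₀ C b) • m = algebraMap S₀ S b • m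
    rw [← IsScalarTower.algebraMap_apply S₀ C S', IsScalarTower.algebraMap_apply S₀ S S', algebraMap_smul]
  haveI : IsScalarTower R C M := IsScalarTower.of_algebraMap_smul fun r m => by
    change algebraMap C S' (algebraMap R C r) • m = r • m
    rw [← IsScalarTower.algebraMap_apply R C S', algebraMap_smul]
  obtain ⟨M₀, _, _, hM₀, ℓ, hℓ⟩ := exists_fp_model (S := S') (M := M) q.primeCompl
  letI : Module S₀ M₀ := Module.compHom M₀ (algebraMap S₀ C)
  haveI : IsScalarTower S₀ C M₀ := IsScalarTower.of_algebraMap_smul fun _ _ => rfl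
  letI : Module R M₀ := Module.compHom M₀ (algebraMap R C)
  haveI : IsScalarTower R C M₀ := IsScalarTower.of_algebraMap_smul fun _ _ => rfl
  haveI : IsScalarTower R S₀ M₀ := IsScalarTower.of_algebraMap_smul fun r m => by
    change algebraMap S₀ C (algebraMap R S₀ r) • m = algebraMap R C r • m
    rw [← IsScalarTower.algebraMap_apply]
  have hqB : q.under S₀ = (maximalIdeal S).comap (algebraMap S₀ S) := by
    rw [Ideal.under_def, hqdef, Ideal.comap_comap, ← IsScalarTower.algebraMap_eq,
      IsScalarTower.algebraMap_eq S₀ S S', ← Ideal.comap_comap,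
      IsLocalRing.maximalIdeal_comap]
  haveI : IsLocalization.AtPrime S (q.under S₀) := by
    have key : ∀ (I J : Ideal S₀) [I.IsPrime] [J.IsPrime], I = J →
        IsLocalization.AtPrime S J → IsLocalization.AtPrime S I := by
      rintro I J _ _ rfl h
      exact h
    exact key _ _ hqB hq₀
  have hqA : q.under R = maximalIdeal R := by
    rw [Ideal.under_def, hqdef, Ideal.comap_comap, ← IsScalarTower.algebraMap_eq,
      IsScalarTower.algebraMap_eq R S S', ← Ideal.comap_comap,
      IsLocalRing.maximalIdeal_comap,
      IsLocalRing.maximalIdeal_comap]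
  haveI : Algebra.FiniteType R S₀ := inferInstance
  obtain ⟨h1, h2⟩ := Groth.FlatMor2.FibCrit.criterion (A := R) (B := S₀) (C := C) (M := M₀) q (Br := S)
    (Cq := S') (Mq := M) ℓ (by rw [hqA]; exact hfib)
  exact ⟨h1, (Groth.FlatMor2.FibCrit.flat_base_iff_local (q.under S₀)).mpr h2⟩

end Groth.Calg1
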