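import Mathlib
import Groth.Agent.EtaleDeep.IndEt.Pres
import Groth.Agent.EtaleDeep.IndEt.BaseChange
import Groth.Agent.EtaleDeep.IndEt.Etale
import Groth.Agent.EtaleAlgebra.AbsFlat

/-!
Fibres of ind-étale algebras.
-/

set_option autoImplicit false

universe u

open CategoryTheory TensorProduct

namespace Groth.Calg1

open Groth.EtaleDeep.IndEt

theorem isNoetherianRing_fiber (A B : Type u) [CommRing A] [CommRing B] [Algebra A B] [IsNoetherianRing B]
    (p : Ideal A) [p.IsPrime] : IsNoetherianRing (p.Fiber B) :=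
  haveI : Algebra.EssFiniteType A (A ⧸ p) := inferInstance
  haveI : Algebra.EssFiniteType (A ⧸ p) p.ResidueField := .of_isLocalization _ (nonZeroDivisors (A ⧸ p))
  haveI : Algebra.EssFiniteType A p.ResidueField := .comp A (A ⧸ p) p.ResidueField
  haveI : IsNoetherianRing (B ⊗[A] p.ResidueField) := Algebra.EssFiniteType.isNoetherianRing B _
  isNoetherianRing_of_ringEquiv (B ⊗[A] p.ResidueField)
    (Algebra.TensorProduct.comm A B p.ResidueField).toRingEquiv

/-- Elements of the image of an etale algebra in a field are separable. -/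
theorem isSeparable_image_of_etale {κ G L : Type u} [Field κ] [CommRing G] [Algebra κ G] [Algebra.Etale κ G]
    [Field L] [Algebra κ L] (ψ : G →ₐ[κ] L) (x : G) : IsSeparable κ (ψ x) := by
  let Q := RingHom.ker ψ
  haveI : Q.IsPrime := RingHom.ker_isPrime ψ
  haveI : Module.Finite κ G := Algebra.FormallyUnramified.finite_of_free κ G
  haveI : Module.Finite κ (G ⧸ Q) := Module.Finite.of_surjective (Ideal.Quotient.mkₐ κ Q).toLinearMap
    (Ideal.Quotient.mkₐ_surjective κ Q)
  haveI : Algebra.IsIntegral κ (G ⧸ Q) := Algebra.IsIntegral.of_finite κ _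
  letI : Field (G ⧸ Q) := (isField_of_isIntegral_of_isField' (Field.toIsField κ)).toField
  haveI : Algebra.FormallyUnramified G (G ⧸ Q) := .of_surjective (Algebra.ofId G (G ⧸ Q)) Ideal.Quotient.mk_surjective
  haveI : Algebra.FormallyUnramified κ (G ⧸ Q) := .comp κ G (G ⧸ Q)
  haveI : Algebra.EssFiniteType κ (G ⧸ Q) := inferInstance
  haveI := Algebra.FormallyUnramified.isSeparable κ (G ⧸ Q)
  have h : IsSeparable κ (Ideal.Quotient.mk Q x) :=
    Algebra.IsSeparable.isSeparable κ (Ideal.Quotient.mk Q x)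
  let e : (G ⧸ Q) →ₐ[κ] L := Ideal.Quotient.liftₐ Q ψ (fun a ha => ha)
  have hx : e (Ideal.Quotient.mk Q x) = ψ x := Ideal.Quotient.lift_mk _ _ _
  rw [← hx]
  exact IsSeparable.map e e.toRingHom.injective h

theorem indEtale_fibre {A B : Type u} [CommRing A] [CommRing B] [Algebra A B] (hB : EtPBC.IsIndEtale A B)
    [IsNoetherianRing B] (p : Ideal A) [p.IsPrime] :
    {q : PrimeSpectrum B | q.asIdeal.LiesOver p}.Finite ∧ IsReduced (p.Fiber B) ∧ ringKrullDim (p.Fiber B) ≤ 0 ∧
      ∀ (q : Ideal B) [q.IsPrime] [q.LiesOver p],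
        @Algebra.IsSeparable p.ResidueField q.ResidueField _ _
          (Ideal.ResidueField.mapₐ p q (Algebra.ofId A B) (q.over_def p)).toRingHom.toAlgebra := by
  haveI := isNoetherianRing_fiber A B p
  obtain ⟨H⟩ := isIndEtale_iff.1 hB
  let H' : Pres p.ResidueField (p.Fiber B) (fun R => Algebra.Etale p.ResidueField R) :=
    H.baseChange p.ResidueField (fun j => haveI := H.prop j; inferInstance)
  haveI : Algebra.WeaklyEtale p.ResidueField (p.Fiber B) := weaklyEtale (isIndEtale_iff.2 ⟨H'⟩)
  have hreg : ∀ x : p.Fiber B, ∃ y, x = x * y * x :=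
    EtaleAlgebra.regular_of_weaklyEtale (R := p.ResidueField) (fun (x : p.ResidueField) => ⟨x⁻¹, by
      rcases eq_or_ne x 0 with h | h <;> simp [h]⟩) _
  haveI : Ring.KrullDimLE 0 (p.Fiber B) :=
    Ring.krullDimLE_zero_iff.2 fun I hI => EtaleAlgebra.isMaximal_of_regular hreg I
  refine ⟨?_, EtaleAlgebra.isReduced_of_regular hreg, by exact_mod_cast Ring.krullDimLE_iff.1 (‹Ring.KrullDimLE 0 (p.Fiber B)›), fun q hq hqp => ?_⟩
  · haveI : IsArtinianRing (p.Fiber B) := isArtinianRing_iff_isNoetherianRing_krullDimLE_zero.2 ⟨inferInstance, inferInstance⟩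
    haveI : Finite (PrimeSpectrum (p.Fiber B)) := inferInstance
    haveI : Finite (p.primesOver B) := Finite.of_equiv _ (PrimeSpectrum.primesOverOrderIsoFiber A B p).symm.toEquiv
    refine Set.Finite.of_finite_image (f := PrimeSpectrum.asIdeal) ((p.primesOver B).toFinite.subset ?_)
      (fun a _ b _ h => PrimeSpectrum.ext h)
    rintro _ ⟨q, hq, rfl⟩
    exact ⟨q.2, hq⟩
  · letI : Algebra p.ResidueField q.ResidueField :=
      (Ideal.ResidueField.mapₐ p q (Algebra.ofId A B) (q.over_def p)).toRingHom.toAlgebra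
    haveI : IsScalarTower A p.ResidueField q.ResidueField :=
      IsScalarTower.of_algebraMap_eq fun a => by
        rw [RingHom.algebraMap_toAlgebra]
        exact ((Ideal.ResidueField.mapₐ p q (Algebra.ofId A B) (q.over_def p)).commutes a).symm
    let φ : p.Fiber B →ₐ[p.ResidueField] q.ResidueField :=
      Algebra.TensorProduct.lift (Algebra.ofId p.ResidueField q.ResidueField)
        (IsScalarTower.toAlgHom A B q.ResidueField) fun _ _ => Commute.all _ _
    have hfield : ∀ z ∈ φ.range, z⁻¹ ∈ φ.range := by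
      rintro _ ⟨t, rfl⟩
      obtain ⟨y, hy⟩ := hreg t
      rcases eq_or_ne (φ t) 0 with h0 | h0
      · exact ⟨0, by simp [h0]⟩
      · refine ⟨y, eq_inv_of_mul_eq_one_left ?_⟩
        have h1 := congrArg φ hy
        rw [map_mul, map_mul] at h1
        exact mul_left_cancel₀ h0 (by rw [mul_one]; linear_combination -h1)
    have hsurj : Function.Surjective φ := by
      intro z
      obtain ⟨a, b, -, hab⟩ := IsFractionRing.div_surjective (B ⧸ q) z
      obtain ⟨a, rfl⟩ := Ideal.Quotient.mk_surjective a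
      obtain ⟨b, rfl⟩ := Ideal.Quotient.mk_surjective b
      have hB' : ∀ c : B, algebraMap (B ⧸ q) q.ResidueField (Ideal.Quotient.mk q c) ∈ φ.range := fun c =>
        ⟨1 ⊗ₜ c, by
          change φ (1 ⊗ₜ c) = _
          rw [Algebra.TensorProduct.lift_tmul, map_one, one_mul]
          exact (IsScalarTower.algebraMap_apply B (B ⧸ q) q.ResidueField c)⟩
      rw [← hab, div_eq_mul_inv]
      exact φ.range.mul_mem (hB' a) (hfield _ (hB' b))
    refine ⟨fun z => ?_⟩
    obtain ⟨t, rfl⟩ := hsurj z
    obtain ⟨j, w, hw⟩ := H'.surj t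
    haveI := H'.prop j
    have h := isSeparable_image_of_etale (φ.comp (H'.g j)) w
    rwa [AlgHom.comp_apply, hw] at h

end Groth.Calg1
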