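import Groth.Agent.Hensel1.Pairs
import Groth.Agent.S6361
import Mathlib

/-! Countably generated Mittag-Leffler modules over henselian local rings. -/

set_option autoImplicit false
universe u

namespace Groth.Calg1.MLSplit

open Polynomial

variable {R : Type u} [CommRing R]

theorem finitePresentation_of_retract {Q N : Type u} [AddCommGroup Q] [Module R Q] [AddCommGroup N]
    [Module R N] [Module.FinitePresentation R Q] (i : N →ₗ[R] Q) (r : Q →ₗ[R] N)
    (h : ∀ v, r (i v) = v) : Module.FinitePresentation R N := by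
  refine Module.finitePresentation_of_surjective r (fun v => ⟨i v, h v⟩) ?_
  have hk : LinearMap.ker r = LinearMap.range (LinearMap.id - i ∘ₗ r) := by
    refine le_antisymm (fun q hq => ⟨q, by simp [LinearMap.mem_ker.1 hq]⟩) ?_
    rintro _ ⟨q, rfl⟩
    simp [h]
  rw [hk, LinearMap.range_eq_map]
  exact Submodule.FG.map _ Module.Finite.fg_top

theorem isMittagLeffler_of_retract {M N : Type u} [AddCommGroup M] [Module R M] [AddCommGroup N]
    [Module R N] (hM : CAlg.IsMittagLeffler R M) (i : N →ₗ[R] M) (r : M →ₗ[R] N)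
    (h : ∀ v, r (i v) = v) : CAlg.IsMittagLeffler R N := by
  intro ι Q _ _
  have hinj : ∀ z : TensorProduct R N (∀ j, Q j), r.rTensor _ (i.rTensor _ z) = z := by
    intro z
    induction z with
    | zero => simp
    | tmul v q => simp [h]
    | add a b ha hb => rw [map_add, map_add, ha, hb]
  have hnat : ∀ (z : TensorProduct R N (∀ j, Q j)) (j : ι),
      TensorProduct.piRightHom R R M Q (i.rTensor _ z) j =
        i.rTensor (Q j) (TensorProduct.piRightHom R R N Q z j) := by
    intro z j
    induction z with
    | zero => simp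
    | tmul v q => simp
    | add a b ha hb => simp only [map_add, Pi.add_apply, ha, hb]
  intro a b hab
  rw [← hinj a, ← hinj b]
  congr 1
  refine hM ι Q (funext fun j => ?_)
  rw [hnat, hnat, hab]

theorem aeval_apply_fixed {M : Type u} [AddCommGroup M] [Module R M] (α : Module.End R M) {x : M}
    (hx : α x = x) (p : R[X]) : aeval α p x = p.eval 1 • x := by
  induction p using Polynomial.induction_on with
  | C a => simp [Module.algebraMap_end_apply]
  | add p q hp hq => simp [hp, hq, add_smul]
  | monomial n a h =>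
    rw [pow_succ, ← mul_assoc, map_mul, aeval_X, Module.End.mul_apply, hx, h]
    simp

theorem aeval_comp {M Q : Type u} [AddCommGroup M] [Module R M] [AddCommGroup Q] [Module R Q]
    (b : M →ₗ[R] Q) (c : Q →ₗ[R] M) (P : R[X]) (y : M) :
    aeval (c ∘ₗ b : Module.End R M) (X * P) y = c (aeval (b ∘ₗ c : Module.End R Q) P (b y)) := by
  induction P using Polynomial.induction_on generalizing y with
  | C a => simp [Module.algebraMap_end_apply]
  | add p q hp hq =>
    rw [mul_add, map_add, LinearMap.add_apply, hp, hq, map_add, LinearMap.add_apply, map_add]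
  | monomial n a h =>
    rw [pow_succ, ← mul_assoc (C a), ← mul_assoc X (C a * X ^ n), map_mul, aeval_X,
      Module.End.mul_apply, h, map_mul _ (C a * X ^ n) X, aeval_X]
    simp

section

variable [HenselianLocalRing R] {M : Type u} [AddCommGroup M] [Module R M]

/-- Every element lies in a finitely presented direct summand. -/
theorem exists_idempotent (hc : CAlg.IsCountablyGenerated R M) (hML : CAlg.IsMittagLeffler R M) (x : M) :
    ∃ e : Module.End R M, IsIdempotentElem e ∧ e x = x ∧
      Module.FinitePresentation R (LinearMap.range e) := by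
  classical
  obtain ⟨Q, _, _, _, b, c, hbc⟩ :=
    Groth.Agent.S6361.result R M hML hc (LinearMap.toSpanSingleton R M x)
  set α : Module.End R M := c ∘ₗ b with hα
  have hx : α x = x := by simpa using LinearMap.congr_fun hbc 1
  obtain ⟨P, hPm, hP⟩ := (Algebra.IsIntegral.isIntegral (R := R) (b ∘ₗ c : Module.End R Q))
  have hαf : ∀ y, aeval α (X * P) y = 0 := fun y => by
    rw [hα, aeval_comp, show aeval (b ∘ₗ c : Module.End R Q) P = 0 from hP]
    simp
  let res := IsLocalRing.residue R
  have hfm : (X * P).Monic := monic_X.mul hPm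
  obtain ⟨q₀, hq, hndvd⟩ :=
    ((X * P).map res).exists_eq_pow_rootMultiplicity_mul_and_not_dvd (hfm.map res).ne_zero 0
  generalize hk : ((X * P).map res).rootMultiplicity 0 = k at hq
  rw [map_zero, sub_zero] at hq hndvd
  have hcop : IsCoprime ((X : (IsLocalRing.ResidueField R)[X]) ^ k) q₀ :=
    ((prime_X).coprime_iff_not_dvd.2 hndvd).pow_left
  have hqm : q₀.Monic := (monic_X_pow k).of_mul_monic_left (hq ▸ hfm.map res)
  obtain ⟨g, h, -, -, hgh, hg, hh, u, w, huw⟩ :=
    Groth.Hensel1.exists_monic_factor_lift (I := IsLocalRing.maximalIdeal R) hfm (monic_X_pow k) hqm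
      hcop hq
  have hgu : IsUnit (g.eval 1) := by
    refine isUnit_of_map_unit res _ ?_
    rw [← eval₂_at_apply, ← eval_map, map_one, show g.map res = X ^ k from hg]
    simp
  have hh0 : IsUnit (h.coeff 0) := by
    refine isUnit_of_map_unit res _ ?_
    rw [← coeff_map, show h.map res = q₀ from hh, isUnit_iff_ne_zero]
    exact fun h0 => hndvd (X_dvd_iff.2 h0)
  set e : Module.End R M := aeval α (u * g) with he
  have hghz : ∀ p : R[X], aeval α (p * (g * h)) = 0 := fun p => by
    rw [← hgh, map_mul]
    exact LinearMap.ext fun y => by rw [Module.End.mul_apply, hαf, map_zero, LinearMap.zero_apply]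
  have hee : IsIdempotentElem e := by
    rw [IsIdempotentElem, he, ← map_mul, ← sub_eq_zero, ← map_sub,
      show u * g * (u * g) - u * g = -(u * w) * (g * h) by linear_combination (u * g) * huw, hghz]
  have hex : e x = x := by
    have h1 : (g.eval 1) • ((w * h).eval 1 • x) = 0 := by
      rw [smul_smul, ← eval_mul, ← aeval_apply_fixed α hx, show g * (w * h) = w * (g * h) by ring,
        hghz]
      rfl
    rw [hgu.smul_eq_zero] at h1
    rw [he, aeval_apply_fixed α hx]
    conv_rhs => rw [← one_smul R x, show (1 : R) = (u * g).eval 1 + (w * h).eval 1 by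
      rw [← eval_add, huw, eval_one], add_smul, h1, add_zero]
  refine ⟨e, hee, hex, ?_⟩
  obtain ⟨v, hv⟩ := hh0.exists_left_inv
  let s : Module.End R M := aeval α (C (-v) * h.divX * (u * g))
  have hes : ∀ y, c (b (s y)) = e y := fun y => by
    show α (s y) = _
    rw [← Module.End.mul_apply]
    refine LinearMap.congr_fun ?_ y
    rw [show α = aeval α (X : R[X]) from (aeval_X _).symm]
    simp only [s, e, aeval_X, ← map_mul]
    rw [show α * aeval α (C (-v) * h.divX * (u * g)) = aeval α (X * (C (-v) * h.divX * (u * g))) by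
      rw [map_mul _ X, aeval_X]]
    rw [← sub_eq_zero, ← map_sub,
      show X * (C (-v) * h.divX * (u * g)) - u * g = (-(C v * u)) * (g * h) by
        have h1 := X_mul_divX_add h
        have h2 : C v * C (h.coeff 0) = 1 := by rw [← C_mul, hv, C_1]
        rw [C_neg]
        linear_combination (-(C v) * (u * g)) * h1 + (u * g) * h2,
      hghz]
  refine finitePresentation_of_retract ((b ∘ₗ s) ∘ₗ (LinearMap.range e).subtype)
    (e.rangeRestrict ∘ₗ c) ?_
  rintro ⟨_, y, rfl⟩
  refine Subtype.ext ?_
  show e (c (b (s (e y)))) = e y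
  rw [hes, ← Module.End.mul_apply, ← Module.End.mul_apply, hee.eq, hee.eq]

/-- Splitting off a finitely presented summand inside the image of an idempotent. -/
theorem exists_step (hc : CAlg.IsCountablyGenerated R M) (hML : CAlg.IsMittagLeffler R M)
    (π : Module.End R M) (hπ : IsIdempotentElem π) (m : M) :
    ∃ π' : Module.End R M, IsIdempotentElem π' ∧ π' * π = π' ∧ π * π' = π' ∧ π' m = 0 ∧
      Module.FinitePresentation R (LinearMap.range (π - π')) := by
  classical
  let K := LinearMap.range π
  let p : M →ₗ[R] K := π.rangeRestrict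
  have hfix : ∀ y : K, π (y : M) = y := by
    rintro ⟨_, y, rfl⟩
    exact LinearMap.congr_fun hπ.eq y
  have hp : ∀ y : K, p y = y := fun y => Subtype.ext (hfix y)
  have hKc : CAlg.IsCountablyGenerated R K := by
    obtain ⟨S, hS, hspan⟩ := hc
    refine ⟨p '' S, hS.image _, ?_⟩
    rw [Submodule.span_image, hspan, Submodule.map_top]
    exact LinearMap.range_eq_top.2 fun y => ⟨y, hp y⟩
  obtain ⟨e, hee, hex, hfp⟩ :=
    exists_idempotent hKc (isMittagLeffler_of_retract hML K.subtype p hp) (p m)
  have hval : ∀ y, ((p y : K) : M) = π y := fun y => rfl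
  refine ⟨π - K.subtype ∘ₗ e ∘ₗ p, LinearMap.ext fun y => ?_, LinearMap.ext fun y => ?_,
    LinearMap.ext fun y => ?_, ?_, ?_⟩
  · have h2 : p (π y) = p y := hp (p y)
    simp only [Module.End.mul_apply, LinearMap.sub_apply, LinearMap.comp_apply,
      Submodule.subtype_apply, map_sub, hfix, h2, hp,
      show π (π y) = π y from LinearMap.congr_fun hπ.eq y,
      show e (e (p y)) = e (p y) from LinearMap.congr_fun hee.eq (p y)]
    abel
  · have h2 : p (π y) = p y := hp (p y)
    simp only [Module.End.mul_apply, LinearMap.sub_apply, LinearMap.comp_apply,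
      Submodule.subtype_apply, h2, show π (π y) = π y from LinearMap.congr_fun hπ.eq y]
  · simp only [Module.End.mul_apply, LinearMap.sub_apply, LinearMap.comp_apply,
      Submodule.subtype_apply, map_sub, hfix, show π (π y) = π y from LinearMap.congr_fun hπ.eq y]
  · simp [hex, hval]
  · rw [sub_sub_cancel]
    have : LinearMap.range (K.subtype ∘ₗ e ∘ₗ p) = (LinearMap.range e).map K.subtype := by
      rw [LinearMap.range_comp, LinearMap.range_comp_of_range_eq_top e
        (LinearMap.range_eq_top.2 fun y => ⟨(y : M), hp y⟩ : LinearMap.range p = ⊤)]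
    rw [this]
    exact Module.FinitePresentation.of_equiv
      (Submodule.equivMapOfInjective K.subtype K.injective_subtype (LinearMap.range e))

theorem exists_decomposition (hc : CAlg.IsCountablyGenerated R M) (hML : CAlg.IsMittagLeffler R M) :
    ∃ N : ℕ → Submodule R M, iSupIndep N ∧ (⨆ k, N k) = ⊤ ∧
      ∀ k, Module.FinitePresentation R (N k) := by
  classical
  obtain ⟨S, hS, hspan⟩ := id hc
  obtain ⟨m, hm⟩ := (hS.insert (0 : M)).exists_eq_range ⟨0, Set.mem_insert _ _⟩
  choose f hf1 hf2 hf3 hf4 hf5 using fun (π : {π : Module.End R M // IsIdempotentElem π}) (k : ℕ) =>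
    exists_step hc hML π.1 π.2 (m k)
  let π : ℕ → {π : Module.End R M // IsIdempotentElem π} := fun k =>
    Nat.rec (motive := fun _ => {π : Module.End R M // IsIdempotentElem π})
      ⟨1, IsIdempotentElem.one⟩ (fun k π => ⟨f π k, hf1 π k⟩) k
  have hsl : ∀ {i j}, i ≤ j → (π j).1 * (π i).1 = (π j).1 ∧ (π i).1 * (π j).1 = (π j).1 := by
    intro i j hij
    induction j, hij using Nat.le_induction with
    | base => exact ⟨(π i).2.eq, (π i).2.eq⟩
    | succ j hij ih =>
      have h1 : (π (j + 1)).1 * (π j).1 = (π (j + 1)).1 := hf2 (π j) j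
      have h2 : (π j).1 * (π (j + 1)).1 = (π (j + 1)).1 := hf3 (π j) j
      exact ⟨by rw [← h1, mul_assoc, ih.1], by rw [← h2, ← mul_assoc, ih.2]⟩
  let d : ℕ → Module.End R M := fun k => (π k).1 - (π (k + 1)).1
  have hd : ∀ i j, i ≠ j → d i * d j = 0 := by
    intro i j hij
    rcases Nat.lt_or_gt_of_ne hij with h | h
    · simp only [d, sub_mul, mul_sub, (hsl h.le).2, (hsl (show i ≤ j + 1 by omega)).2,
        (hsl (show i + 1 ≤ j by omega)).2, (hsl (show i + 1 ≤ j + 1 by omega)).2]
      abel
    · simp only [d, sub_mul, mul_sub, (hsl h.le).1, (hsl (show j ≤ i + 1 by omega)).1,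
        (hsl (show j + 1 ≤ i by omega)).1, (hsl (show j + 1 ≤ i + 1 by omega)).1]
      abel
  have hdd : ∀ i, d i * d i = d i := by
    intro i
    simp only [d, sub_mul, mul_sub, (π i).2.eq, (π (i + 1)).2.eq, (hsl (Nat.le_succ i)).1,
      (hsl (Nat.le_succ i)).2]
    abel
  refine ⟨fun k => LinearMap.range (d k), ?_, ?_, fun k => hf5 (π k) k⟩
  · rw [iSupIndep_def]
    intro i
    rw [Submodule.disjoint_def]
    rintro _ ⟨y, rfl⟩ hy
    have hle : (⨆ (j) (_ : j ≠ i), LinearMap.range (d j)) ≤ LinearMap.ker (d i) :=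
      iSup₂_le fun j hj => by
        rintro _ ⟨z, rfl⟩
        rw [LinearMap.mem_ker, ← Module.End.mul_apply, hd i j (Ne.symm hj), LinearMap.zero_apply]
    have h0 := hle hy
    rwa [LinearMap.mem_ker, ← Module.End.mul_apply, hdd i] at h0
  · refine top_le_iff.1 ?_
    rw [← hspan, Submodule.span_le]
    intro y hy
    obtain ⟨k, rfl⟩ : y ∈ Set.range m := hm ▸ Set.mem_insert_of_mem _ hy
    have key : ∀ j, m k - (π j).1 (m k) ∈ ⨆ i, LinearMap.range (d i) := by
      intro j
      induction j with
      | zero => simp [π]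
      | succ j ih =>
        have h := add_mem ih (le_iSup (fun i => LinearMap.range (d i)) j ⟨m k, rfl⟩)
        simpa [d, sub_add_sub_cancel] using h
    have h := key (k + 1)
    rwa [show (π (k + 1)).1 (m k) = 0 from hf4 (π k) k, sub_zero] at h

end

end Groth.Calg1.MLSplit
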