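import Groth.Agent.Calg1.EtaleLift

/-!
Lifting idempotents of integral algebras over an étale neighbourhood.
-/

set_option autoImplicit false
universe u

namespace Groth.Calg1

open Polynomial TensorProduct

theorem exists_weakly_eisenstein {A B : Type u} [CommRing A] [CommRing B] [Algebra A B]
    [Algebra.IsIntegral A B] (I : Ideal A) (x : B) (hx : x ∈ I.map (algebraMap A B)) :
    ∃ (G : A[X]) (n : ℕ), G.Monic ∧ 0 < n ∧
      G.map (Ideal.Quotient.mk I) = X ^ n ∧ aeval x G = 0 := by
  classical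
  rw [Ideal.map, Submodule.mem_span_set'] at hx
  obtain ⟨m, c, g, hxg⟩ := hx
  choose a ha hag using fun i => (g i).2
  let S := Algebra.adjoin A (Set.range c)
  haveI hfin : Module.Finite A S :=
    Module.Finite.iff_fg.mpr (fg_adjoin_of_finite (Set.finite_range _)
      fun z _ => Algebra.IsIntegral.isIntegral z)
  let y : S := ∑ i, (⟨c i, Algebra.subset_adjoin ⟨i, rfl⟩⟩ : S) * algebraMap A S (a i)
  have hy : y ∈ I.map (algebraMap A S) :=
    Ideal.sum_mem _ fun i _ => Ideal.mul_mem_left _ _ (Ideal.mem_map_of_mem _ (ha i))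
  have hyx : (y : B) = x := by
    rw [← hxg]
    simp [y, hag]
  have hrange : LinearMap.range (Algebra.lmul A S y) ≤ I • ⊤ := by
    rintro _ ⟨z, rfl⟩
    rw [Ideal.smul_top_eq_map, Submodule.restrictScalars_mem]
    exact Ideal.mul_mem_right _ _ hy
  obtain ⟨p, hp, -, hpc, hp0⟩ :=
    LinearMap.exists_monic_and_natDegree_eq_and_coeff_mem_pow_and_aeval_eq_zero
      A (Algebra.lmul A S y) I hrange
  refine ⟨p * X, p.natDegree + 1, hp.mul monic_X, Nat.succ_pos _, ?_, ?_⟩
  · rw [Polynomial.map_mul, map_X, pow_succ]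
    congr 1
    refine Polynomial.ext fun k => ?_
    rw [coeff_map, coeff_X_pow]
    rcases lt_trichotomy k p.natDegree with hk | hk | hk
    · rw [if_neg hk.ne, Ideal.Quotient.eq_zero_iff_mem]
      exact Ideal.pow_le_self (by omega) (hpc k)
    · subst hk
      rw [if_pos rfl, hp.coeff_natDegree, map_one]
    · rw [if_neg hk.ne', coeff_eq_zero_of_natDegree_lt hk, map_zero]
  · rw [Polynomial.aeval_algHom_apply] at hp0
    have h1 : aeval y p = 0 := by simpa using LinearMap.congr_fun hp0 1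
    rw [map_mul, ← hyx, ← Subalgebra.coe_val, Polynomial.aeval_algHom_apply, h1, map_zero, zero_mul]

theorem exists_idempotent_lift {A B : Type u} [CommRing A] [CommRing B] [Algebra A B]
    [Algebra.IsIntegral A B] (I : Ideal A) (e : B ⧸ I.map (algebraMap A B))
    (he : IsIdempotentElem e) :
    ∃ (A' : Type u) (_ : CommRing A') (_ : Algebra A A'), Algebra.Etale A A' ∧
      Function.Bijective (algebraMap (A ⧸ I) (A' ⧸ I.map (algebraMap A A'))) ∧
      ∃ e' : A' ⊗[A] B, IsIdempotentElem e' ∧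
        ∀ b : B, Ideal.Quotient.mk (I.map (algebraMap A B)) b = e →
          e' - 1 ⊗ₜ b ∈ I.map (algebraMap A (A' ⊗[A] B)) := by
  obtain ⟨b, rfl⟩ := Ideal.Quotient.mk_surjective e
  have hx : b ^ 2 - b ∈ I.map (algebraMap A B) := by
    rw [← Ideal.Quotient.eq_zero_iff_mem, map_sub, map_pow, pow_two, he.eq, sub_self]
  obtain ⟨G, n, hG, hn, hGmap, hG0⟩ := exists_weakly_eisenstein I _ hx
  let F := G.comp (X ^ 2 - X)
  have hF : F.Monic := by
    rcases subsingleton_or_nontrivial A with h | h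
    · exact Subsingleton.elim _ _
    · refine hG.comp (monic_X_pow_sub (by simp)) ?_
      rw [natDegree_sub_eq_left_of_natDegree_lt] <;> simp
  have hFmap : F.map (Ideal.Quotient.mk I) = X ^ n * (X - 1) ^ n := by
    rw [Polynomial.map_comp, hGmap, ← mul_pow]
    simp only [Polynomial.map_sub, Polynomial.map_pow, map_X, X_pow_comp]
    ring_nf
  have hcop : IsCoprime (X ^ n : (A ⧸ I)[X]) ((X - 1) ^ n) :=
    IsCoprime.pow ⟨1, -1, by ring⟩
  obtain ⟨A', _, _, het, hbij, g', h', ⟨u, v, huv⟩, -, -, hfgh, hgm, hhm⟩ :=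
    exists_etale_lift_factorization_coprime I F hF (X ^ n) ((X - 1) ^ n) (monic_X_pow n)
      ((monic_X_sub_C (1 : A ⧸ I) |>.pow n) |> fun h => by simpa using h) hcop hFmap
  let β : A' ⊗[A] B := 1 ⊗ₜ b
  have hFβ : aeval β (g' * h') = 0 := by
    rw [← hfgh, aeval_map_algebraMap]
    have : β = (Algebra.TensorProduct.includeRight : B →ₐ[A] A' ⊗[A] B) b := rfl
    rw [this, Polynomial.aeval_algHom_apply]
    simp [F, aeval_comp, hG0]
  have hsum : aeval β u * aeval β g' + aeval β v * aeval β h' = 1 := by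
    rw [← map_mul, ← map_mul, ← map_add, huv, map_one]
  refine ⟨A', _, _, het, hbij, aeval β (u * g'), ?_, fun b' hb' => ?_⟩
  · rw [map_mul] at hFβ ⊢
    show _ * _ = _
    linear_combination (aeval β u * aeval β g') * hsum - (aeval β u * aeval β v) * hFβ
  set J := I.map (algebraMap A (A' ⊗[A] B)) with hJ
  set q := Ideal.Quotient.mk J
  have hmapJ : I.map (algebraMap A A') ≤
      J.comap (algebraMap A' (A' ⊗[A] B)) := by
    rw [← Ideal.map_le_iff_le_comap, Ideal.map_map, ← IsScalarTower.algebraMap_eq]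
  let κ : A' ⧸ I.map (algebraMap A A') →+* (A' ⊗[A] B) ⧸ J :=
    Ideal.quotientMap J (algebraMap A' _) hmapJ
  have hev : ∀ p : A'[X], q (aeval β p) =
      (p.map (Ideal.Quotient.mk (I.map (algebraMap A A')))).eval₂ κ (q β) := fun p => by
    rw [aeval_def, hom_eval₂, eval₂_map]
    rfl
  have hin : ∀ z ∈ I.map (algebraMap A B), (1 : A') ⊗ₜ[A] z ∈ J := fun z hz => by
    let φ : B →ₐ[A] A' ⊗[A] B := Algebra.TensorProduct.includeRight
    have : I.map (algebraMap A B) ≤ J.comap φ.toRingHom := by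
      rw [Ideal.map_le_iff_le_comap, Ideal.comap_comap, ← Ideal.map_le_iff_le_comap,
        show φ.toRingHom.comp (algebraMap A B) = algebraMap A (A' ⊗[A] B) from φ.comp_algebraMap]
    exact this hz
  have hidem : q β * q β = q β := by
    rw [← map_mul, ← sub_eq_zero, ← map_sub, Ideal.Quotient.eq_zero_iff_mem]
    have : β * β - β = (Algebra.TensorProduct.includeRight : B →ₐ[A] A' ⊗[A] B) (b ^ 2 - b) := by
      rw [map_sub, map_pow, pow_two]; rfl
    rw [this]
    exact hin _ hx
  have hg : q (aeval β g') = q β := by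
    rw [hev, hgm, Polynomial.map_pow, map_X, eval₂_X_pow]
    exact IsIdempotentElem.pow_eq hidem hn.ne'
  have hh : q β * q (aeval β h') = 0 := by
    rw [hev, hhm, Polynomial.map_pow, Polynomial.map_sub, map_X, Polynomial.map_one, eval₂_pow,
      eval₂_sub, eval₂_X, eval₂_one]
    obtain ⟨m, rfl⟩ := Nat.exists_eq_succ_of_ne_zero hn.ne'
    rw [pow_succ', ← mul_assoc, mul_sub, mul_one, hidem, sub_self, zero_mul]
  have hdiff : β - 1 ⊗ₜ b' ∈ J := by
    have : b - b' ∈ I.map (algebraMap A B) := (Ideal.Quotient.eq).mp hb'.symm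
    simpa [β, TensorProduct.tmul_sub] using hin _ this
  rw [← Ideal.Quotient.eq_zero_iff_mem, map_sub,
    ← Ideal.Quotient.eq.mpr hdiff, map_mul, map_mul, hg]
  have hs := congrArg q hsum
  rw [map_add, map_mul, map_mul, hg, map_one] at hs
  linear_combination (q β) * hs - (q (aeval β u)) * hidem - (q (aeval β v)) * hh

end Groth.Calg1
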