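import Groth.Agent.Calg2.Inflate
import Groth.Agent.Calg2.InflateTranscendental

/-!
Inflating the residue field of an arbitrary local ring.
-/

universe u

open MvPolynomial

namespace Groth.Calg2

open Inflate

/-- Inflation along an algebraic extension of the residue field, for any local ring. -/
theorem exists_inflation_algebraic' (A : Type u) [CommRing A] [IsLocalRing A]
    (K : Type u) [Field K] [Algebra (IsLocalRing.ResidueField A) K]
    [Algebra.IsAlgebraic (IsLocalRing.ResidueField A) K] :
    ∃ (B : Type u) (_ : CommRing B) (_ : Algebra A B), IsLocalRing B ∧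
      IsLocalHom (algebraMap A B) ∧ Module.Flat A B ∧
      ∃ e : (B ⧸ (IsLocalRing.maximalIdeal A).map (algebraMap A B)) ≃+* K,
        ∀ a : A, e (Ideal.Quotient.mk _ (algebraMap A B a)) =
          algebraMap (IsLocalRing.ResidueField A) K (IsLocalRing.residue A a) := by
  classical
  letI : Algebra A K := ((algebraMap (IsLocalRing.ResidueField A) K).comp (IsLocalRing.residue A)).toAlgebra
  haveI : IsScalarTower A (IsLocalRing.ResidueField A) K := IsScalarTower.of_algebraMap_eq fun _ => rfl
  obtain ⟨P, hP⟩ := exists_full A K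
  let B := MvPolynomial K A ⧸ P.I
  let M : Ideal B := RingHom.ker P.ev
  have hsurj : Function.Surjective P.ev := fun b => ⟨Ideal.Quotient.mk _ (X b), by rw [P.ev_mk, aeval_X]; rfl⟩
  have hcover : ∀ s : Finset B, ∃ C : Subalgebra A B, (s : Set B) ⊆ C ∧ Module.Finite A C ∧ Module.Free A C ∧
      ∀ c : C, P.ev c = 0 → c ∈ IsLocalRing.maximalIdeal A • (⊤ : Submodule A C) := by
    intro s
    choose g hg using fun x : B => Ideal.Quotient.mk_surjective x
    obtain ⟨C, -, hX, h1, h2, h3⟩ := P.cover (s.biUnion fun x => (g x).vars) (fun b _ => hP b)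
    refine ⟨C, fun x hx => ?_, h1, h2, h3⟩
    have key : ∀ f : MvPolynomial K A, (∀ b ∈ f.vars, b ∈ s.biUnion fun x => (g x).vars) →
        Ideal.Quotient.mk P.I f ∈ C := by
      intro f hf
      have hle : supported A (f.vars : Set K) ≤ C.comap (Ideal.Quotient.mkₐ A P.I) := by
        rw [supported_eq_adjoin_X, Algebra.adjoin_le_iff]
        rintro _ ⟨b, hb, rfl⟩
        exact hX b (hf b hb)
      exact hle (mem_supported_vars f)
    rw [← hg x]
    exact key _ fun b hb => Finset.mem_biUnion.2 ⟨x, hx, hb⟩
  have hker : (IsLocalRing.maximalIdeal A).map (algebraMap A B) = M := by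
    refine le_antisymm (Ideal.map_le_iff_le_comap.2 fun a ha => ?_) fun x hx => ?_
    · show P.ev (algebraMap A B a) = 0
      rw [AlgHom.commutes, algebraMap_eq_zero_iff']; exact ha
    · obtain ⟨C, hC, _, _, h3⟩ := hcover {x}
      have := Submodule.mem_map_of_mem (f := C.val.toLinearMap) (h3 ⟨x, hC (by simp)⟩ hx)
      rw [Submodule.map_smul''] at this
      have h1 := Submodule.smul_mono le_rfl le_top this
      rw [Ideal.smul_top_eq_map, Submodule.restrictScalars_mem] at h1
      exact h1
  haveI hMmax : M.IsMaximal := RingHom.ker_isMaximal_of_surjective _ hsurj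
  haveI : Algebra.IsIntegral A B := ⟨fun x => by
    obtain ⟨C, hC, _, _, -⟩ := hcover {x}
    exact (Algebra.IsIntegral.isIntegral (R := A) (⟨x, hC (by simp)⟩ : C)).map C.val⟩
  have hunique : ∀ Q : Ideal B, Q.IsMaximal → Q = M := fun Q hQ => by
    refine (hMmax.eq_of_le hQ.ne_top ?_).symm
    rw [← hker, Ideal.map_le_iff_le_comap]
    haveI : (Q.comap (algebraMap A B)).IsMaximal := Ideal.isMaximal_comap_of_isIntegral_of_isMaximal Q
    exact (IsLocalRing.eq_maximalIdeal ‹_›).ge
  haveI hBloc : IsLocalRing B := IsLocalRing.of_unique_max_ideal ⟨M, hMmax, hunique⟩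
  have hMeq : IsLocalRing.maximalIdeal B = M := (IsLocalRing.eq_maximalIdeal hMmax).symm
  haveI hlocal : IsLocalHom (algebraMap A B) := ⟨fun a ha => by
    by_contra hna
    have : algebraMap A B a ∈ M := hker ▸ Ideal.mem_map_of_mem _ (show a ∈ IsLocalRing.maximalIdeal A from hna)
    exact hMmax.ne_top (Ideal.eq_top_of_isUnit_mem _ this ha)⟩
  haveI hflat : Module.Flat A B := by
    refine Module.Flat.of_forall_isTrivialRelation fun {l a x} hax => ?_
    obtain ⟨C, hC, _, _, -⟩ := hcover (Finset.univ.image x)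
    have hx : ∀ j, x j ∈ C := fun j => hC (by simp)
    have h0 : ∑ j, a j • (⟨x j, hx j⟩ : C) = 0 := Subtype.ext (by simpa using hax)
    obtain ⟨n, b, z, hb, hb'⟩ := Module.Flat.isTrivialRelation_of_sum_smul_eq_zero (R := A) (M := C) h0
    exact ⟨n, b, fun t => (z t : B), fun j => by simpa using congrArg Subtype.val (hb j), hb'⟩
  refine ⟨B, inferInstance, inferInstance, hBloc, hlocal, hflat, ?_⟩
  let e : (B ⧸ (IsLocalRing.maximalIdeal A).map (algebraMap A B)) ≃+* K :=
    (Ideal.quotEquivOfEq hker).trans (RingHom.quotientKerEquivOfSurjective hsurj)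
  exact ⟨e, fun a => P.ev.commutes a⟩

variable {A : Type u} [CommRing A] [IsLocalRing A] {K : Type u} [Field K]
  [Algebra (IsLocalRing.ResidueField A) K] [Algebra A K] [IsScalarTower A (IsLocalRing.ResidueField A) K]

variable (A K) in
/-- The local ring `A(x)`. -/
theorem exists_inflation_transcendental' {ι : Type u} (x : ι → K)
    (hx : AlgebraicIndependent (IsLocalRing.ResidueField A) x) :
    ∃ (B : Type u) (_ : CommRing B) (_ : Algebra A B) (_ : IsLocalRing B) (ρ : IsLocalRing.ResidueField B →+* K),
      IsLocalHom (algebraMap A B) ∧ Module.Flat A B ∧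
      (IsLocalRing.maximalIdeal A).map (algebraMap A B) = IsLocalRing.maximalIdeal B ∧
      (∀ a : A, ρ (IsLocalRing.residue B (algebraMap A B a)) = algebraMap A K a) ∧
      (∀ i, x i ∈ ρ.range) := by
  classical
  let T := MvPolynomial ι A
  let P : Ideal T := RingHom.ker (aeval x : T →ₐ[A] K)
  haveI : P.IsPrime := RingHom.ker_isPrime _
  let B := Localization.AtPrime P
  have hmax : (IsLocalRing.maximalIdeal A).map (algebraMap A B) = IsLocalRing.maximalIdeal B := by
    have h1 : P.map (algebraMap T B) = ((IsLocalRing.maximalIdeal A).map C).map (algebraMap T B) :=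
      congrArg (Ideal.map (algebraMap T B)) (ker_aeval_eq_map hx)
    rw [Ideal.map_map] at h1
    exact h1.symm.trans Localization.AtPrime.map_eq_maximalIdeal
  haveI hloc : IsLocalHom (algebraMap A B) := ((IsLocalRing.local_hom_TFAE _).out 0 2).2 hmax.le
  let ψ : B →+* K := IsLocalization.lift (M := P.primeCompl) (g := (aeval x : T →ₐ[A] K).toRingHom)
    (fun y => isUnit_iff_ne_zero.2 fun h => y.2 h)
  have hψ : ∀ t, ψ (algebraMap T B t) = aeval x t := fun t => IsLocalization.lift_eq _ t
  have hψm : ∀ z ∈ IsLocalRing.maximalIdeal B, ψ z = 0 := by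
    intro z hz
    have hz' : z ∈ RingHom.ker ψ := by
      rw [← Localization.AtPrime.map_eq_maximalIdeal] at hz
      have hle : P.map (algebraMap T B) ≤ RingHom.ker ψ :=
        Ideal.map_le_iff_le_comap.2 fun t ht => (RingHom.mem_ker.2 ((hψ t).trans ht) : algebraMap T B t ∈ RingHom.ker ψ)
      exact hle hz
    exact hz'
  let ρ : IsLocalRing.ResidueField B →+* K := Ideal.Quotient.lift _ ψ hψm
  refine ⟨B, inferInstance, inferInstance, inferInstance, ρ, hloc, Module.Flat.trans A T B, hmax,
    fun a => ?_, fun i => ⟨IsLocalRing.residue B (algebraMap T B (X i)), ?_⟩⟩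
  · show ψ (algebraMap A B a) = _
    rw [IsScalarTower.algebraMap_apply A T B, hψ]
    exact (aeval x : T →ₐ[A] K).commutes a
  · show ψ (algebraMap T B (X i)) = x i
    rw [hψ, aeval_X]

end Groth.Calg2
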