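import Mathlib
import Groth.Prelude.Def_Found

/-!
Kaplansky: direct summands of sums of countably generated modules; projectives over local rings.
-/

set_option autoImplicit false
universe u

namespace Groth.Calg1

open Submodule

variable {R : Type u} [CommRing R] {M : Type u} [AddCommGroup M] [Module R M]

theorem isCountablyGenerated_iff (p : Submodule R M) :
    CAlg.IsCountablyGenerated R p ↔ ∃ s : Set M, s.Countable ∧ span R s = p := by
  constructor
  · rintro ⟨s, hs, hspan⟩
    refine ⟨p.subtype '' s, hs.image _, ?_⟩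
    rw [← map_span, hspan, map_subtype_top]
  · rintro ⟨s, hs, rfl⟩
    refine ⟨(span R s).subtype ⁻¹' s, hs.preimage (injective_subtype _), ?_⟩
    exact span_span_coe_preimage

lemma sSupIndep_insert_of_disjoint {L : Set (Submodule R M)} (hL : sSupIndep L) {C : Submodule R M}
    (hC : Disjoint C (sSup L)) : sSupIndep (insert C L) := by
  intro b hb
  rcases Set.mem_insert_iff.mp hb with rfl | hbL
  · exact hC.mono_right (sSup_le_sSup fun x hx => (Set.mem_insert_iff.mp hx.1).resolve_left hx.2)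
  · refine Disjoint.mono_right (c := sSup (L \ {b}) ⊔ C) ?_ ?_
    · refine sSup_le fun x hx => ?_
      rcases Set.mem_insert_iff.mp hx.1 with rfl | hxL
      · exact le_sup_right
      · exact le_sup_of_le_left (le_sSup ⟨hxL, hx.2⟩)
    · refine Disjoint.disjoint_sup_right_of_disjoint_sup_left (hL hbL) ?_
      exact hC.symm.mono_left (sup_le (le_sSup hbL) (sSup_le_sSup Set.sdiff_subset))

/-- The sum of the members of a family indexed by a subset. -/
def sumOn {ι : Type u} (N : ι → Submodule R M) (J : Set ι) : Submodule R M := ⨆ i ∈ J, N i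

lemma sumOn_mono {ι : Type u} (N : ι → Submodule R M) {J J' : Set ι} (h : J ⊆ J') :
    sumOn N J ≤ sumOn N J' := biSup_mono fun _ hi => h hi

lemma sumOn_union {ι : Type u} (N : ι → Submodule R M) (J J' : Set ι) :
    sumOn N (J ∪ J') = sumOn N J ⊔ sumOn N J' := iSup_union

lemma le_sumOn {ι : Type u} (N : ι → Submodule R M) {J : Set ι} {i : ι} (h : i ∈ J) :
    N i ≤ sumOn N J := le_biSup N h

lemma exists_countable_support {ι : Type u} (N : ι → Submodule R M) (htop : ⨆ i, N i = ⊤)
    {s : Set M} (hs : s.Countable) : ∃ t : Set ι, t.Countable ∧ s ⊆ sumOn N t := by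
  classical
  have : ∀ x : M, ∃ F : Finset ι, x ∈ ⨆ i ∈ F, N i := fun x =>
    exists_finset_of_mem_iSup N (htop ▸ mem_top)
  choose F hF using this
  refine ⟨⋃ x ∈ s, (F x : Set ι), hs.biUnion fun x _ => (F x).countable_toSet, fun x hx => ?_⟩
  have : (⨆ i ∈ F x, N i) ≤ sumOn N (⋃ y ∈ s, (F y : Set ι)) :=
    iSup₂_le fun i hi => le_sumOn N (Set.mem_biUnion hx hi)
  exact this (hF x)

lemma exists_countable_generators {ι : Type u} (N : ι → Submodule R M)
    (hc : ∀ i, CAlg.IsCountablyGenerated R (N i)) {K : Set ι} (hK : K.Countable) :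
    ∃ s : Set M, s.Countable ∧ span R s = sumOn N K := by
  choose s hs hspan using fun i => (isCountablyGenerated_iff (N i)).mp (hc i)
  refine ⟨⋃ i ∈ K, s i, hK.biUnion fun i _ => hs i, ?_⟩
  simp only [span_iUnion, hspan, sumOn]

/-- Kaplansky, in terms of an idempotent endomorphism. -/
theorem exists_countablyGenerated_decomp {ι : Type u} (N : ι → Submodule R M)
    (hN : iSupIndep N) (htop : ⨆ i, N i = ⊤) (hc : ∀ i, CAlg.IsCountablyGenerated R (N i)) (π : M →ₗ[R] M)
    (hπ : ∀ x, π (π x) = π x) :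
    ∃ L : Set (Submodule R M), sSupIndep L ∧ sSup L = LinearMap.range π ∧
      ∀ C ∈ L, CAlg.IsCountablyGenerated R C := by
  classical
  let T : Set (Set ι × Set (Submodule R M)) :=
    {a | (sumOn N a.1).map π ≤ sumOn N a.1 ∧ sSupIndep a.2 ∧ sSup a.2 = (sumOn N a.1).map π ∧
      ∀ C ∈ a.2, CAlg.IsCountablyGenerated R C}
  obtain ⟨⟨J, L⟩, hmax⟩ := zorn_le₀ T (fun c hcT hchain => by
    refine ⟨(⋃ a ∈ c, a.1, ⋃₀ (Prod.snd '' c)), ⟨?_, ?_, ?_, ?_⟩, fun a ha => ⟨?_, ?_⟩⟩
    · simp only [sumOn, Set.mem_iUnion, iSup_exists, Submodule.map_iSup]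
      refine iSup_le fun i => iSup_le fun a => iSup_le fun ha => iSup_le fun hi => ?_
      refine (map_mono (le_sumOn N hi)).trans ((hcT ha).1.trans ?_)
      refine iSup₂_le fun j hj => ?_
      exact le_iSup_of_le j (le_iSup_of_le a (le_iSup_of_le ha (le_iSup_of_le hj le_rfl)))
    · refine iSupIndep_sUnion_of_directed ?_ ?_
      · rintro _ ⟨a, ha, rfl⟩ _ ⟨b, hb, rfl⟩
        rcases hchain.total ha hb with h | h
        · exact ⟨b.2, ⟨b, hb, rfl⟩, h.2, subset_rfl⟩
        · exact ⟨a.2, ⟨a, ha, rfl⟩, subset_rfl, h.2⟩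
      · rintro _ ⟨a, ha, rfl⟩
        exact (hcT ha).2.1
    · refine le_antisymm (sSup_le ?_) ?_
      · rintro C ⟨_, ⟨a, ha, rfl⟩, hC⟩
        exact (le_sSup hC).trans ((hcT ha).2.2.1.le.trans
          (map_mono (sumOn_mono N (Set.subset_biUnion_of_mem ha))))
      · simp only [sumOn, Set.mem_iUnion, iSup_exists, Submodule.map_iSup]
        refine iSup_le fun i => iSup_le fun a => iSup_le fun ha => iSup_le fun hi => ?_
        refine (map_mono (le_sumOn N hi)).trans ((hcT ha).2.2.1.ge.trans ?_)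
        exact sSup_le_sSup (Set.subset_sUnion_of_mem ⟨a, ha, rfl⟩)
    · rintro C ⟨_, ⟨a, ha, rfl⟩, hC⟩
      exact (hcT ha).2.2.2 C hC
    · exact Set.subset_biUnion_of_mem ha
    · exact Set.subset_sUnion_of_mem ⟨a, ha, rfl⟩)
  obtain ⟨hst, hind, hsup, hcg⟩ := hmax.prop
  refine ⟨L, hind, ?_, hcg⟩
  by_cases hall : ∀ i, i ∈ J
  · rw [hsup, show sumOn N J = ⊤ from top_le_iff.mp (htop ▸ iSup_le fun i => le_sumOn N (hall i)),
      Submodule.map_top]
  · exfalso
    push Not at hall
    obtain ⟨i, hi⟩ := hall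
    -- countable closure of `i` under `π`
    have step : ∀ K : {K : Set ι // K.Countable}, ∃ K' : {K : Set ι // K.Countable},
        (sumOn N K.1).map π ≤ sumOn N K'.1 := by
      intro K
      obtain ⟨s, hs, hspan⟩ := exists_countable_generators N hc K.2
      obtain ⟨t, ht, hst'⟩ := exists_countable_support N htop (hs.image π)
      exact ⟨⟨t, ht⟩, by rw [← hspan, map_span, span_le]; exact hst'⟩
    choose g hg using step
    let Ks : ℕ → {K : Set ι // K.Countable} := fun n => Nat.rec ⟨{i}, Set.countable_singleton i⟩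
      (fun _ K => g K) n
    let K : Set ι := ⋃ n, (Ks n).1
    have hK : K.Countable := Set.countable_iUnion fun n => (Ks n).2
    have hKπ : (sumOn N K).map π ≤ sumOn N K := by
      simp only [sumOn, K, Set.mem_iUnion, iSup_exists, Submodule.map_iSup]
      refine iSup_le fun j => iSup_le fun n => iSup_le fun hj => ?_
      refine (map_mono (le_sumOn N hj)).trans ((hg (Ks n)).trans ?_)
      exact iSup₂_le fun k hk => le_iSup_of_le k (le_iSup_of_le (n + 1) (le_iSup_of_le hk le_rfl))
    let J' := J ∪ K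
    have hJ' : (sumOn N J').map π ≤ sumOn N J' := by
      rw [sumOn_union, Submodule.map_sup]; exact sup_le_sup hst hKπ
    -- complement of `π (N_J)` inside `π (N_J')`
    let A := (sumOn N J).map π
    let D := (sumOn N J).map (LinearMap.id - π) ⊔ sumOn N (K \ J)
    let B := (sumOn N J').map π
    let C := B ⊓ D
    have hsplit : sumOn N J' = sumOn N J ⊔ sumOn N (K \ J) := by
      rw [← sumOn_union, Set.union_sdiff_self]
    have hAB : A ≤ B := map_mono (sumOn_mono N Set.subset_union_left)
    have hBD : B ≤ A ⊔ D := by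
      refine hJ'.trans ?_
      rw [hsplit]
      refine sup_le ?_ (le_sup_of_le_right le_sup_right)
      intro a ha
      rw [← add_sub_cancel (π a) a]
      exact add_mem (mem_sup_left (mem_map_of_mem ha))
        (mem_sup_right (mem_sup_left ⟨a, ha, rfl⟩))
    have hAC : B ≤ A ⊔ C := by
      show B ≤ A ⊔ B ⊓ D
      rw [inf_comm, ← sup_inf_assoc_of_le _ hAB]
      exact le_inf hBD le_rfl
    have hdisj : Disjoint C A := by
      rw [disjoint_def]
      rintro x ⟨-, hxD⟩ hxA
      obtain ⟨y, hy, b, hb, rfl⟩ := mem_sup.mp hxD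
      obtain ⟨a, ha, rfl⟩ := hy
      have hbJ : b ∈ sumOn N J := by
        have h1 : (LinearMap.id - π : M →ₗ[R] M) a + b ∈ sumOn N J := hst hxA
        have h2 : (LinearMap.id - π : M →ₗ[R] M) a ∈ sumOn N J :=
          sub_mem ha (hst (mem_map_of_mem ha))
        simpa using sub_mem h1 h2
      have hb0 : b = 0 :=
        disjoint_def.mp (hN.disjoint_biSup_biSup Set.disjoint_sdiff_right) b hbJ hb
      obtain ⟨z, -, hz⟩ := hxA
      have h3 := congrArg π hz
      rw [hπ, hb0, add_zero, LinearMap.sub_apply, LinearMap.id_apply, map_sub, hπ, sub_self] at h3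
      rw [← hz, h3]
    obtain ⟨s, hs, hspan⟩ := exists_countable_generators N hc (hK.mono (Set.sdiff_subset (t := J)))
    have hdec : ∀ b : s, ∃ c ∈ C, π b - c ∈ A := by
      intro b
      have hbB : π b ∈ B := mem_map_of_mem (hsplit ▸ mem_sup_right (hspan ▸ subset_span b.2))
      obtain ⟨a, ha, c, hc', he⟩ := mem_sup.mp (hAC hbB)
      exact ⟨c, hc', by rw [← he]; simpa using ha⟩
    choose c hcC hcA using hdec
    have : Countable s := hs.to_subtype
    let C₀ := span R (Set.range c)
    have hC₀C : C₀ ≤ C := span_le.mpr (Set.range_subset_iff.mpr hcC)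
    have hBC₀ : B ≤ A ⊔ C₀ := by
      show (sumOn N J').map π ≤ A ⊔ C₀
      rw [hsplit, Submodule.map_sup]
      refine sup_le le_sup_left ?_
      rw [← hspan, map_span, span_le]
      rintro _ ⟨b, hb, rfl⟩
      rw [← sub_add_cancel (π b) (c ⟨b, hb⟩)]
      exact add_mem (mem_sup_left (hcA ⟨b, hb⟩)) (mem_sup_right (subset_span ⟨⟨b, hb⟩, rfl⟩))
    have hCC₀ : C = C₀ := le_antisymm (by
      intro x hx
      obtain ⟨a, ha, c', hc', rfl⟩ := mem_sup.mp (hBC₀ hx.1)
      have haC : a ∈ C := by simpa using sub_mem hx (hC₀C hc')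
      rw [disjoint_def.mp hdisj a haC ha, zero_add]
      exact hc') hC₀C
    have hCcg : CAlg.IsCountablyGenerated R C :=
      (isCountablyGenerated_iff C).mpr ⟨_, Set.countable_range c, hCC₀.symm⟩
    have hT' : (J', insert C L) ∈ T := by
      refine ⟨hJ', sSupIndep_insert_of_disjoint hind (hsup.symm ▸ hdisj), ?_, ?_⟩
      · show sSup (insert C L) = B
        rw [sSup_insert, hsup]
        exact le_antisymm (sup_le inf_le_left hAB) (hAC.trans (le_of_eq (sup_comm A C)))
      · rintro C' (rfl | hC')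
        · exact hCcg
        · exact hcg C' hC'
    have hle := hmax.2 hT' ⟨Set.subset_union_left, Set.subset_insert _ _⟩
    exact hi (hle.1 (Set.mem_union_right _ (Set.mem_iUnion.mpr ⟨0, rfl⟩)))

theorem exists_internal_countablyGenerated_of_isCompl {ι : Type u} (N : ι → Submodule R M)
    (hN : iSupIndep N) (htop : ⨆ i, N i = ⊤) (hc : ∀ i, CAlg.IsCountablyGenerated R (N i))
    (P Q : Submodule R M) (hPQ : IsCompl P Q) :
    ∃ (κ : Type u) (L : κ → Submodule R P), (iSupIndep L ∧ ⨆ k, L k = ⊤) ∧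
      ∀ k, CAlg.IsCountablyGenerated R (L k) := by
  obtain ⟨L, hind, hsup, hcg⟩ := exists_countablyGenerated_decomp N hN htop hc
    (P.subtype ∘ₗ P.projectionOnto Q hPQ) (fun x => by simp)
  have hr : LinearMap.range (P.subtype ∘ₗ P.projectionOnto Q hPQ) = P := by
    rw [LinearMap.range_comp_of_range_eq_top]
    · exact P.range_subtype
    · exact LinearMap.range_eq_top.mpr fun x => ⟨x, by simp⟩
  rw [hr] at hsup
  have hle : ∀ C : L, (C : Submodule R M) ≤ P := fun C => hsup ▸ le_sSup C.2
  refine ⟨L, fun C => (C : Submodule R M).comap P.subtype, ⟨?_, ?_⟩, fun C => ?_⟩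
  · intro C
    rw [disjoint_def]
    intro x hx hx'
    have h1 : (x : M) ∈ sSup (L \ {(C : Submodule R M)}) := by
      have := mem_map_of_mem (f := P.subtype) hx'
      simp only [Submodule.map_iSup] at this
      have h2 : (⨆ C', ⨆ (_ : C' ≠ C), ((C' : Submodule R M).comap P.subtype).map P.subtype)
          ≤ sSup (L \ {(C : Submodule R M)}) := iSup₂_le fun C' hC' =>
        (map_comap_le _ _).trans (le_sSup ⟨C'.2, fun e => hC' (Subtype.ext e)⟩)
      exact h2 this
    exact Subtype.ext (disjoint_def.mp (hind C.2) _ hx h1)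
  · apply map_injective_of_injective (injective_subtype P)
    rw [Submodule.map_iSup, Submodule.map_subtype_top]
    conv_rhs => rw [← hsup, sSup_eq_iSup']
    exact iSup_congr fun C => by rw [map_comap_subtype, inf_eq_right.mpr (hle C)]
  · obtain ⟨s, hs, hspan⟩ := (isCountablyGenerated_iff _).mp (hcg C C.2)
    refine (isCountablyGenerated_iff _).mpr ⟨P.subtype ⁻¹' s, hs.preimage (injective_subtype P), ?_⟩
    apply map_injective_of_injective (injective_subtype P)
    rw [map_span, map_comap_subtype, inf_eq_right.mpr (hle C), ← hspan, Set.image_preimage_eq_of_subset]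
    rintro x hx
    exact ⟨⟨x, hle C (hspan ▸ subset_span hx)⟩, rfl⟩

end Groth.Calg1

namespace Groth.Calg1

open Submodule

/-- Over a local ring, an element of a projective module lies in a finite free direct summand. -/
theorem exists_free_summand_of_mem {R : Type u} [CommRing R] [IsLocalRing R] {P : Type u}
    [AddCommGroup P] [Module R P] [Module.Projective R P] (x : P) :
    ∃ (n : ℕ) (ψ : (Fin n → R) →ₗ[R] P) (p : P →ₗ[R] (Fin n → R)),
      p ∘ₗ ψ = LinearMap.id ∧ x ∈ LinearMap.range ψ := by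
  classical
  obtain ⟨s, hs⟩ := Module.projective_def'.mp ‹Module.Projective R P›
  let π : (P →₀ R) →ₗ[R] P := Finsupp.linearCombination R id
  let y := s x
  have hπs : ∀ z, π (s z) = z := LinearMap.congr_fun hs
  -- minimal finite free summand of the free module containing `y`
  have hex : ∃ (n : ℕ) (φ : (Fin n → R) →ₗ[R] (P →₀ R)) (q : (P →₀ R) →ₗ[R] (Fin n → R)),
      q ∘ₗ φ = LinearMap.id ∧ y ∈ LinearMap.range φ := by
    let e := y.support.equivFin
    refine ⟨y.support.card,
      Fintype.linearCombination R fun i => Finsupp.single (e.symm i : P) 1,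
      LinearMap.pi fun i => Finsupp.lapply (e.symm i : P), ?_, fun i => y (e.symm i), ?_⟩
    · refine LinearMap.pi_ext' fun i => LinearMap.ext_ring (funext fun j => ?_)
      simp [Fintype.linearCombination_apply_single, Pi.single_apply, Finsupp.single_apply,
        eq_comm (a := i), e.symm.injective.eq_iff, ← Subtype.ext_iff]
    · conv_rhs => rw [← Finsupp.sum_single y, Finsupp.sum, ← Finset.sum_coe_sort]
      rw [Fintype.linearCombination_apply, ← e.sum_comp]
      simp
  obtain ⟨φ, q, hqφ, a, ha⟩ := Nat.find_spec hex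
  have hmin : ∀ m, m < Nat.find hex → ¬ _ := fun m hm => Nat.find_min hex hm
  generalize hn : Nat.find hex = n at φ q hqφ a ha hmin
  have hq : ∀ v, q (φ v) = v := LinearMap.congr_fun hqφ
  -- no coefficient is in the span of the others
  have hrel : ∀ c : Fin n → R, ∑ i, c i * a i = 0 → ∀ i, c i ∈ IsLocalRing.maximalIdeal R := by
    intro c hc i hu
    obtain ⟨k, rfl⟩ : ∃ k, n = k + 1 := ⟨n - 1, by have := i.2; omega⟩
    refine hmin k (by omega) ?_
    obtain ⟨v, hv⟩ := hu.exists_left_inv
    -- `a i = ∑ d_j a_j` over the others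
    let d : Fin k → R := fun j => -(v * c (i.succAbove j))
    let emb : (Fin k → R) →ₗ[R] (Fin (k + 1) → R) := LinearMap.pi fun l =>
      i.succAboveCases (Fintype.linearCombination R d) (fun j => LinearMap.proj j) l
    have he : ∀ w j, emb w (i.succAbove j) = w j := fun w j => by simp [emb]
    refine ⟨φ ∘ₗ emb, LinearMap.funLeft R R i.succAbove ∘ₗ q, ?_, fun j => a (i.succAbove j), ?_⟩
    · refine LinearMap.ext fun w => funext fun j => ?_
      simp [hq, LinearMap.funLeft_apply, he]
    · rw [LinearMap.comp_apply, show emb (fun j => a (i.succAbove j)) = a from funext fun l => ?_, ha]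
      refine i.succAboveCases ?_ (fun j => he _ j) l
      rw [Fin.sum_univ_succAbove _ i] at hc
      have hi : emb (fun j => a (i.succAbove j)) i = ∑ j, a (i.succAbove j) • d j := by
        simp [emb, Fintype.linearCombination_apply]
      rw [hi]
      simp only [d, smul_eq_mul, mul_neg, Finset.sum_neg_distrib]
      have hmul : ∑ j, a (i.succAbove j) * (v * c (i.succAbove j)) =
          v * ∑ j, c (i.succAbove j) * a (i.succAbove j) := by
        rw [Finset.mul_sum]; exact Finset.sum_congr rfl fun j _ => by ring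
      rw [hmul]
      linear_combination (-v) * hc + (a i) * hv
  let ψ := π ∘ₗ φ
  let T := LinearMap.toMatrix' (q ∘ₗ s ∘ₗ ψ)
  have hTa : ∀ j, ∑ i, T j i * a i = a j := fun j => by
    have : T.mulVec a = a := by
      rw [LinearMap.toMatrix'_mulVec, LinearMap.comp_apply, LinearMap.comp_apply, LinearMap.comp_apply,
        ha, hπs, show s x = φ a from ha.symm, hq]
    exact congrFun this j
  have hT : T.map (IsLocalRing.residue R) = 1 := by
    ext j i
    have := hrel (fun i => T j i - (if j = i then 1 else 0)) (by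
      simp [sub_mul, Finset.sum_sub_distrib, hTa]) i
    rw [← Ideal.Quotient.eq_zero_iff_mem, map_sub, sub_eq_zero] at this
    rw [Matrix.map_apply, Matrix.one_apply]
    refine this.trans ?_
    split_ifs <;> first | exact map_one _ | exact map_zero _
  have hu : IsUnit T.det := by
    refine (isUnit_map_iff (IsLocalRing.residue R) _).mp ?_
    rw [RingHom.map_det, RingHom.mapMatrix_apply, hT, Matrix.det_one]
    exact isUnit_one
  refine ⟨n, ψ, Matrix.toLin' T⁻¹ ∘ₗ q ∘ₗ s, ?_, a, by rw [LinearMap.comp_apply, ha, hπs]⟩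
  rw [LinearMap.comp_assoc, LinearMap.comp_assoc,
    show q ∘ₗ s ∘ₗ ψ = Matrix.toLin' T from (Matrix.toLin'_toMatrix' _).symm,
    ← Matrix.toLin'_mul, Matrix.nonsing_inv_mul _ hu, Matrix.toLin'_one]

theorem free_of_countablyGenerated {R : Type u} [CommRing R] [IsLocalRing R] {P : Type u}
    [AddCommGroup P] [Module R P] [Module.Projective R P] (hc : CAlg.IsCountablyGenerated R P) :
    Module.Free R P := by
  classical
  obtain ⟨s, hs, hspan⟩ := hc
  obtain ⟨g, hg⟩ : ∃ g : ℕ → P, s ⊆ Set.range g := by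
    rcases s.eq_empty_or_nonempty with rfl | hne
    · exact ⟨0, Set.empty_subset _⟩
    · obtain ⟨g, hg⟩ := hs.exists_eq_range hne
      exact ⟨g, hg.le⟩
  -- idempotents `e` cutting off the remaining part
  have step : ∀ (e : {e : P →ₗ[R] P // e ∘ₗ e = e}) (x : P), ∃ (n : ℕ) (ψ : (Fin n → R) →ₗ[R] P)
      (p : P →ₗ[R] (Fin n → R)) (e' : {e : P →ₗ[R] P // e ∘ₗ e = e}),
      p ∘ₗ ψ = LinearMap.id ∧ e.1 ∘ₗ ψ = ψ ∧ p ∘ₗ e.1 = p ∧ e'.1 = e.1 - ψ ∘ₗ p ∧
        e.1 x ∈ LinearMap.range ψ := by
    rintro ⟨e, he⟩ x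
    let V := LinearMap.range e
    let r : P →ₗ[R] V := e.rangeRestrict
    have hr : r ∘ₗ V.subtype = LinearMap.id := LinearMap.ext fun v => by
      obtain ⟨w, hw⟩ := v.2
      refine Subtype.ext ?_
      show e v.1 = v.1
      rw [← hw]; exact LinearMap.congr_fun he w
    have : Module.Projective R V := Module.Projective.of_split V.subtype r hr
    obtain ⟨n, ψ₀, p₀, hp, hx⟩ := exists_free_summand_of_mem (R := R) (P := ↥V) (r x)
    have h1 : e ∘ₗ V.subtype ∘ₗ ψ₀ = V.subtype ∘ₗ ψ₀ := LinearMap.ext fun v => by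
      have := congrArg Subtype.val (LinearMap.congr_fun hr (ψ₀ v))
      exact this
    have h2 : (p₀ ∘ₗ r) ∘ₗ e = p₀ ∘ₗ r := LinearMap.ext fun v => congrArg p₀
      (Subtype.ext (LinearMap.congr_fun he v))
    have h3 : (p₀ ∘ₗ r) ∘ₗ (V.subtype ∘ₗ ψ₀) = LinearMap.id := by
      rw [LinearMap.comp_assoc, ← LinearMap.comp_assoc _ _ r, hr, LinearMap.id_comp, hp]
    refine ⟨n, V.subtype ∘ₗ ψ₀, p₀ ∘ₗ r, ⟨e - (V.subtype ∘ₗ ψ₀) ∘ₗ (p₀ ∘ₗ r), ?_⟩, h3, h1, h2, rfl, ?_⟩
    · refine LinearMap.ext fun v => ?_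
      have e1 := LinearMap.congr_fun he v
      have e2 := LinearMap.congr_fun h1 (p₀ (r v))
      have e3 := LinearMap.congr_fun h2 v
      have e4 := LinearMap.congr_fun h3 (p₀ (r v))
      simp only [LinearMap.comp_apply, LinearMap.sub_apply, LinearMap.id_apply] at e1 e2 e3 e4 ⊢
      simp only [map_sub, e1, e2, e3, e4, sub_self, map_zero, sub_zero]
    · obtain ⟨v, hv⟩ := hx
      exact ⟨v, congrArg Subtype.val hv⟩
  choose n ψ p nxt hid heψ hpe hnxt hx using step
  let E : ℕ → {e : P →ₗ[R] P // e ∘ₗ e = e} := fun k => Nat.rec ⟨LinearMap.id, rfl⟩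
    (fun k e => nxt e (g k)) k
  let F : ℕ → Submodule R P := fun k => LinearMap.range (ψ (E k) (g k))
  have hEsucc : ∀ k, (E (k + 1)).1 = (E k).1 - ψ (E k) (g k) ∘ₗ p (E k) (g k) := fun k => hnxt _ _
  have hEle : ∀ k l, k ≤ l → (E k).1 ∘ₗ (E l).1 = (E l).1 ∧ (E l).1 ∘ₗ (E k).1 = (E l).1 := by
    intro k l hkl
    induction l, hkl using Nat.le_induction with
    | base => exact ⟨(E k).2, (E k).2⟩
    | succ l hkl ih =>
      have a1 : (E k).1 ∘ₗ ψ (E l) (g l) = ψ (E l) (g l) := by
        conv_lhs => rw [← heψ (E l) (g l), ← LinearMap.comp_assoc, ih.1]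
        exact heψ _ _
      have a2 : p (E l) (g l) ∘ₗ (E k).1 = p (E l) (g l) := by
        conv_lhs => rw [← hpe (E l) (g l), LinearMap.comp_assoc, ih.2]
        exact hpe _ _
      rw [hEsucc, LinearMap.comp_sub, LinearMap.sub_comp, ih.1, ih.2, ← LinearMap.comp_assoc, a1,
        LinearMap.comp_assoc, a2]
      exact ⟨rfl, rfl⟩
  let r : ℕ → (P →ₗ[R] P) := fun k => ψ (E k) (g k) ∘ₗ p (E k) (g k)
  have hid' : ∀ k, ∀ y ∈ F k, r k y = y := by
    rintro k _ ⟨v, rfl⟩
    exact congrArg (ψ _ _) (LinearMap.congr_fun (hid (E k) (g k)) v)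
  have hkill : ∀ k l, k ≠ l → ∀ y ∈ F l, r k y = 0 := by
    rintro k l hkl _ ⟨v, rfl⟩
    rcases lt_or_gt_of_ne hkl with h | h
    · have h1 : ψ (E l) (g l) v = (E (k + 1)).1 (ψ (E l) (g l) v) := by
        conv_rhs => rw [← heψ (E l) (g l), LinearMap.comp_apply, ← LinearMap.comp_apply (E (k+1)).1,
          (hEle (k + 1) l h).1]
        exact (LinearMap.congr_fun (heψ (E l) (g l)) v).symm
      rw [h1]
      have : p (E k) (g k) ∘ₗ (E (k + 1)).1 = 0 := by
        rw [hEsucc, LinearMap.comp_sub, hpe, ← LinearMap.comp_assoc, hid, LinearMap.id_comp, sub_self]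
      show ψ _ _ (p _ _ ((E (k + 1)).1 _)) = 0
      rw [← LinearMap.comp_apply (p _ _), this, LinearMap.zero_apply, map_zero]
    · have h1 : p (E k) (g k) ∘ₗ (E (l + 1)).1 = p (E k) (g k) := by
        conv_lhs => rw [← hpe (E k) (g k), LinearMap.comp_assoc, (hEle (l + 1) k h).2]
        exact hpe _ _
      have h2 : (E (l + 1)).1 ∘ₗ ψ (E l) (g l) = 0 := by
        rw [hEsucc, LinearMap.sub_comp, heψ, LinearMap.comp_assoc, hid, LinearMap.comp_id, sub_self]
      show ψ _ _ (p _ _ (ψ _ _ v)) = 0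
      rw [← h1, LinearMap.comp_apply, ← LinearMap.comp_apply (E (l + 1)).1, h2, LinearMap.zero_apply,
        map_zero, map_zero]
  have hind : iSupIndep F := by
    intro k
    rw [disjoint_def]
    intro y hy hy'
    have hle : (⨆ l, ⨆ (_ : l ≠ k), F l) ≤ LinearMap.ker (r k) :=
      iSup₂_le fun l hl z hz => hkill k l (Ne.symm hl) z hz
    rw [← hid' k y hy]
    exact LinearMap.mem_ker.mp (hle hy')
  have hdec : ∀ k y, y - (E k).1 y ∈ ⨆ l, F l := by
    intro k y
    induction k with
    | zero => show y - y ∈ _; rw [sub_self]; exact zero_mem _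
    | succ k ih =>
      rw [hEsucc, LinearMap.sub_apply, sub_sub_eq_add_sub, add_comm, add_sub_assoc]
      exact add_mem (mem_iSup_of_mem k (LinearMap.mem_range_self _ _)) ih
  have htop : ⨆ l, F l = ⊤ := by
    rw [eq_top_iff, ← hspan, span_le]
    intro y hy
    obtain ⟨k, rfl⟩ := hg hy
    rw [← sub_add_cancel (g k) ((E k).1 (g k))]
    exact add_mem (hdec k _) (mem_iSup_of_mem k (hx (E k) (g k)))
  have hint : DirectSum.IsInternal F :=
    (DirectSum.isInternal_submodule_iff_iSupIndep_and_iSup_eq_top F).mpr ⟨hind, htop⟩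
  have : ∀ k, Module.Free R (F k) := fun k =>
    Module.Free.of_equiv (LinearEquiv.ofInjective (ψ (E k) (g k)) fun a b h => by
      have e1 := LinearMap.congr_fun (hid (E k) (g k))
      simp only [LinearMap.comp_apply, LinearMap.id_apply] at e1
      rw [← e1 a, h, e1])
  exact Module.Free.of_equiv (LinearEquiv.ofBijective (DirectSum.coeLinearMap F) hint)

theorem exists_internal_countablyGenerated_of_projective {R : Type u} [CommRing R] (P : Type u)
    [AddCommGroup P] [Module R P] [Module.Projective R P] :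
    ∃ (κ : Type u) (L : κ → Submodule R P), (iSupIndep L ∧ ⨆ k, L k = ⊤) ∧
      ∀ k, CAlg.IsCountablyGenerated R (L k) := by
  obtain ⟨s, hs⟩ := Module.projective_def'.mp ‹Module.Projective R P›
  let π : (P →₀ R) →ₗ[R] P := Finsupp.linearCombination R id
  have hπs : ∀ z, π (s z) = z := LinearMap.congr_fun hs
  let b := Finsupp.basisSingleOne (R := R) (ι := P)
  let N : P → Submodule R (P →₀ R) := fun i => R ∙ b i
  have hN : iSupIndep N := b.linearIndependent.iSupIndep_span_singleton
  have htop : ⨆ i, N i = ⊤ := by rw [← span_range_eq_iSup, b.span_eq]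
  obtain ⟨L, hind, hsup, hcg⟩ := exists_countablyGenerated_decomp N hN htop (fun i =>
    (isCountablyGenerated_iff _).mpr ⟨_, Set.countable_singleton _, rfl⟩) (s ∘ₗ π)
    (fun x => by simp [hπs])
  have hker : Disjoint (LinearMap.range (s ∘ₗ π)) (LinearMap.ker π) := by
    rw [disjoint_def]
    rintro _ ⟨y, rfl⟩ hx
    rw [LinearMap.mem_ker, LinearMap.comp_apply, hπs] at hx
    rw [LinearMap.comp_apply, hx, map_zero]
  refine ⟨L, fun C => (C : Submodule R (P →₀ R)).map π, ⟨?_, ?_⟩, fun C => ?_⟩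
  · intro C
    rw [disjoint_def]
    intro z hz hz'
    obtain ⟨x, hx, rfl⟩ := hz
    have hle : (⨆ C', ⨆ (_ : C' ≠ C), ((C' : Submodule R (P →₀ R)).map π)) ≤
        (sSup (L \ {(C : Submodule R (P →₀ R))})).map π := iSup₂_le fun C' hC' =>
      map_mono (le_sSup ⟨C'.2, fun e => hC' (Subtype.ext e)⟩)
    obtain ⟨x', hx', he⟩ := hle hz'
    have h1 : x - x' ∈ LinearMap.range (s ∘ₗ π) :=
      sub_mem (hsup ▸ le_sSup C.2 hx) (hsup ▸ (sSup_le_sSup (Set.sdiff_subset (t := {(C : Submodule R (P →₀ R))}) : L \ _ ⊆ L)) hx')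
    have h0 := disjoint_def.mp hker _ h1 (by simp [he])
    rw [sub_eq_zero.mp h0] at hx
    rw [← he, disjoint_def.mp (hind C.2) x' hx hx', map_zero]
  · rw [← Submodule.map_iSup, ← sSup_eq_iSup', hsup, ← LinearMap.range_comp]
    rw [eq_top_iff]
    exact fun z _ => ⟨s z, by simp [hπs]⟩
  · obtain ⟨t, ht, hspan⟩ := (isCountablyGenerated_iff _).mp (hcg C C.2)
    exact (isCountablyGenerated_iff _).mpr ⟨π '' t, ht.image _, by rw [← map_span, hspan]⟩

theorem free_of_projective {R : Type u} [CommRing R] [IsLocalRing R] (P : Type u)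
    [AddCommGroup P] [Module R P] [Module.Projective R P] : Module.Free R P := by
  classical
  obtain ⟨κ, L, hL, hc⟩ := exists_internal_countablyGenerated_of_projective (R := R) P
  have hint := (DirectSum.isInternal_submodule_iff_iSupIndep_and_iSup_eq_top L).mpr hL
  let e := LinearEquiv.ofBijective (DirectSum.coeLinearMap L) hint
  have : ∀ k, Module.Free R (L k) := fun k => by
    have : Module.Projective R (L k) := Module.Projective.of_split (L k).subtype
      ((DirectSum.component R κ (fun k => L k) k) ∘ₗ e.symm.toLinearMap) (LinearMap.ext fun x => by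
        have he : e.symm (x : P) = DirectSum.lof R κ (fun k => L k) k x := by
          rw [LinearEquiv.symm_apply_eq]; exact (DirectSum.coeLinearMap_lof L k x).symm
        simp [he])
    exact free_of_countablyGenerated (hc k)
  exact Module.Free.of_equiv e

end Groth.Calg1
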