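import Mathlib

/-!
Lazard's theorem.
-/

set_option autoImplicit false

universe u

open CategoryTheory Limits

namespace Groth.Calg1

variable (R : Type u) [CommRing R] (M : Type u) [AddCommGroup M] [Module R M]

/-- A finite free module mapped to `M`. -/
structure FreeOver : Type u where
  n : ℕ
  v : (Fin n →₀ R) →ₗ[R] M

namespace FreeOver

variable {R M}

/-- Morphisms of finite free modules over `M`. -/
def Hom (i j : FreeOver R M) : Type u :=
  {φ : (Fin i.n →₀ R) →ₗ[R] (Fin j.n →₀ R) // j.v ∘ₗ φ = i.v}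

noncomputable instance : SmallCategory (FreeOver R M) where
  Hom := Hom
  id i := ⟨LinearMap.id, LinearMap.comp_id _⟩
  comp u w := ⟨w.1 ∘ₗ u.1, by rw [← LinearMap.comp_assoc, w.2, u.2]⟩
  id_comp u := Subtype.ext (LinearMap.comp_id _)
  comp_id u := Subtype.ext (LinearMap.id_comp _)
  assoc u w z := Subtype.ext (LinearMap.comp_assoc _ _ _).symm

theorem isFiltered [Module.Flat R M] : IsFiltered (FreeOver R M) := by
  haveI : Nonempty (FreeOver R M) := ⟨⟨0, 0⟩⟩
  refine { nonempty := inferInstance, cocone_objs := fun i j => ?_, cocone_maps := fun i j f g => ?_ }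
  · let e : (Fin (i.n + j.n) →₀ R) ≃ₗ[R] (Fin i.n →₀ R) × (Fin j.n →₀ R) :=
      (Finsupp.domLCongr finSumFinEquiv.symm).trans (Finsupp.sumFinsuppLEquivProdFinsupp R)
    exact ⟨⟨i.n + j.n, (i.v.coprod j.v) ∘ₗ e.toLinearMap⟩,
      ⟨e.symm.toLinearMap ∘ₗ LinearMap.inl R _ _, LinearMap.ext fun x => by simp⟩,
      ⟨e.symm.toLinearMap ∘ₗ LinearMap.inr R _ _, LinearMap.ext fun x => by simp⟩, trivial⟩
  · obtain ⟨k, a, y, hy, ha⟩ := Module.Flat.exists_factorization_of_comp_eq_zero_of_free
      (f := f.1 - g.1) (x := j.v) (by rw [LinearMap.comp_sub, f.2, g.2, sub_self])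
    refine ⟨⟨k, y⟩, ⟨a, hy.symm⟩, Subtype.ext ?_⟩
    exact sub_eq_zero.1 ((LinearMap.comp_sub _ _ _).symm.trans ha)

variable (R M) in
/-- The diagram of finite free modules over `M`. -/
noncomputable def diagram : FreeOver R M ⥤ ModuleCat.{u} R where
  obj i := ModuleCat.of R (Fin i.n →₀ R)
  map u := ModuleCat.ofHom u.1
  map_id _ := rfl
  map_comp _ _ := rfl

variable (R M) in
/-- The tautological cocone. -/
noncomputable def cocone : Cocone (diagram R M) where
  pt := ModuleCat.of R M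
  ι :=
    { app := fun i => ModuleCat.ofHom i.v
      naturality := fun i j u => ModuleCat.hom_ext u.2 }

theorem nonempty_isColimit [Module.Flat R M] : Nonempty (IsColimit (cocone R M)) := by
  haveI := isFiltered (R := R) (M := M)
  refine ⟨isColimitOfReflects (forget (ModuleCat.{u} R)) (Types.FilteredColimit.isColimitOf' _ _
    (fun x => ?_) fun i x y h => ?_)⟩
  · let x' : M := x
    refine ⟨⟨1, Finsupp.linearCombination R fun _ => x'⟩, Finsupp.single 0 1, ?_⟩
    exact (show (Finsupp.linearCombination R fun _ : Fin 1 => x') (Finsupp.single 0 1) = x' by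
      simp).symm
  · let x' : Fin i.n →₀ R := x
    let y' : Fin i.n →₀ R := y
    have h' : i.v x' = i.v y' := h
    obtain ⟨k, a, w, hw, ha⟩ := Module.Flat.exists_factorization_of_apply_eq_zero_of_free
      (f := x' - y') (x := i.v) (by rw [map_sub, h', sub_self])
    refine ⟨⟨k, w⟩, ⟨a, hw.symm⟩, ?_⟩
    rw [map_sub, sub_eq_zero] at ha
    exact ha

end FreeOver

theorem exists_directed_colimit_of_flat [Module.Flat R M] :
    ∃ (J : Type u) (_ : Preorder J) (_ : IsDirected J (fun a b => a ≤ b)) (_ : Nonempty J)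
      (F : J ⥤ ModuleCat.{u} R), (∀ j, Module.Finite R (F.obj j) ∧ Module.Free R (F.obj j)) ∧
      Nonempty (colimit F ≅ ModuleCat.of R M) := by
  haveI := FreeOver.isFiltered (R := R) (M := M)
  obtain ⟨α, _, _, _, F, hF⟩ := IsFiltered.exists_directed (FreeOver R M)
  obtain ⟨hc⟩ := FreeOver.nonempty_isColimit (R := R) (M := M)
  haveI := hF
  exact ⟨α, inferInstance, inferInstance, inferInstance, F ⋙ FreeOver.diagram R M,
    fun j => ⟨inferInstanceAs (Module.Finite R (Fin _ →₀ R)), inferInstanceAs (Module.Free R (Fin _ →₀ R))⟩,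
    ⟨(colimit.isColimit _).coconePointUniqueUpToIso
      ((Functor.Final.isColimitWhiskerEquiv F _).symm hc)⟩⟩

theorem flat_of_isColimit {J : Type u} [Preorder J] [IsDirected J (fun a b => a ≤ b)] [Nonempty J]
    (F : J ⥤ ModuleCat.{u} R) (hF : ∀ j, Module.Finite R (F.obj j) ∧ Module.Free R (F.obj j))
    (c : Cocone F) (hc : IsColimit c) : Module.Flat R c.pt := by
  classical
  refine Module.Flat.of_forall_exists_factorization fun {l f x} hx => ?_
  choose j z hz using fun t : Fin l => Concrete.isColimit_exists_rep F hc (x (Finsupp.single t 1))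
  obtain ⟨j₀, hj₀⟩ := Finite.exists_le j
  let z' : Fin l → F.obj j₀ := fun t => F.map (homOfLE (hj₀ t)) (z t)
  let a₀ : (Fin l →₀ R) →ₗ[R] F.obj j₀ := Finsupp.linearCombination R z'
  have hz' : (c.ι.app j₀).hom ∘ₗ a₀ = x := Finsupp.lhom_ext fun t r => by
    have h1 : (c.ι.app j₀).hom (z' t) = x (Finsupp.single t 1) := by
      rw [← hz t, ← c.w (homOfLE (hj₀ t))]
      rfl
    rw [LinearMap.comp_apply, Finsupp.linearCombination_single, map_smul, h1, ← map_smul, Finsupp.smul_single,
      smul_eq_mul, mul_one]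
  have h0 : c.ι.app j₀ (a₀ f) = c.ι.app j₀ (0 : F.obj j₀) := by
    rw [map_zero, ← hx, ← hz']
    rfl
  obtain ⟨k, g₁, g₂, hk⟩ := Concrete.isColimit_exists_of_rep_eq.{u} F hc _ _ h0
  haveI := (hF k).1
  haveI := (hF k).2
  let b : (F.obj k) ≃ₗ[R] (Fin (Fintype.card (Module.Free.ChooseBasisIndex R (F.obj k))) →₀ R) :=
    ((Module.Free.chooseBasis R (F.obj k)).reindex (Fintype.equivFin _)).repr
  refine ⟨_, b.toLinearMap ∘ₗ (F.map g₁).hom ∘ₗ a₀, (c.ι.app k).hom ∘ₗ b.symm.toLinearMap, ?_, ?_⟩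
  · rw [← hz']
    refine LinearMap.ext fun w => ?_
    simp only [LinearMap.comp_apply, LinearEquiv.coe_coe, LinearEquiv.symm_apply_apply]
    rw [← c.w g₁]
    rfl
  · rw [map_zero] at hk
    simp only [LinearMap.comp_apply, LinearEquiv.coe_coe]
    rw [show (F.map g₁).hom (a₀ f) = 0 from hk, map_zero]

theorem flat_iff_exists_directed_colimit :
    Module.Flat R M ↔
      ∃ (J : Type u) (_ : Preorder J) (_ : IsDirected J (fun a b => a ≤ b)) (_ : Nonempty J)
        (F : J ⥤ ModuleCat.{u} R), (∀ j, Module.Finite R (F.obj j) ∧ Module.Free R (F.obj j)) ∧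
        Nonempty (colimit F ≅ ModuleCat.of R M) := by
  refine ⟨fun _ => exists_directed_colimit_of_flat R M, ?_⟩
  rintro ⟨J, _, _, _, F, hF, ⟨e⟩⟩
  haveI : Module.Flat R (colimit F : ModuleCat.{u} R) :=
    flat_of_isColimit R F hF (colimit.cocone F) (colimit.isColimit F)
  exact @Module.Flat.of_linearEquiv R (colimit F : ModuleCat.{u} R) M _ _ _ _ _ this e.toLinearEquiv.symm

end Groth.Calg1
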