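import Groth.Agent.Calg1.Tensor
import Groth.Agent.Calg2.TensorFP

/-!
Universal injectivity, descent of formal smoothness along split maps, fields where powers descend.
-/

set_option autoImplicit false
universe u

namespace Groth.Calg1

open TensorProduct

theorem universallyInjective_iff_equations {R M₁ M₂ : Type u} [CommRing R] [AddCommGroup M₁]
    [Module R M₁] [AddCommGroup M₂] [Module R M₂] (f : M₁ →ₗ[R] M₂) :
    CAlgX.UniversallyInjective R f ↔
      ∀ (n m : ℕ) (x : Fin n → M₁) (y : Fin m → M₂) (a : Fin n → Fin m → R),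
        (∀ i, f (x i) = ∑ j, a i j • y j) → ∃ z : Fin m → M₁, ∀ i, x i = ∑ j, a i j • z j := by
  classical
  constructor
  · intro hf n m x y a h
    obtain ⟨z, hz⟩ := Groth.Calg2.exists_solution_of_ker_rTensor_le f LinearMap.id
      (fun N _ _ w hw => by
        rw [LinearMap.mem_ker] at hw
        simp [(injective_iff_map_eq_zero _).1 (hf N) w hw]) a x y (fun i => (h i).symm)
    exact ⟨z, fun i => (hz i).symm⟩
  · intro h
    refine universallyInjective_of_finitePresentation f fun Q _ _ hQ => ?_
    obtain ⟨n, m, π, rel, hπ, hex⟩ := Module.FinitePresentation.exists_fin' R Q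
    refine (injective_iff_map_eq_zero _).mpr fun w hw => ?_
    obtain ⟨w', rfl⟩ := LinearMap.lTensor_surjective M₁ hπ w
    have h0 : π.lTensor M₂ (f.rTensor (Fin n → R) w') = 0 := by
      rw [← hw, ← LinearMap.comp_apply, ← LinearMap.comp_apply, LinearMap.lTensor_comp_rTensor,
        LinearMap.rTensor_comp_lTensor]
    obtain ⟨v, hv⟩ := (lTensor_exact M₂ hex hπ _).mp h0
    let a : Fin n → Fin m → R := fun i j => rel (Pi.single j 1) i
    have key : ∀ (F : Type u) [AddCommGroup F] [Module R F] (t : F ⊗[R] (Fin m → R)) (i : Fin n),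
        piScalarRight R R F (Fin n) (rel.lTensor F t) i =
          ∑ j, a i j • piScalarRight R R F (Fin m) t j := by
      intro F _ _ t i
      induction t with
      | zero => simp
      | tmul z r =>
        simp only [LinearMap.lTensor_tmul, piScalarRight_apply, piScalarRightHom_tmul, smul_smul,
          ← Finset.sum_smul]
        congr 1
        conv_lhs => rw [pi_eq_sum_univ' r, map_sum, Finset.sum_apply]
        simp [a, mul_comm]
      | add p q hp hq => simp only [map_add, Pi.add_apply, hp, hq, smul_add, Finset.sum_add_distrib]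
    have nat : ∀ (t : M₁ ⊗[R] (Fin n → R)) (i : Fin n),
        piScalarRight R R M₂ (Fin n) (f.rTensor _ t) i = f (piScalarRight R R M₁ (Fin n) t i) := by
      intro t i
      induction t with
      | zero => simp
      | tmul z r => simp
      | add p q hp hq => simp only [map_add, Pi.add_apply, hp, hq]
    obtain ⟨z, hz⟩ := h n m (piScalarRight R R M₁ (Fin n) w') (piScalarRight R R M₂ (Fin m) v) a
      (fun i => by rw [← nat, ← hv, key])
    have : w' = rel.lTensor M₁ ((piScalarRight R R M₁ (Fin m)).symm z) :=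
      (piScalarRight R R M₁ (Fin n)).injective <| funext fun i => by
        rw [key, LinearEquiv.apply_symm_apply]; exact hz i
    rw [this]
    exact (lTensor_exact M₁ hex hπ).apply_apply_eq_zero _

theorem adicFormallySmooth_descent {R S R' : Type u} [CommRing R] [CommRing S] [Algebra R S]
    (𝔫 : Ideal S) [CommRing R'] [Algebra R R'] (ρ : R' →ₗ[R] R)
    (hρ : ∀ r : R, ρ (algebraMap R R' r) = r)
    (h : CAlgX.IsAdicFormallySmooth R' (R' ⊗[R] S)
      (𝔫.map (Algebra.TensorProduct.includeRight : S →ₐ[R] R' ⊗[R] S))) :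
    CAlgX.IsAdicFormallySmooth R S 𝔫 := by
  classical
  intro A _ _ J hJ ψ ⟨k, hk⟩
  let iR : A →ₐ[R] R' ⊗[R] A := Algebra.TensorProduct.includeRight
  let J' : Ideal (R' ⊗[R] A) := J.map iR
  have hJ' : J' ^ 2 = ⊥ := by rw [← Ideal.map_pow, hJ, Ideal.map_bot]
  let θ : A ⧸ J →ₐ[R] (R' ⊗[R] A) ⧸ J' :=
    Ideal.Quotient.liftₐ J ((Ideal.Quotient.mkₐ R J').comp iR) fun a ha =>
      Ideal.Quotient.eq_zero_iff_mem.mpr (Ideal.mem_map_of_mem iR ha)
  let ψ' : R' ⊗[R] S →ₐ[R'] (R' ⊗[R] A) ⧸ J' :=
    Algebra.TensorProduct.lift (Algebra.ofId R' _) (θ.comp ψ) fun _ _ => Commute.all _ _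
  have hψ' : ∀ s : S, ψ' (1 ⊗ₜ s) = θ (ψ s) := fun s => by simp [ψ']
  obtain ⟨χ', hχ'⟩ := h (R' ⊗[R] A) J' hJ' ψ' ⟨k, fun x hx => by
    rw [← Ideal.map_pow] at hx
    refine RingHom.mem_ker.mp ((Ideal.map_le_iff_le_comap.mpr fun s hs => ?_) hx)
    show ψ' (1 ⊗ₜ s) = 0
    rw [hψ', hk s hs, map_zero]⟩
  let ρA : R' ⊗[R] A →ₗ[R] A := (TensorProduct.lid R A).toLinearMap ∘ₗ ρ.rTensor A
  have hρA : ∀ (a : A) (z : R' ⊗[R] A), ρA (iR a * z) = a * ρA z := by
    intro a z
    induction z with
    | zero => simp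
    | tmul r b => simp [ρA, iR, mul_smul_comm]
    | add p q hp hq => simp only [mul_add, map_add, hp, hq]
  have hρ1 : ∀ a : A, ρA (iR a) = a := fun a => by
    have : ρ 1 = 1 := by rw [← map_one (algebraMap R R'), hρ]
    simp [ρA, iR, this]
  have hρJ : ∀ z ∈ J', ρA z ∈ J := by
    intro z hz
    have key : ∀ z ∈ J', ∀ c, ρA (c * z) ∈ J := by
      intro z hz
      rw [Ideal.map, ← Ideal.submodule_span_eq] at *
      induction hz using Submodule.span_induction with
      | mem y hy => obtain ⟨a, ha, rfl⟩ := hy; intro c; rw [mul_comm, hρA]; exact J.mul_mem_right _ ha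
      | zero => simp
      | add p q _ _ hp hq => intro c; rw [mul_add, map_add]; exact J.add_mem (hp c) (hq c)
      | smul d y _ hy => intro c; rw [smul_eq_mul, ← mul_assoc]; exact hy _
    simpa using key z hz 1
  choose h₀ hh₀ using fun s => Ideal.Quotient.mk_surjective (ψ s)
  let H : MvPolynomial S R →ₐ[R] A := MvPolynomial.aeval h₀
  let π : MvPolynomial S R →ₐ[R] S := MvPolynomial.aeval id
  have hπ : Function.Surjective π := fun s => ⟨MvPolynomial.X s, by simp [π]⟩
  have hH : ∀ p, Ideal.Quotient.mk J (H p) = ψ (π p) := by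
    intro p
    exact AlgHom.congr_fun (show (Ideal.Quotient.mkₐ R J).comp H = ψ.comp π from
      MvPolynomial.algHom_ext fun s => by simp [H, π, hh₀]) p
  let g : MvPolynomial S R → R' ⊗[R] A := fun p => χ' (1 ⊗ₜ π p)
  let D : MvPolynomial S R →ₗ[R] A := ρA ∘ₗ
    ((iR.comp H).toLinearMap - ((χ'.restrictScalars R).comp
      ((Algebra.TensorProduct.includeRight : S →ₐ[R] R' ⊗[R] S).comp π)).toLinearMap)
  have hD : ∀ p, D p = ρA (iR (H p) - g p) := fun p => rfl
  have hmem : ∀ p, iR (H p) - g p ∈ J' := fun p => by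
    rw [← Ideal.Quotient.eq]
    have e1 : Ideal.Quotient.mk J' (g p) = ψ' (1 ⊗ₜ π p) := AlgHom.congr_fun hχ' _
    rw [e1, hψ', ← hH]
    rfl
  have hDJ : ∀ p, D p ∈ J := fun p => hρJ _ (hmem p)
  have hDmul : ∀ p q, D (p * q) = H p * D q + H q * D p := by
    intro p q
    have e : iR (H (p * q)) - g (p * q) =
        iR (H p) * (iR (H q) - g q) + iR (H q) * (iR (H p) - g p)
          - (iR (H p) - g p) * (iR (H q) - g q) := by
      have : g (p * q) = g p * g q := by
        simp only [g]; rw [map_mul π, ← map_mul χ', Algebra.TensorProduct.tmul_mul_tmul, one_mul]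
      rw [this, map_mul H, map_mul iR]; ring
    have e0 : (iR (H p) - g p) * (iR (H q) - g q) = 0 := by
      have := Ideal.mul_mem_mul (hmem p) (hmem q)
      rwa [← pow_two, hJ', Ideal.mem_bot] at this
    rw [hD, e, e0, sub_zero, map_add, hρA, hρA, ← hD, ← hD]
  have hD1 : D 1 = 0 := by
    rw [hD]
    have : g 1 = 1 := by simp only [g, map_one]; exact map_one χ'
    rw [this, map_one, map_one, sub_self, map_zero]
  let E : MvPolynomial S R →ₐ[R] A :=
    AlgHom.ofLinearMap (H.toLinearMap - D) (by simp [hD1]) fun p q => by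
      have : D p * D q = 0 := by
        have := Ideal.mul_mem_mul (hDJ p) (hDJ q)
        rwa [← pow_two, hJ, Ideal.mem_bot] at this
      simp only [LinearMap.sub_apply, AlgHom.toLinearMap_apply, map_mul, hDmul]
      linear_combination -this
  have hE : RingHom.ker π ≤ RingHom.ker E := by
    intro p hp
    have hg : g p = 0 := by
      simp only [g, RingHom.mem_ker.mp hp, TensorProduct.tmul_zero, map_zero]
    show H p - D p = 0
    rw [hD, hg, sub_zero, hρ1, sub_self]
  refine ⟨(Ideal.Quotient.liftₐ (RingHom.ker π) E hE).comp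
    (Ideal.quotientKerAlgEquivOfSurjective hπ).symm.toAlgHom, AlgHom.ext fun s => ?_⟩
  obtain ⟨p, rfl⟩ := hπ s
  have : (Ideal.quotientKerAlgEquivOfSurjective hπ).symm (π p) = Ideal.Quotient.mk _ p := by
    rw [AlgEquiv.symm_apply_eq]; rfl
  show Ideal.Quotient.mk J (Ideal.Quotient.liftₐ _ E hE
    ((Ideal.quotientKerAlgEquivOfSurjective hπ).symm (π p))) = _
  rw [this]
  show Ideal.Quotient.mk J (H p - D p) = _
  rw [map_sub, hH, Ideal.Quotient.eq_zero_iff_mem.mpr (hDJ p), sub_zero]

theorem pow_mem_range_of_purelyInseparable_or_algebraic {k k' : Type u} [Field k] [Field k']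
    [Algebra k k'] (p : ℕ) (hp : p.Prime) [CharP k' p]
    (h : IsPurelyInseparable k k' ∨ Algebra.IsAlgebraic (⊥ : Subfield k') k') (x : k') :
    ∃ n : ℕ, 0 < n ∧ x ^ n ∈ Set.range (algebraMap k k') := by
  rcases h with h | h
  · obtain ⟨q, hq⟩ := ExpChar.exists k
    obtain ⟨n, hn⟩ := IsPurelyInseparable.pow_mem k q x
    exact ⟨q ^ n, pow_pos (expChar_pos k q) n, hn⟩
  · rcases eq_or_ne x 0 with rfl | hx
    · exact ⟨1, one_pos, 0, by simp⟩
    haveI : Fact p.Prime := ⟨hp⟩
    haveI : Finite (⊥ : Subfield k') := by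
      have : ((⊥ : Subfield k') : Set k') ⊆ Set.range (ZMod.castHom dvd_rfl k' : ZMod p →+* k') :=
        fun y hy => (bot_le : (⊥ : Subfield k') ≤ (ZMod.castHom dvd_rfl k' : ZMod p →+* k').fieldRange) hy
      exact ((Set.finite_range _).subset this).to_subtype
    let F := IntermediateField.adjoin (⊥ : Subfield k') ({x} : Set k')
    haveI : FiniteDimensional (⊥ : Subfield k') F :=
      IntermediateField.adjoin.finiteDimensional (Algebra.IsIntegral.isIntegral x)
    haveI : Finite F := Module.finite_of_finite (⊥ : Subfield k')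
    have hu : (⟨x, IntermediateField.mem_adjoin_simple_self _ x⟩ : F) ≠ 0 := fun e =>
      hx (congrArg Subtype.val e)
    obtain ⟨n, hn, he⟩ := (isOfFinOrder_iff_pow_eq_one.mp
      (isOfFinOrder_of_finite (Units.mk0 _ hu)))
    refine ⟨n, hn, 1, ?_⟩
    rw [map_one]
    exact (congrArg (fun z : Fˣ => ((z : F) : k')) he).symm

theorem purelyInseparable_or_algebraic_of_pow_mem {k k' : Type u} [Field k] [Field k']
    [Algebra k k'] (h : ∀ x : k', ∃ n : ℕ, 0 < n ∧ x ^ n ∈ Set.range (algebraMap k k'))
    (hns : ¬ Function.Surjective (algebraMap k k')) :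
    ∃ p : ℕ, p.Prime ∧ CharP k' p ∧
      (IsPurelyInseparable k k' ∨ Algebra.IsAlgebraic (⊥ : Subfield k') k') := by
  have halg : Algebra.IsAlgebraic k k' := ⟨fun x => by
    obtain ⟨n, hn, a, ha⟩ := h x
    exact (IsIntegral.of_pow hn (ha ▸ isIntegral_algebraMap)).isAlgebraic⟩
  by_cases hpi : IsPurelyInseparable k k'
  · obtain ⟨q, hq⟩ := ExpChar.exists k
    cases hq with
    | zero =>
      exfalso
      exact hns (IsPurelyInseparable.surjective_algebraMap_of_isSeparable k k')
    | prime hq =>
      exact ⟨q, hq, charP_of_injective_algebraMap (algebraMap k k').injective q, .inl hpi⟩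
  -- a separable element outside `k`
  obtain ⟨y, hys, hyn⟩ : ∃ y : k', IsSeparable k y ∧ y ∉ (algebraMap k k').range := by
    by_contra hc
    push Not at hc
    exact hpi ⟨inferInstance, fun y hy => hc y hy⟩
  let Ω := AlgebraicClosure k'
  let y₁ : Ω := algebraMap k' Ω y
  have hint : IsIntegral k y := Algebra.IsIntegral.isIntegral y
  obtain ⟨y₂, hy₂, hne⟩ : ∃ y₂ : Ω, Polynomial.aeval y₂ (minpoly k y) = 0 ∧ y₂ ≠ y₁ := by
    by_contra hc
    push Not at hc
    have hsplit : ((minpoly k y).map (algebraMap k Ω)).Splits := IsAlgClosed.splits _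
    have hdeg : (minpoly k y).natDegree = 1 := by
      classical
      have hcard : Multiset.card ((minpoly k y).aroots Ω) = (minpoly k y).natDegree := by
        rw [Polynomial.aroots, ← hsplit.natDegree_eq_card_roots, Polynomial.natDegree_map]
      have hnd : ((minpoly k y).aroots Ω).Nodup := Polynomial.nodup_roots (Polynomial.Separable.map (f := algebraMap k Ω) hys)
      have hsub : ∀ z ∈ (minpoly k y).aroots Ω, z = y₁ := fun z hz =>
        hc z (Polynomial.mem_aroots.mp hz).2
      have hle : Multiset.card ((minpoly k y).aroots Ω) ≤ 1 := by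
        by_contra h2
        obtain ⟨a, ha⟩ := Multiset.card_pos_iff_exists_mem.mp (show 0 < Multiset.card ((minpoly k y).aroots Ω) by omega)
        have : (minpoly k y).aroots Ω ≤ {y₁} :=
          (Multiset.le_iff_subset hnd).mpr fun z hz => Multiset.mem_singleton.mpr (hsub z hz) -- subset
        have := Multiset.card_le_card this
        rw [Multiset.card_singleton] at this
        omega
      have := minpoly.natDegree_pos hint
      omega
    exact hyn (minpoly.natDegree_eq_one_iff.mp hdeg)
  have hroot : ∀ c : k, ∃ η : Ω, (∃ n, 0 < n ∧ η ^ n = 1) ∧ y₂ + algebraMap k Ω c = η * (y₁ + algebraMap k Ω c) := by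
    intro c
    obtain ⟨n, hn, a, ha⟩ := h (y + algebraMap k k' c)
    let q : Polynomial k := (Polynomial.X + Polynomial.C c) ^ n - Polynomial.C a
    have hq : Polynomial.aeval y q = 0 := by simp [q, ha]
    obtain ⟨r, hr⟩ := minpoly.dvd k y hq
    have h2 : (y₂ + algebraMap k Ω c) ^ n = algebraMap k Ω a := by
      have : Polynomial.aeval y₂ q = 0 := by rw [hr, map_mul, hy₂, zero_mul]
      simpa [q, sub_eq_zero] using this
    have h1 : (y₁ + algebraMap k Ω c) ^ n = algebraMap k Ω a := by
      rw [IsScalarTower.algebraMap_apply k k' Ω c, ← map_add, ← map_pow, ← ha,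
        ← IsScalarTower.algebraMap_apply]
    have hne0 : y₁ + algebraMap k Ω c ≠ 0 := fun e => by
      rw [IsScalarTower.algebraMap_apply k k' Ω c, ← map_add, map_eq_zero] at e
      exact hyn ⟨-c, by rw [map_neg]; linear_combination -e⟩
    exact ⟨(y₂ + algebraMap k Ω c) / (y₁ + algebraMap k Ω c),
      ⟨n, hn, by rw [div_pow, h1, h2, div_self (h1 ▸ pow_ne_zero _ hne0)]⟩,
      (div_mul_cancel₀ _ hne0).symm⟩
  choose η hηn hη using hroot
  have hη1 : ∀ c, η c ≠ 1 := fun c e => hne (by have := hη c; rw [e, one_mul] at this; exact add_right_cancel this)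
  have hη0 : η 0 ≠ 1 := hη1 0
  have hy20 : y₂ = η 0 * y₁ := by simpa using hη 0
  have hdiff : η 0 - η 1 ≠ 0 := fun e => by
    have h1 := hη 1
    rw [hy20, map_one, sub_eq_zero.mp e] at h1
    exact hη1 1 (by linear_combination -h1)
  have hceq : ∀ c : k, algebraMap k Ω c * (η c - 1) = y₁ * (η 0 - η c) := fun c => by
    have := hη c; rw [hy20] at this; linear_combination -this
  have hy1eq : y₁ = (η 1 - 1) / (η 0 - η 1) := by
    rw [eq_div_iff hdiff]; have := hceq 1; rw [map_one] at this; linear_combination -this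
  obtain ⟨p, hp⟩ := CharP.exists k'
  have hy0 : y₁ ≠ 0 := fun e => hyn (by
    rw [map_eq_zero] at e; exact e ▸ (algebraMap k k').range.zero_mem)
  have hp0 : p ≠ 0 := by
    rintro rfl
    have : CharZero k' := CharP.charP_to_charZero k'
    have : CharZero Ω := charZero_of_injective_algebraMap (algebraMap k' Ω).injective
    have hηint : ∀ c, IsIntegral ℤ (η c) := fun c => by
      obtain ⟨n, hn, e⟩ := hηn c
      exact IsIntegral.of_pow hn (e ▸ isIntegral_one)
    -- a number field containing all `η n`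
    let L := IntermediateField.adjoin ℚ ({η 0, η 1} : Set Ω)
    have : FiniteDimensional ℚ L := IntermediateField.finiteDimensional_adjoin fun z hz => by
      rcases hz with rfl | rfl <;> exact (hηint _).tower_top
    have : NumberField L := { }
    have hy₁L : y₁ ∈ L := by
      rw [hy1eq]
      exact L.div_mem (L.sub_mem (IntermediateField.subset_adjoin _ _ (Or.inr rfl)) L.one_mem)
        (L.sub_mem (IntermediateField.subset_adjoin _ _ (Or.inl rfl))
          (IntermediateField.subset_adjoin _ _ (Or.inr rfl)))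
    have hy₂L : y₂ ∈ L := hy20 ▸ L.mul_mem (IntermediateField.subset_adjoin _ _ (Or.inl rfl)) hy₁L
    have hηL : ∀ n : ℕ, η (n : k) ∈ L := fun n => by
      have e := hη (n : k)
      have hne0 : y₁ + algebraMap k Ω (n : k) ≠ 0 := fun e0 => by
        rw [e0, mul_zero] at e
        exact hne (add_right_cancel (e.trans e0.symm))
      rw [show η (n : k) = (y₂ + algebraMap k Ω (n : k)) / (y₁ + algebraMap k Ω (n : k)) by
        rw [eq_div_iff hne0, e]]
      rw [map_natCast]
      exact L.div_mem (L.add_mem hy₂L (natCast_mem _ n)) (L.add_mem hy₁L (natCast_mem _ n))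
    let F : ℕ → L := fun n => ⟨η (n : k), hηL n⟩
    have hfin : (Set.range F).Finite := by
      refine (NumberField.Embeddings.finite_of_norm_le L ℂ 1).subset ?_
      rintro _ ⟨n, rfl⟩
      obtain ⟨m, hm, e⟩ := hηn (n : k)
      have e' : F n ^ m = 1 := Subtype.ext e
      refine ⟨IsIntegral.of_pow hm (e' ▸ isIntegral_one), fun φ => ?_⟩
      rw [Complex.norm_eq_one_of_pow_eq_one (show φ (F n) ^ m = 1 by rw [← map_pow, e', map_one]) hm.ne']
    refine Set.infinite_range_of_injective ?_ hfin
    intro a b hab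
    have hab' : η (a : k) = η (b : k) := congrArg Subtype.val hab
    have ha := hceq (a : k)
    have hb := hceq (b : k)
    rw [hab'] at ha
    have h2 := mul_right_cancel₀ (sub_ne_zero.mpr (hη1 (b : k))) (ha.trans hb.symm)
    rw [map_natCast, map_natCast] at h2
    exact_mod_cast h2
  have hpp : p.Prime := (CharP.char_is_prime_or_zero k' p).resolve_right hp0
  have : Fact p.Prime := ⟨hpp⟩
  have : CharP k p := (RingHom.charP_iff (algebraMap k k') (algebraMap k k').injective p).mpr hp
  let := ZMod.algebra k p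
  let := ZMod.algebra k' p
  have : CharP Ω p := charP_of_injective_algebraMap (algebraMap k' Ω).injective p
  have : IsScalarTower (ZMod p) k k' := IsScalarTower.of_algebraMap_eq' (Subsingleton.elim _ _)
  refine ⟨p, hpp, hp, .inr ?_⟩
  let A := algebraicClosure (ZMod p) Ω
  have hA : ∀ c, η c ∈ A := fun c => by
    obtain ⟨n, hn, e⟩ := hηn c
    exact mem_algebraicClosure_iff.mpr (IsIntegral.of_pow hn (e ▸ isIntegral_one)).isAlgebraic
  have hy₁A : y₁ ∈ A := by
    rw [hy1eq]; exact A.div_mem (A.sub_mem (hA _) A.one_mem) (A.sub_mem (hA _) (hA _))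
  have hk : Algebra.IsAlgebraic (ZMod p) k := ⟨fun c => by
    have hc : algebraMap k Ω c = y₁ * (η 0 - η c) / (η c - 1) := by
      rw [eq_div_iff (sub_ne_zero.mpr (hη1 c))]; exact hceq c
    exact (isAlgebraic_algebraMap_iff (algebraMap k Ω).injective).mp (mem_algebraicClosure_iff.mp
      (hc ▸ A.div_mem (A.mul_mem hy₁A (A.sub_mem (hA _) (hA _))) (A.sub_mem (hA _) A.one_mem)))⟩
  have hk' : Algebra.IsAlgebraic (ZMod p) k' := Algebra.IsAlgebraic.trans (ZMod p) k k'
  let : Algebra (ZMod p) (⊥ : Subfield k') :=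
    ((ZMod.castHom dvd_rfl k' : ZMod p →+* k').codRestrict (⊥ : Subfield k') fun z => by
      obtain ⟨n, rfl⟩ := ZMod.natCast_zmod_surjective z
      rw [map_natCast]; exact natCast_mem _ n).toAlgebra
  have : IsScalarTower (ZMod p) (⊥ : Subfield k') k' :=
    IsScalarTower.of_algebraMap_eq' (Subsingleton.elim _ _)
  refine ⟨fun x => ?_⟩
  obtain ⟨q, hq0, hq⟩ := hk'.isAlgebraic x
  refine ⟨q.map (algebraMap (ZMod p) (⊥ : Subfield k')), Polynomial.map_ne_zero hq0, ?_⟩
  rw [Polynomial.aeval_def, Polynomial.eval₂_map,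
    show (algebraMap (⊥ : Subfield k') k').comp (algebraMap (ZMod p) (⊥ : Subfield k')) =
      algebraMap (ZMod p) k' from Subsingleton.elim _ _]
  exact hq

end Groth.Calg1
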