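import Mathlib
import Groth.Prelude.Def_Found

/-!
N-1 equals N-2 in characteristic zero.
-/

set_option autoImplicit false
universe u

namespace Groth.Calg1

open CAlg

theorem isN1_iff_isN2 (R : Type u) [CommRing R] [IsDomain R] [IsNoetherianRing R] [CharZero R] :
    IsN1 R ↔ IsN2 R := by
  constructor
  · intro h L _ _ _ _ hfd
    let K := FractionRing R
    let R' := integralClosure R K
    have : Module.Finite R R' := h
    have : IsNoetherianRing R' := IsNoetherianRing.of_finite R R'
    have : IsFractionRing R' K := integralClosure.isFractionRing_of_finite_extension K K
    have : IsIntegrallyClosed R' := integralClosure.isIntegrallyClosedOfFiniteExtension K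
    have : CharZero K := charZero_of_injective_algebraMap (IsFractionRing.injective R K)
    have : IsScalarTower R' K L := IsScalarTower.of_algebraMap_eq fun _ => rfl
    have : Module.Finite R' (integralClosure R' L) := IsIntegralClosure.finite R' K L (integralClosure R' L)
    have hfin : Module.Finite R (integralClosure R' L) := Module.Finite.trans R' _
    have : IsNoetherian R (integralClosure R' L) := isNoetherian_of_isNoetherianRing_of_finite R (integralClosure R' L)
    have hle : integralClosure R L ≤ (integralClosure R' L).restrictScalars R :=
      fun x hx => (hx : IsIntegral R x).tower_top
    let i : integralClosure R L →ₗ[R] integralClosure R' L :=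
      { toFun := fun x => ⟨x.1, hle x.2⟩, map_add' := fun _ _ => rfl, map_smul' := fun _ _ => rfl }
    exact Module.Finite.of_injective i fun a b hab =>
      Subtype.ext (congrArg (fun z : integralClosure R' L => (z : L)) hab)
  · intro h
    exact h (FractionRing R) inferInstance

end Groth.Calg1
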