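import Mathlib
import Groth.Prelude.Def_Found
import Groth.Agent.Calg4.Japanese
import Groth.Agent.Calg1.NagataBasic
import Groth.Agent.Calg1.AnalyticUnramifiedNagata
import Groth.Agent.Calg1.AnalyticallyUnramifiedN1Local

/-!
A Noetherian local ring is Nagata iff all its finite local extension domains are analytically
unramified.
-/

set_option autoImplicit false

universe u

open IsLocalRing Polynomial

namespace Groth.Calg1

/-- If `y` is a root of a monic polynomial whose lower coefficients lie in `m`, then `y` lies in
every prime above `m`. -/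
theorem mem_of_scaleRoots {R S : Type u} [CommRing R] [CommRing S] [Algebra R S] (Q : R[X])
    (hQ : Q.Monic) (I : Ideal R) (hI : ∀ i < Q.natDegree, Q.coeff i ∈ I) (y : S)
    (hy : aeval y Q = 0) (M : Ideal S) [M.IsPrime] (hIM : I ≤ M.comap (algebraMap R S)) : y ∈ M := by
  refine Ideal.IsPrime.mem_of_pow_mem ‹_› Q.natDegree ?_
  rw [aeval_eq_sum_range, Finset.sum_range_succ, hQ.coeff_natDegree, one_smul, add_eq_zero_iff_eq_neg] at hy
  rw [← neg_neg (y ^ _), ← hy]
  refine M.neg_mem (Ideal.sum_mem _ fun i hi => ?_)
  rw [Algebra.smul_def]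
  exact M.mul_mem_right _ (hIM (hI i (Finset.mem_range.1 hi)))

/-- A finite extension field of the fraction field of a quotient domain of a local ring is the
fraction field of a finite local domain over it. -/
theorem exists_local_model (R A L : Type u) [CommRing R] [IsLocalRing R] [CommRing A] [IsDomain A]
    [Algebra R A] (hs : Function.Surjective (algebraMap R A)) (c : R) (hc : c ∈ maximalIdeal R)
    (hc0 : algebraMap R A c ≠ 0) [Field L] [Algebra A L] [Algebra R L] [IsScalarTower R A L]
    [Algebra (FractionRing A) L] [IsScalarTower A (FractionRing A) L]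
    [FiniteDimensional (FractionRing A) L] :
    ∃ S : Subalgebra R L, Module.Finite R S ∧ IsLocalRing S ∧
      (maximalIdeal R).map (algebraMap R S) ≠ ⊤ ∧ IsFractionRing S L := by
  classical
  haveI : FaithfulSMul A L := (faithfulSMul_iff_algebraMap_injective A L).mpr (by
    rw [IsScalarTower.algebraMap_eq A (FractionRing A) L]
    exact (algebraMap (FractionRing A) L).injective.comp (IsFractionRing.injective A _))
  haveI : Algebra.IsIntegral R A := ⟨fun a => by obtain ⟨r, rfl⟩ := hs a; exact isIntegral_algebraMap⟩
  obtain ⟨s, b, hb⟩ := FiniteDimensional.exists_is_basis_integral (A := A) (K := FractionRing A) (L := L)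
  have hbR : ∀ i, IsIntegral R (b i) := fun i => isIntegral_trans (b i) (hb i)
  have hcL : algebraMap R L c ≠ 0 := by
    rw [IsScalarTower.algebraMap_apply R A L]
    exact (map_ne_zero_iff _ (FaithfulSMul.algebraMap_injective A L)).2 hc0
  let S := Algebra.adjoin R (Set.range fun i => algebraMap R L c * b i)
  have hint : ∀ x ∈ Set.range (fun i => algebraMap R L c * b i), IsIntegral R x := by
    rintro _ ⟨i, rfl⟩
    exact isIntegral_algebraMap.mul (hbR i)
  haveI hfin : Module.Finite R S :=
    Module.Finite.iff_fg.2 (fg_adjoin_of_finite (Set.finite_range _) hint)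
  haveI : Algebra.IsIntegral R S := Algebra.IsIntegral.of_finite R S
  have hmax : ∀ M : Ideal S, M.IsMaximal → M.comap (algebraMap R S) = maximalIdeal R := fun M hM =>
    eq_maximalIdeal (Ideal.isMaximal_comap_of_isIntegral_of_isMaximal M)
  have hQ : ∀ a : S, ∃ r : R, ∀ M : Ideal S, M.IsMaximal → a - algebraMap R S r ∈ M := by
    rintro ⟨a, ha⟩
    induction ha using Algebra.adjoin_induction with
    | mem x hx =>
      obtain ⟨i, rfl⟩ := hx
      refine ⟨0, fun M hM => ?_⟩
      rw [map_zero, sub_zero]
      obtain ⟨P, hP, hP0⟩ := hbR i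
      refine mem_of_scaleRoots (P.scaleRoots c) ((monic_scaleRoots_iff c).2 hP) (maximalIdeal R)
        (fun j hj => ?_) _ ?_ M (hmax M hM).ge
      · rw [natDegree_scaleRoots] at hj
        rw [coeff_scaleRoots]
        exact Ideal.mul_mem_left _ _ (Ideal.pow_mem_of_mem _ hc _ (by omega))
      · refine Subtype.val_injective ?_
        rw [← Subalgebra.coe_val, ← aeval_algHom_apply, map_zero]
        exact scaleRoots_aeval_eq_zero hP0
    | algebraMap r => exact ⟨r, fun M _ => by
        have : (⟨algebraMap R L r, Subalgebra.algebraMap_mem _ r⟩ : S) = algebraMap R S r := rfl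
        simp [this]⟩
    | add x y hx hy h1 h2 =>
      obtain ⟨r, hr⟩ := h1
      obtain ⟨r', hr'⟩ := h2
      refine ⟨r + r', fun M hM => ?_⟩
      convert M.add_mem (hr M hM) (hr' M hM) using 1
      rw [map_add]
      refine Subtype.ext ?_
      simp
      ring
    | mul x y hx hy h1 h2 =>
      obtain ⟨r, hr⟩ := h1
      obtain ⟨r', hr'⟩ := h2
      refine ⟨r * r', fun M hM => ?_⟩
      convert M.add_mem (M.mul_mem_right (⟨y, hy⟩ : S) (hr M hM))
        (M.mul_mem_left (algebraMap R S r) (hr' M hM)) using 1
      rw [map_mul]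
      refine Subtype.ext ?_
      simp
      ring
  obtain ⟨M, hM⟩ := Ideal.exists_maximal S
  have huniq : ∀ M' : Ideal S, M'.IsMaximal → M' = M := by
    intro M' hM'
    refine hM'.eq_of_le hM.ne_top fun a ha => ?_
    obtain ⟨r, hr⟩ := hQ a
    have h1 : algebraMap R S r ∈ M' := by simpa using M'.sub_mem ha (hr M' hM')
    have h2 : algebraMap R S r ∈ M := by
      rw [← Ideal.mem_comap, hmax M hM, ← hmax M' hM']
      exact h1
    simpa using M.add_mem (hr M hM) h2
  refine ⟨S, hfin, IsLocalRing.of_unique_max_ideal ⟨M, hM, huniq⟩, ?_, ?_⟩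
  · exact ne_top_of_le_ne_top hM.ne_top (Ideal.map_le_iff_le_comap.2 (hmax M hM).ge)
  · refine IsFractionRing.of_field S L fun z => ?_
    have hA : ∀ a : A, algebraMap A L a ∈ S := fun a => by
      obtain ⟨r, rfl⟩ := hs a
      rw [← IsScalarTower.algebraMap_apply]
      exact Subalgebra.algebraMap_mem _ r
    obtain ⟨d, hd⟩ := IsLocalization.exist_integer_multiples_of_finite (nonZeroDivisors A)
      (fun i => b.repr z i)
    choose a ha using hd
    have hd0 : algebraMap A L d ≠ 0 :=
      (map_ne_zero_iff _ (FaithfulSMul.algebraMap_injective A L)).2 (nonZeroDivisors.ne_zero d.2)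
    have hz : algebraMap R L c * algebraMap A L d * z = ∑ i, algebraMap A L (a i) * (algebraMap R L c * b i) := by
      conv_lhs => rw [← b.sum_repr z, Finset.mul_sum]
      refine Finset.sum_congr rfl fun i _ => ?_
      have := congrArg (algebraMap (FractionRing A) L) (ha i)
      rw [← IsScalarTower.algebraMap_apply, Algebra.smul_def, map_mul, ← IsScalarTower.algebraMap_apply] at this
      rw [this, Algebra.smul_def]
      ring
    have hz' : algebraMap R L c * algebraMap A L d * z ∈ S :=
      hz ▸ S.sum_mem fun i _ => S.mul_mem (hA _) (Algebra.subset_adjoin ⟨i, rfl⟩)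
    refine ⟨⟨_, hz'⟩, ⟨algebraMap R L c * algebraMap A L d, S.mul_mem (S.algebraMap_mem c) (hA _)⟩, ?_⟩
    change z = (algebraMap R L c * algebraMap A L d * z) / (algebraMap R L c * algebraMap A L d)
    rw [eq_div_iff (mul_ne_zero hcL hd0)]
    ring

theorem finite_ic_of_finite_sub {R L : Type u} [CommRing R] [CommRing L] [Algebra R L]
    (S : Subalgebra R L) [Module.Finite R S] (h : Module.Finite S (integralClosure S L)) :
    Module.Finite R (integralClosure R L) := by
  haveI : Algebra.IsIntegral R S := Algebra.IsIntegral.of_finite R S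
  haveI : Module.Finite R (integralClosure S L) := Module.Finite.trans S _
  let f : integralClosure S L →ₗ[R] integralClosure R L :=
    { toFun := fun x => ⟨x.1, isIntegral_trans x.1 x.2⟩
      map_add' := fun _ _ => rfl
      map_smul' := fun _ _ => rfl }
  exact Module.Finite.of_surjective f fun y => ⟨⟨y.1, y.2.tower_top⟩, rfl⟩

/-- If every finite local extension domain of a Noetherian local ring has reduced completion, the
ring is Nagata. -/
theorem isNagata_of_forall_local (R : Type u) [CommRing R] [IsLocalRing R] [IsNoetherianRing R]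
    (h : ∀ (S : Type u) [CommRing S] [IsDomain S] [IsLocalRing S] [Algebra R S]
      [IsLocalHom (algebraMap R S)] [Module.Finite R S],
      IsReduced (AdicCompletion (IsLocalRing.maximalIdeal S) S)) : CAlg.IsNagata R := by
  refine ⟨inferInstance, fun p _ L _ _ _ _ hfin => ?_⟩
  by_cases hp : p = maximalIdeal R
  · subst hp
    haveI : Module.Finite (R ⧸ maximalIdeal R) (FractionRing (R ⧸ maximalIdeal R)) := by
      refine Module.Finite.of_surjective (Algebra.linearMap _ _) ?_
      exact IsFractionRing.surjective_iff_isField.2 ((Ideal.Quotient.maximal_ideal_iff_isField_quotient _).1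
        inferInstance)
    haveI : Module.Finite (R ⧸ maximalIdeal R) L := Module.Finite.trans (FractionRing (R ⧸ maximalIdeal R)) L
    haveI : IsNoetherian (R ⧸ maximalIdeal R) L := isNoetherian_of_isNoetherianRing_of_finite _ _
    exact Module.Finite.of_injective (integralClosure (R ⧸ maximalIdeal R) L).val.toLinearMap Subtype.val_injective
  · obtain ⟨c, hc, hcp⟩ := SetLike.exists_of_lt
      (lt_of_le_of_ne (le_maximalIdeal (Ideal.IsPrime.ne_top ‹_›)) hp)
    letI : Algebra R L := ((algebraMap (R ⧸ p) L).comp (algebraMap R (R ⧸ p))).toAlgebra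
    haveI : IsScalarTower R (R ⧸ p) L := IsScalarTower.of_algebraMap_eq' rfl
    obtain ⟨S, hS1, hS2, hS3, hS4⟩ := exists_local_model R (R ⧸ p) L Ideal.Quotient.mk_surjective c hc
      (fun h0 => hcp (Ideal.Quotient.eq_zero_iff_mem.1 h0))
    haveI : IsLocalHom (algebraMap R S) := ((local_hom_TFAE _).out 0 2).mpr fun x hx => by
      exact le_maximalIdeal hS3 hx
    haveI : IsNoetherianRing S := IsNoetherianRing.of_finite R S
    have h1 : CAlg.IsN1 S := isN1_of_analyticallyUnramified S (h S)
    exact (Groth.Calg4.finite_ic_iff_of_surjective R (R ⧸ p) L Ideal.Quotient.mk_surjective).1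
      (finite_ic_of_finite_sub S (Groth.Calg4.finite_ic_of_isN1 h1 L))

end Groth.Calg1
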