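import Groth.Agent.Calg1.NagataMonogenicLocal
import Groth.Agent.Calg1.NormalLocus

/-!
A birational monogenic extension of a normal Nagata domain is N-1.
-/

set_option autoImplicit false

universe u

open Polynomial

namespace Groth.Calg1

/-- A domain whose elements are fractions `a / m` with `a, m` in a normal subring, `m` a unit, is normal. -/
theorem isIntegrallyClosed_of_unit_denominators {A C : Type u} [CommRing A] [IsDomain A]
    [IsIntegrallyClosed A] [CommRing C] [IsDomain C] [Algebra A C]
    (hinj : Function.Injective (algebraMap A C))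
    (h : ∀ c : C, ∃ a m : A, IsUnit (algebraMap A C m) ∧ algebraMap A C m * c = algebraMap A C a) :
    IsIntegrallyClosed C := by
  let M : Submonoid A := (IsUnit.submonoid C).comap (algebraMap A C)
  have hM : M ≤ nonZeroDivisors A := fun m hm => mem_nonZeroDivisors_of_ne_zero fun h0 => by
    subst h0
    exact not_isUnit_zero (show IsUnit (0 : C) by simpa [M, IsUnit.mem_submonoid_iff] using hm)
  haveI : IsLocalization M C :=
    { map_units := fun y => y.2
      surj := fun c => by
        obtain ⟨a, m, hm, heq⟩ := h c
        exact ⟨⟨a, m, hm⟩, by rw [mul_comm]; exact heq⟩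
      exists_of_eq := fun {a b} hab => ⟨1, by rw [hinj hab]⟩ }
  exact isIntegrallyClosed_of_isLocalization C M hM

/-- Polynomials in `x` become polynomials in `c * x - β` after multiplying with a power of `c`. -/
theorem exists_pow_mul_aeval {A B : Type u} [CommRing A] [CommRing B] [Algebra A B] (x : B) (c β : A)
    (g : A[X]) : ∃ (k : ℕ) (G : A[X]), algebraMap A B c ^ k * aeval x g =
      aeval (algebraMap A B c * x - algebraMap A B β) G := by
  induction g using Polynomial.induction_on' with
  | add p q hp hq =>
    obtain ⟨k, P, hP⟩ := hp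
    obtain ⟨l, Q, hQ⟩ := hq
    refine ⟨k + l, C (c ^ l) * P + C (c ^ k) * Q, ?_⟩
    simp only [map_add, map_mul, aeval_C, map_pow, ← hP, ← hQ]
    ring
  | monomial n a =>
    refine ⟨n, C a * (X + C β) ^ n, ?_⟩
    simp only [map_mul, map_pow, map_add, aeval_C, aeval_X, aeval_monomial, sub_add_cancel, mul_pow]
    ring

/-- The local rings at primes with algebraic residue of a birational monogenic extension are N-1. -/
theorem isN1_atPrime_of_algebraic {A L : Type u} [CommRing A] [IsDomain A] [IsIntegrallyClosed A]
    (hA : CAlg.IsNagata A) (hA2 : CAlg.IsN2 A) [Field L] [Algebra A L] [IsFractionRing A L]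
    {B : Type u} [CommRing B] [IsDomain B] [IsNoetherianRing B] [Algebra A B] [Algebra B L]
    [IsScalarTower A B L] (x : B) (hgenB : ∀ b : B, ∃ g : A[X], aeval x g = b)
    (q : Ideal B) [q.IsPrime] (g : A[X]) (hg : aeval x g ∈ q)
    (hc : algebraMap A B g.leadingCoeff ∉ q)
    (Bq : Type u) [CommRing Bq] [IsDomain Bq] [Algebra B Bq] [IsLocalization.AtPrime Bq q]
    [Algebra Bq L] [IsScalarTower B Bq L] [IsFractionRing Bq L] : CAlg.IsN1 Bq := by
  classical
  haveI := hA.1
  haveI : IsNoetherianRing Bq := IsLocalization.isNoetherianRing q.primeCompl Bq inferInstance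
  haveI : IsLocalRing Bq := IsLocalization.AtPrime.isLocalRing Bq q
  let gL : L[X] := g.map (algebraMap A L)
  let L' := gL.SplittingField
  haveI : IsScalarTower B Bq L' := IsScalarTower.of_algebraMap_eq fun b => by
    rw [IsScalarTower.algebraMap_apply B L L', IsScalarTower.algebraMap_apply Bq L L',
      ← IsScalarTower.algebraMap_apply B Bq L]
  haveI : IsScalarTower A B L' := IsScalarTower.of_algebraMap_eq fun a => by
    rw [IsScalarTower.algebraMap_apply A L L', IsScalarTower.algebraMap_apply B L L',
      ← IsScalarTower.algebraMap_apply A B L]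
  haveI : FiniteDimensional L L' := inferInstance
  haveI hfinA : Module.Finite A (integralClosure A L') := Groth.Calg4.finite_ic_of_isN2 hA2 L L'
  let A'' := integralClosure A L'
  haveI : IsFractionRing A'' L' := integralClosure.isFractionRing_of_finite_extension L L'
  haveI : IsIntegrallyClosed A'' := integralClosure.isIntegrallyClosedOfFiniteExtension L
  have hA'' : CAlg.IsNagata A'' := isNagata_of_finite (S := A'') hA
  obtain ⟨T, hT⟩ := Module.Finite.fg_top (R := A) (M := A'')
  let T' : Set L' := Subtype.val '' (T : Set A'')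
  have hTint : ∀ z ∈ T', IsIntegral Bq z := by
    rintro _ ⟨z, -, rfl⟩
    letI : Algebra A Bq := ((algebraMap B Bq).comp (algebraMap A B)).toAlgebra
    haveI : IsScalarTower A Bq L' := IsScalarTower.of_algebraMap_eq fun a => by
      rw [IsScalarTower.algebraMap_apply A B L', IsScalarTower.algebraMap_apply B Bq L']
      rfl
    exact (z.2 : IsIntegral A (z : L')).tower_top
  let C0 : Subalgebra Bq L' := Algebra.adjoin Bq T'
  haveI hfinC : Module.Finite Bq C0 :=
    Module.Finite.iff_fg.2 (fg_adjoin_of_finite (T.finite_toSet.image _) hTint)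
  haveI : IsNoetherianRing C0 := IsNoetherianRing.of_finite Bq C0
  have hA''C : ∀ a : A'', (a : L') ∈ C0 := fun a => by
    have ha : a ∈ Submodule.span A (T : Set A'') := hT ▸ Submodule.mem_top
    induction ha using Submodule.span_induction with
    | mem z hz => exact Algebra.subset_adjoin ⟨z, hz, rfl⟩
    | zero => exact zero_mem _
    | add z z' _ _ h1 h2 => exact add_mem h1 h2
    | smul r z _ h1 =>
      change r • (z : L') ∈ C0
      rw [Algebra.smul_def, IsScalarTower.algebraMap_apply A B L', IsScalarTower.algebraMap_apply B Bq L']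
      exact mul_mem (C0.algebraMap_mem _) h1
  letI : Algebra A'' C0 := RingHom.toAlgebra
    { toFun := fun a => ⟨(a : L'), hA''C a⟩
      map_one' := rfl
      map_mul' := fun _ _ => rfl
      map_zero' := rfl
      map_add' := fun _ _ => rfl }
  haveI : IsScalarTower A'' C0 L' := IsScalarTower.of_algebraMap_eq fun _ => rfl
  haveI : IsFractionRing C0 L' :=
    Groth.Calg4.isFractionRing_of_range A'' C0 L' fun a => ⟨algebraMap A'' C0 a, rfl⟩
  let x0 : C0 := ⟨algebraMap B L' x, by
    rw [IsScalarTower.algebraMap_apply B Bq L']; exact C0.algebraMap_mem _⟩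
  have hpoly : ∀ p : A[X], (aeval x0 (p.map (algebraMap A A'')) : C0).1 = algebraMap B L' (aeval x p) := by
    intro p
    rw [← aeval_algebraMap_apply]
    change algebraMap C0 L' _ = _
    rw [← aeval_algebraMap_apply, aeval_map_algebraMap]
    rfl
  -- every element is a quotient of polynomials in `x`
  have hrep : ∀ z : C0, ∃ (p h : A''[X]) (t : q.primeCompl),
      aeval x0 h * z = aeval x0 p ∧ (aeval x0 h).1 = algebraMap B L' (t : B) := by
    intro z
    obtain ⟨z, hz⟩ := z
    induction hz using Algebra.adjoin_induction with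
    | mem z hz =>
      obtain ⟨a, -, rfl⟩ := hz
      exact ⟨Polynomial.C a, 1, 1, by rw [map_one, one_mul, aeval_C]; exact Subtype.ext rfl, by simp⟩
    | algebraMap r =>
      obtain ⟨b, t, rfl⟩ := IsLocalization.exists_mk'_eq q.primeCompl r
      obtain ⟨p, hp⟩ := hgenB b
      obtain ⟨h, hh⟩ := hgenB (t : B)
      refine ⟨p.map (algebraMap A A''), h.map (algebraMap A A''), t, Subtype.ext ?_, by rw [hpoly, hh]⟩
      rw [MulMemClass.coe_mul, hpoly, hpoly, hh, hp, IsScalarTower.algebraMap_apply B Bq L',
        IsScalarTower.algebraMap_apply B Bq L' b, ← map_mul, IsLocalization.mk'_spec']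
    | add y z hy hz h1 h2 =>
      obtain ⟨p, h, t, heq, ht⟩ := h1
      obtain ⟨p', h', t', heq', ht'⟩ := h2
      refine ⟨p * h' + p' * h, h * h', t * t', ?_, ?_⟩
      · rw [map_mul, map_add, map_mul, map_mul, ← heq, ← heq']
        apply Subtype.ext
        simp only [MulMemClass.coe_mul, AddMemClass.coe_add]
        ring
      · rw [map_mul, MulMemClass.coe_mul, ht, ht', Submonoid.coe_mul, map_mul]
    | mul y z hy hz h1 h2 =>
      obtain ⟨p, h, t, heq, ht⟩ := h1
      obtain ⟨p', h', t', heq', ht'⟩ := h2
      refine ⟨p * p', h * h', t * t', ?_, ?_⟩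
      · rw [map_mul, map_mul, ← heq, ← heq']
        apply Subtype.ext
        simp only [MulMemClass.coe_mul]
        ring
      · rw [map_mul, MulMemClass.coe_mul, ht, ht', Submonoid.coe_mul, map_mul]
  have hC0unit : ∀ (z : C0) (t : q.primeCompl), z.1 = algebraMap B L' (t : B) → IsUnit z := by
    intro z t hzt
    have hz : z = algebraMap Bq C0 (algebraMap B Bq (t : B)) := Subtype.ext (by
      rw [hzt, IsScalarTower.algebraMap_apply B Bq L']; rfl)
    rw [hz]
    exact (IsLocalization.map_units Bq t).map _
  suffices hN1 : CAlg.IsN1 C0 by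
    haveI : Module.Finite C0 (integralClosure C0 L') := Groth.Calg4.finite_ic_of_isN1 hN1 L'
    haveI : Module.Finite Bq (integralClosure C0 L') := Module.Finite.trans C0 _
    haveI : IsNoetherian Bq (integralClosure C0 L') := isNoetherian_of_isNoetherianRing_of_finite Bq _
    refine isN1_of_finite_ic L (Module.Finite.of_injective
      ({ toFun := fun z => ⟨algebraMap L L' z.1,
           ((z.2 : IsIntegral Bq (z : L)).map (IsScalarTower.toAlgHom Bq L L')).tower_top⟩
         map_add' := fun a b => Subtype.ext (map_add _ _ _)
         map_smul' := fun r a => Subtype.ext (by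
          change algebraMap L L' (r • (a : L)) = r • algebraMap L L' (a : L)
          rw [Algebra.smul_def, Algebra.smul_def, map_mul, ← IsScalarTower.algebraMap_apply]) } :
        integralClosure Bq L →ₗ[Bq] integralClosure C0 L') fun a b hab => ?_)
    exact Subtype.ext ((algebraMap L L').injective (congrArg Subtype.val hab))
  refine isN1_iff.2 ⟨?_, fun N _ => ?_⟩
  · -- normal away from the denominator of `x`
    obtain ⟨u, v, hv, huv⟩ := IsFractionRing.div_surjective A (algebraMap B L x)
    have hv0 : algebraMap A L v ≠ 0 := IsFractionRing.to_map_ne_zero_of_mem_nonZeroDivisors hv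
    set v0 : C0 := algebraMap A'' C0 (algebraMap A A'' v) with hv0def
    have hvne : v0 ≠ 0 := fun h0 => by
      have := congrArg Subtype.val h0
      change algebraMap A L' v = 0 at this
      rw [IsScalarTower.algebraMap_apply A L L', map_eq_zero] at this
      exact hv0 this
    have hvx : v0 * x0 = algebraMap A'' C0 (algebraMap A A'' u) := Subtype.ext (by
      change algebraMap A L' v * algebraMap B L' x = algebraMap A L' u
      rw [IsScalarTower.algebraMap_apply A L L', IsScalarTower.algebraMap_apply A L L' u]
      rw [IsScalarTower.algebraMap_apply B L L']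
      rw [← map_mul, ← huv, mul_div_cancel₀ _ hv0])
    have hpv : ∀ p : A''[X], ∃ (k : ℕ) (a : A''), v0 ^ k * aeval x0 p = algebraMap A'' C0 a := by
      intro p
      induction p using Polynomial.induction_on' with
      | add p p' hp hp' =>
        obtain ⟨k, a, ha⟩ := hp
        obtain ⟨l, b, hb⟩ := hp'
        refine ⟨k + l, algebraMap A A'' v ^ l * a + algebraMap A A'' v ^ k * b, ?_⟩
        simp only [map_add, map_mul, map_pow, ← hv0def, ← ha, ← hb]
        ring
      | monomial n a =>
        refine ⟨n, a * algebraMap A A'' u ^ n, ?_⟩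
        rw [aeval_monomial, map_mul, map_pow, ← hvx]
        ring
    refine ⟨v0, hvne, ?_⟩
    haveI : IsDomain (Localization.Away v0) := IsLocalization.isDomain_localization
      (powers_le_nonZeroDivisors_of_noZeroDivisors hvne)
    have hinjA : Function.Injective ((algebraMap C0 (Localization.Away v0)).comp (algebraMap A'' C0)) :=
      fun a b hab => Subtype.ext (congrArg Subtype.val
        (IsLocalization.injective (Localization.Away v0) (powers_le_nonZeroDivisors_of_noZeroDivisors hvne) hab) :)
    letI : Algebra A'' (Localization.Away v0) :=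
      ((algebraMap C0 (Localization.Away v0)).comp (algebraMap A'' C0)).toAlgebra
    refine isIntegrallyClosed_of_unit_denominators (A := A'') hinjA fun w => ?_
    obtain ⟨z, ⟨_, i, rfl⟩, rfl⟩ := IsLocalization.exists_mk'_eq (Submonoid.powers v0) w
    obtain ⟨p, h, t, heq, ht⟩ := hrep z
    obtain ⟨k, a, ha⟩ := hpv p
    obtain ⟨l, m, hm⟩ := hpv h
    have hvu : IsUnit (algebraMap C0 (Localization.Away v0) v0) :=
      IsLocalization.Away.algebraMap_isUnit v0
    refine ⟨algebraMap A A'' v ^ l * a, algebraMap A A'' v ^ (k + i) * m, ?_, ?_⟩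
    · change IsUnit (algebraMap C0 _ (algebraMap A'' C0 _))
      rw [map_mul, map_pow, ← hv0def, ← hm, map_mul, map_pow, map_mul, map_pow]
      exact (hvu.pow _).mul ((hvu.pow _).mul ((hC0unit _ t ht).map _))
    · change algebraMap C0 _ (algebraMap A'' C0 _) * IsLocalization.mk' _ z _ =
        algebraMap C0 _ (algebraMap A'' C0 _)
      rw [IsLocalization.mul_mk'_eq_mk'_of_mul, IsLocalization.mk'_eq_iff_eq_mul, ← map_mul]
      congr 1
      simp only [map_mul, map_pow, ← hv0def, ← hm, ← ha, ← heq]
      ring
  · -- the local rings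
    have hNq : ∀ b ∈ q, ∀ z : C0, z.1 = algebraMap B L' b → z ∈ N := by
      intro b hb z hz
      have hzb : z = algebraMap Bq C0 (algebraMap B Bq b) := Subtype.ext (by
        rw [hz, IsScalarTower.algebraMap_apply B Bq L']; rfl)
      have hmax : N.comap (algebraMap Bq C0) = IsLocalRing.maximalIdeal Bq :=
        IsLocalRing.eq_maximalIdeal (Ideal.isMaximal_comap_of_isIntegral_of_isMaximal N)
      rw [hzb, ← Ideal.mem_comap, hmax]
      exact (IsLocalization.AtPrime.to_map_mem_maximal_iff Bq q b).2 hb
    have hcu : IsUnit (algebraMap A'' C0 (algebraMap A A'' g.leadingCoeff)) :=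
      hC0unit _ ⟨algebraMap A B g.leadingCoeff, hc⟩ (by
        change algebraMap A L' _ = algebraMap B L' (algebraMap A B _)
        rw [← IsScalarTower.algebraMap_apply])
    -- the roots
    let gL' : L'[X] := g.map (algebraMap A L')
    have hgL' : gL' = gL.map (algebraMap L L') := by
      rw [Polynomial.map_map, ← IsScalarTower.algebraMap_eq]
    have hsplit : gL'.Splits := hgL' ▸ Polynomial.SplittingField.splits gL
    have hlead : gL'.leadingCoeff = algebraMap A L' g.leadingCoeff := by
      refine Polynomial.leadingCoeff_map_of_injective ?_ g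
      rw [IsScalarTower.algebraMap_eq A L L']
      exact (algebraMap L L').injective.comp (IsFractionRing.injective A L)
    have hβ : ∀ r : gL'.roots.toFinset, IsIntegral A (g.leadingCoeff • (r : L')) := fun r => by
      refine isIntegral_leadingCoeff_smul g _ ?_
      have := (mem_roots'.1 (Multiset.mem_toFinset.1 r.2)).2
      rwa [IsRoot.def, eval_map, ← aeval_def] at this
    let y : gL'.roots.toFinset → C0 := fun r =>
      algebraMap A'' C0 (algebraMap A A'' g.leadingCoeff) * x0 - algebraMap A'' C0 ⟨_, hβ r⟩
    obtain ⟨r, hr⟩ : ∃ r, y r ∈ N := by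
      by_contra! hcon
      have hprod : algebraMap A'' C0 (algebraMap A A'' g.leadingCoeff) *
          ∏ r, y r ^ (gL'.roots.count (r : L')) ∈ N := by
        refine hNq (algebraMap A B g.leadingCoeff ^ Multiset.card gL'.roots * aeval x g)
          (q.mul_mem_left _ hg) _ ?_
        have h1 : aeval (algebraMap B L' x) g = gL'.eval (algebraMap B L' x) := by
          rw [eval_map, aeval_def]
        have h2 : ∀ z : L', gL'.eval z = algebraMap A L' g.leadingCoeff *
            ∏ r : gL'.roots.toFinset, (z - (r : L')) ^ gL'.roots.count (r : L') := by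
          intro z
          have h3 := congrArg (eval z) hsplit.eq_prod_roots
          rw [h3, eval_mul, eval_C, hlead, eval_multiset_prod, Multiset.map_map,
            Finset.prod_multiset_map_count,
            Finset.prod_coe_sort gL'.roots.toFinset (fun m => (z - m) ^ gL'.roots.count m)]
          congr 1
          refine Finset.prod_congr rfl fun r _ => ?_
          simp
        rw [map_mul, map_pow, ← aeval_algebraMap_apply, h1, h2, ← IsScalarTower.algebraMap_apply A B L',
          ← Multiset.toFinset_sum_count_eq gL'.roots, ← Finset.sum_coe_sort, ← mul_assoc,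
          mul_comm (_ ^ _) (algebraMap A L' _), mul_assoc, ← Finset.prod_pow_eq_pow_sum,
          ← Finset.prod_mul_distrib]
        simp only [MulMemClass.coe_mul, SubmonoidClass.coe_finset_prod, SubmonoidClass.coe_pow]
        congr 1
        refine Finset.prod_congr rfl fun r _ => ?_
        rw [← mul_pow]
        congr 1
        change algebraMap A L' g.leadingCoeff * algebraMap B L' x - g.leadingCoeff • (r : L') = _
        rw [Algebra.smul_def]
        ring
      rcases (inferInstance : N.IsPrime).mem_or_mem hprod with h1 | h1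
      · exact Ideal.IsPrime.ne_top inferInstance (Ideal.eq_top_of_isUnit_mem _ h1 hcu)
      · obtain ⟨r, -, hr⟩ := (Ideal.IsPrime.prod_mem_iff (p := N)).1 h1
        exact hcon r (Ideal.IsPrime.mem_of_pow_mem inferInstance _ hr)
    haveI : IsDomain (Localization.AtPrime N) :=
      IsLocalization.isDomain_localization N.primeCompl_le_nonZeroDivisors
    refine isN1_atPrime_of_mem (K := L') hA'' (fun a b hab => Subtype.ext hab) (y r) N hr (fun b => ?_)
      (Localization.AtPrime N)
    obtain ⟨p, h, t, heq, ht⟩ := hrep b
    obtain ⟨k, P, hP⟩ := exists_pow_mul_aeval x0 (algebraMap A A'' g.leadingCoeff) ⟨_, hβ r⟩ p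
    obtain ⟨l, H, hH⟩ := exists_pow_mul_aeval x0 (algebraMap A A'' g.leadingCoeff) ⟨_, hβ r⟩ h
    refine ⟨P * Polynomial.C (algebraMap A A'' g.leadingCoeff ^ l),
      H * Polynomial.C (algebraMap A A'' g.leadingCoeff ^ k), ?_, ?_⟩
    · rw [map_mul, aeval_C, map_pow, ← hH]
      exact fun hm => Ideal.IsPrime.ne_top (I := N) inferInstance
        (Ideal.eq_top_of_isUnit_mem _ hm (((hcu.pow _).mul (hC0unit _ t ht)).mul (hcu.pow _)))
    · simp only [map_mul, aeval_C, map_pow, y, ← hH, ← hP, ← heq]
      ring

end Groth.Calg1
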