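import Groth.Agent.Calg1.AnalyticUnramifiedNagata
import Groth.Agent.Calg1.AnalyticallyUnramifiedN1Local

/-!
Local rings of a birational monogenic extension of a normal Nagata domain at primes containing
the generator.
-/

set_option autoImplicit false

universe u

open IsLocalRing Polynomial

namespace Groth.Calg1

/-- Elements `t / x` of the fraction field lying in `A[x]` are integral over `A`. -/
theorem isIntegral_of_mul_eq {A K : Type u} [CommRing A] [Field K] [Algebra A K] (x y : K) (e : A)
    (g : A[X]) (hy : y * x = algebraMap A K e) (hg : aeval x g = y) : IsIntegral A y := by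
  refine ⟨X ^ (g.natDegree + 1) -
    ∑ i ∈ Finset.range (g.natDegree + 1), C (g.coeff i * e ^ i) * X ^ (g.natDegree - i), ?_, ?_⟩
  · refine monic_X_pow_sub (lt_of_le_of_lt (degree_sum_le _ _) ?_)
    rw [Finset.sup_lt_iff (by exact_mod_cast WithBot.bot_lt_coe _)]
    intro i _
    refine lt_of_le_of_lt (degree_C_mul_X_pow_le _ _) ?_
    exact_mod_cast Nat.lt_succ_of_le (Nat.sub_le _ _)
  · rw [← aeval_def, map_sub, map_pow, aeval_X, map_sum, sub_eq_zero]
    rw [aeval_eq_sum_range] at hg
    conv_lhs => rw [pow_succ']; arg 1; rw [← hg]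
    rw [Finset.sum_mul]
    refine Finset.sum_congr rfl fun i hi => ?_
    have hi' : i ≤ g.natDegree := Nat.lt_succ_iff.1 (Finset.mem_range.1 hi)
    rw [map_mul, map_pow, aeval_C, aeval_X, map_mul, map_pow, ← hy, Algebra.smul_def, mul_pow,
      mul_assoc, mul_assoc]
    congr 1
    rw [mul_comm (y ^ i) (x ^ i), mul_assoc, ← pow_add, Nat.add_sub_cancel' hi']

theorem aeval_sub_coeff_zero {A B : Type u} [CommRing A] [CommRing B] [Algebra A B] (x : B) (g : A[X]) :
    aeval x g - algebraMap A B (g.coeff 0) ∈ Ideal.span {x} := by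
  refine Ideal.mem_span_singleton'.2 ⟨aeval x g.divX, ?_⟩
  have h := congrArg (aeval x) (X_mul_divX_add g)
  simp only [map_add, map_mul, aeval_X, aeval_C] at h
  linear_combination h

/-- The local rings of a birational monogenic extension of a normal Nagata domain, at primes containing
the generator, are analytically unramified, hence N-1. -/
theorem isN1_atPrime_of_mem {A K : Type u} [CommRing A] [IsDomain A] [IsIntegrallyClosed A]
    (hA : CAlg.IsNagata A) [Field K] [Algebra A K] [IsFractionRing A K]
    {B : Type u} [CommRing B] [IsDomain B] [IsNoetherianRing B] [Algebra A B] [Algebra B K]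
    [IsScalarTower A B K] (hinj : Function.Injective (algebraMap B K)) (x : B) (N : Ideal B) [N.IsPrime]
    (hxN : x ∈ N)
    (hgen : ∀ b : B, ∃ g h : A[X], aeval x h ∉ N ∧ aeval x h * b = aeval x g)
    (C : Type u) [CommRing C] [IsDomain C] [Algebra B C] [IsLocalization.AtPrime C N] [Algebra A C]
    [IsScalarTower A B C] : CAlg.IsN1 C := by
  classical
  haveI := hA.1
  let p := N.comap (algebraMap A B)
  haveI : IsLocalRing C := IsLocalization.AtPrime.isLocalRing C N
  haveI : IsNoetherianRing C := IsLocalization.isNoetherianRing N.primeCompl C inferInstance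
  have hu : ∀ y : N.primeCompl, IsUnit (algebraMap B K y) := fun y =>
    isUnit_iff_ne_zero.2 ((map_ne_zero_iff _ hinj).2 fun h0 => y.2 (by rw [h0]; exact zero_mem _))
  let f : C →+* K := IsLocalization.lift hu
  have hfB : ∀ b, f (algebraMap B C b) = algebraMap B K b := fun b => IsLocalization.lift_eq hu b
  have hfA : ∀ a, f (algebraMap A C a) = algebraMap A K a := fun a => by
    rw [IsScalarTower.algebraMap_apply A B C, hfB, ← IsScalarTower.algebraMap_apply]
  have hf : Function.Injective f := (IsLocalization.lift_injective_iff hu).2 fun a b => by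
    constructor
    · intro h
      refine congrArg _ (IsLocalization.injective C (M := N.primeCompl) (fun y hy => ?_) h)
      exact mem_nonZeroDivisors_of_ne_zero fun h0 => (hy : y ∉ N) (by rw [h0]; exact zero_mem _)
    · intro h; exact congrArg _ (hinj h)
  set xc := algebraMap B C x with hxc
  have hxm : xc ∈ maximalIdeal C := (IsLocalization.AtPrime.to_map_mem_maximal_iff C N x).2 hxN
  have hunit : ∀ d ∉ p, IsUnit (algebraMap A C d) := fun d hd => by
    rw [IsScalarTower.algebraMap_apply A B C]
    exact IsLocalization.map_units C (⟨algebraMap A B d, hd⟩ : N.primeCompl)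
  -- every element is a fraction of polynomials in `x` with invertible constant term below
  have hrep : ∀ c : C, ∃ g h : A[X], h.coeff 0 ∉ p ∧ aeval xc h * c = aeval xc g := by
    intro c
    obtain ⟨b, t, rfl⟩ := IsLocalization.exists_mk'_eq N.primeCompl c
    obtain ⟨g, h, hh, hgb⟩ := hgen b
    obtain ⟨g', h', hh', hgt⟩ := hgen (t : B)
    refine ⟨g * h', h * g', ?_, ?_⟩
    · have h1 : aeval x (h * g') ∉ N := by
        rw [map_mul, ← hgt]
        exact fun hm => (Ideal.IsPrime.mem_or_mem inferInstance hm).elim hh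
          fun hm => (Ideal.IsPrime.mem_or_mem inferInstance hm).elim hh' t.2
      intro hm
      refine h1 ?_
      have h2 : aeval x (h * g') - algebraMap A B ((h * g').coeff 0) ∈ N :=
        (Ideal.span_singleton_le_iff_mem _).2 hxN (aeval_sub_coeff_zero x _)
      simpa using add_mem h2 hm
    · rw [map_mul, map_mul, hxc, aeval_algebraMap_apply, aeval_algebraMap_apply, aeval_algebraMap_apply,
        aeval_algebraMap_apply, ← hgt, map_mul, mul_assoc, mul_assoc,
        IsLocalization.mk'_spec', ← hgb, map_mul]
      ring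
  have hlin : ∀ c : C, ∃ a d : A, d ∉ p ∧ algebraMap A C d * c - algebraMap A C a ∈ Ideal.span {xc} := by
    intro c
    obtain ⟨g, h, hh, heq⟩ := hrep c
    refine ⟨g.coeff 0, h.coeff 0, hh, ?_⟩
    rw [show algebraMap A C (h.coeff 0) * c - algebraMap A C (g.coeff 0) =
      (aeval xc g - algebraMap A C (g.coeff 0)) - c * (aeval xc h - algebraMap A C (h.coeff 0)) by
      linear_combination heq]
    exact sub_mem (aeval_sub_coeff_zero xc g) (Ideal.mul_mem_left _ _ (aeval_sub_coeff_zero xc h))
  by_cases hx0 : xc = 0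
  · -- then `C` is a localization of `A`
    haveI : IsLocalization p.primeCompl C :=
      { map_units := fun y => hunit y y.2
        surj := fun c => by
          obtain ⟨a, d, hd, hmem⟩ := hlin c
          rw [hx0, Ideal.span_singleton_eq_bot.2 rfl, Ideal.mem_bot, sub_eq_zero] at hmem
          exact ⟨⟨a, d, hd⟩, by rw [mul_comm]; exact hmem⟩
        exists_of_eq := fun {a b} h => ⟨1, by
          have := congrArg f h
          rw [hfA, hfA] at this
          rw [IsFractionRing.injective A K this]⟩ }
    haveI : IsIntegrallyClosed C :=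
      isIntegrallyClosed_of_isLocalization C p.primeCompl p.primeCompl_le_nonZeroDivisors
    change Module.Finite C (integralClosure C (FractionRing C))
    rw [IsIntegrallyClosed.integralClosure_eq_bot C (FractionRing C)]
    infer_instance
  refine isN1_of_analyticallyUnramified C
    (isReduced_of_flat xc hx0 (eq_zero_of_forall_mem_span_pow hxm) fun P hP => ?_)
  obtain ⟨hPp, w, hw⟩ := isAssociatedPrime_iff.1 hP
  haveI := hPp
  obtain ⟨cw, rfl⟩ := Ideal.Quotient.mk_surjective w
  have hmemP : ∀ y, y ∈ P ↔ y * cw ∈ Ideal.span {xc} := fun y => by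
    rw [hw, Submodule.mem_colon_singleton, Submodule.mem_bot, ← Ideal.Quotient.mk_eq_mk,
      ← Submodule.Quotient.mk_smul, Submodule.Quotient.mk_eq_zero, smul_eq_mul]
  have hxP : xc ∈ P := (hmemP xc).2 (Ideal.mul_mem_right _ _ (Ideal.mem_span_singleton_self xc))
  obtain ⟨a, d, hd, had⟩ := hlin cw
  have hmemA : ∀ y, y ∈ P ↔ y * algebraMap A C a ∈ Ideal.span {xc} := fun y => by
    rw [hmemP]
    constructor
    · intro h
      rw [show y * algebraMap A C a = algebraMap A C d * (y * cw) -
        y * (algebraMap A C d * cw - algebraMap A C a) by ring]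
      exact sub_mem (Ideal.mul_mem_left _ _ h) (Ideal.mul_mem_left _ _ had)
    · intro h
      rw [← Ideal.unit_mul_mem_iff_mem _ (hunit d hd),
        show algebraMap A C d * (y * cw) = y * algebraMap A C a +
          y * (algebraMap A C d * cw - algebraMap A C a) by ring]
      exact add_mem h (Ideal.mul_mem_left _ _ had)
  let p' := P.comap (algebraMap A C)
  have hp'p : p' ≤ p := fun r hr => by
    by_contra hrp
    exact hPp.ne_top (Ideal.eq_top_of_isUnit_mem _ hr (hunit r hrp))
  have hfx : f xc ≠ 0 := (map_ne_zero_iff _ hf).2 hx0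
  have hkey : ∀ e : A, algebraMap A C e ∈ Ideal.span {xc} →
      ∃ d t : A, d ∉ p ∧ algebraMap A K t * f xc = algebraMap A K (d * e) := by
    intro e he
    obtain ⟨c, hc⟩ := Ideal.mem_span_singleton'.1 he
    obtain ⟨g, h, hh, heq⟩ := hrep c
    set G : A[X] := g - Polynomial.C e * h.divX with hG
    have h1 : algebraMap A C (h.coeff 0 * e) = aeval xc G * xc := by
      rw [map_mul, hG, map_sub, map_mul, aeval_C]
      have h2 : aeval xc h = xc * aeval xc h.divX + algebraMap A C (h.coeff 0) := by
        have h' := congrArg (aeval xc) (X_mul_divX_add h)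
        simp only [map_add, map_mul, aeval_X, aeval_C] at h'
        exact h'.symm
      linear_combination xc * heq - (aeval xc h) * hc - algebraMap A C e * h2
    have h3 : f (aeval xc G) * f xc = algebraMap A K (h.coeff 0 * e) := by
      rw [← map_mul, ← h1, hfA]
    have h4 : IsIntegral A (f (aeval xc G)) := by
      refine isIntegral_of_mul_eq (f xc) _ _ G h3 ?_
      rw [aeval_def, aeval_def, hom_eval₂]
      exact congrArg (fun φ => eval₂ φ (f xc) G) (RingHom.ext fun a => (hfA a).symm)
    obtain ⟨t, ht⟩ := IsIntegrallyClosed.isIntegral_iff.1 h4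
    exact ⟨h.coeff 0, t, hh, by rw [ht]; exact h3⟩
  obtain ⟨G, hG⟩ := IsNoetherian.noetherian p'
  have hGy : ∀ y : (↑G : Set A), ∃ d t : A, d ∉ p ∧
      algebraMap A K t * f xc = algebraMap A K (d * ((y : A) * a)) := fun y => by
    refine hkey _ ?_
    rw [map_mul]
    exact (hmemA _).1 (show (y : A) ∈ p' from hG ▸ Submodule.subset_span y.2)
  choose D T hDp hDT using hGy
  set E := ∏ y, D y with hE
  have hEp : E ∉ p := fun hm => by
    obtain ⟨y, -, hy⟩ := (Ideal.IsPrime.prod_mem_iff (p := p)).1 hm
    exact hDp y hy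
  have hmul : ∀ y ∈ p', ∃ t : A, algebraMap A K t * f xc = algebraMap A K (E * (y * a)) := by
    intro y hy
    rw [← hG] at hy
    induction hy using Submodule.span_induction with
    | mem z hz =>
      obtain ⟨c, hc⟩ := Finset.dvd_prod_of_mem D (Finset.mem_univ (⟨z, hz⟩ : (↑G : Set A)))
      refine ⟨c * T ⟨z, hz⟩, ?_⟩
      rw [hE, hc, map_mul, mul_assoc, hDT, ← map_mul]
      congr 1; ring
    | zero => exact ⟨0, by simp⟩
    | add z z' _ _ h1 h2 =>
      obtain ⟨t1, h1⟩ := h1
      obtain ⟨t2, h2⟩ := h2
      exact ⟨t1 + t2, by rw [map_add, add_mul, h1, h2, ← map_add]; congr 1; ring⟩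
    | smul r z _ h1 =>
      obtain ⟨t1, h1⟩ := h1
      exact ⟨r * t1, by rw [map_mul, mul_assoc, h1, ← map_mul, smul_eq_mul]; congr 1; ring⟩
  let w : K := algebraMap A K (E * a) / f xc
  have hp'ne : p' ≠ ⊥ := by
    obtain ⟨u, v, hv, huv⟩ := IsFractionRing.div_surjective A (f xc)
    have hv0 : algebraMap A K v ≠ 0 := IsFractionRing.to_map_ne_zero_of_mem_nonZeroDivisors hv
    have heq : algebraMap A C u = algebraMap A C v * xc := hf (by
      rw [map_mul, hfA, hfA, ← huv, mul_div_cancel₀ _ hv0])
    intro h0
    have hu' : u ∈ p' := by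
      change algebraMap A C u ∈ P
      rw [heq]; exact P.mul_mem_left _ hxP
    rw [h0, Submodule.mem_bot] at hu'
    apply hfx
    rw [← huv, hu', map_zero, zero_div]
  obtain ⟨π, hπ, s, hs, hsπ⟩ := exists_pi_of_isIntegrallyClosed p' hp'ne w (by
      rintro ⟨t, ht⟩
      rw [eq_div_iff hfx, map_mul] at ht
      have h1 : algebraMap A C E * algebraMap A C a ∈ Ideal.span {xc} := by
        refine Ideal.mem_span_singleton'.2 ⟨algebraMap A C t, hf ?_⟩
        rw [map_mul, map_mul, hfA, hfA, hfA, ht]
      rw [Ideal.unit_mul_mem_iff_mem _ (hunit E hEp), ← one_mul (algebraMap A C a)] at h1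
      exact hPp.ne_top ((Ideal.eq_top_iff_one _).2 ((hmemA 1).2 h1)))
    (fun y hy => by
      obtain ⟨t, ht⟩ := hmul y hy
      refine ⟨t, ?_⟩
      rw [div_mul_eq_mul_div, eq_div_iff hfx, ht, ← map_mul]
      congr 1; ring)
  refine ⟨?_, algebraMap A C π, hπ, algebraMap A C s, hs, fun y hy => ?_⟩
  · haveI : Nontrivial (C ⧸ P) := Ideal.Quotient.nontrivial_iff.2 hPp.ne_top
    haveI : IsLocalRing (C ⧸ P) :=
      IsLocalRing.of_surjective' (Ideal.Quotient.mk P) Ideal.Quotient.mk_surjective
    refine isRadical_map_of_isReduced_completion P ?_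
    haveI : IsNoetherianRing (C ⧸ P) := inferInstance
    let M : Submonoid (A ⧸ p') := p.primeCompl.map (Ideal.Quotient.mk p')
    haveI : IsLocalization M (C ⧸ P) :=
      { map_units := by
          rintro ⟨_, z, hz, rfl⟩
          exact (hunit z hz).map (Ideal.Quotient.mk P)
        surj := fun z => by
          obtain ⟨z, rfl⟩ := Ideal.Quotient.mk_surjective z
          obtain ⟨a', d', hd', hmem⟩ := hlin z
          refine ⟨⟨Ideal.Quotient.mk p' a', Ideal.Quotient.mk p' d', d', hd', rfl⟩, ?_⟩
          change Ideal.Quotient.mk P z * Ideal.Quotient.mk P (algebraMap A C d') =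
            Ideal.Quotient.mk P (algebraMap A C a')
          rw [← map_mul, Ideal.Quotient.eq, mul_comm]
          exact (Ideal.span_singleton_le_iff_mem _).2 hxP hmem
        exists_of_eq := fun {u v} huv => ⟨1, by rw [Ideal.algebraMap_quotient_injective huv]⟩ }
    exact isReduced_completion_of_isNagata (C ⧸ P)
      (Groth.PropsBasic.isNagata_of_isLocalization M (C ⧸ P)
        (isNagata_of_surjective (Ideal.Quotient.mk p') Ideal.Quotient.mk_surjective hA))
  · obtain ⟨a', d', hd', hmem⟩ := hlin y
    obtain ⟨c, hc⟩ := Ideal.mem_span_singleton'.1 hmem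
    have ha' : a' ∈ p' := by
      change algebraMap A C a' ∈ P
      rw [show algebraMap A C a' = algebraMap A C d' * y - c * xc by linear_combination hc]
      exact sub_mem (P.mul_mem_left _ hy) (P.mul_mem_left _ hxP)
    obtain ⟨t, ht⟩ := hmul a' ha'
    obtain ⟨e', he'⟩ := (hunit d' hd').exists_left_inv
    refine ⟨e' * (algebraMap A C t + c * algebraMap A C (E * a)), hf ?_⟩
    have hc' := congrArg f hc
    have he'' := congrArg f he'
    simp only [map_mul, map_sub, map_add, map_one, hfA] at hc' he'' ⊢
    have hw' : w * f xc = algebraMap A K (E * a) := div_mul_cancel₀ _ hfx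
    have ht' : algebraMap A K t = w * algebraMap A K a' := by
      rw [div_mul_eq_mul_div, eq_div_iff hfx, ht, ← map_mul]; congr 1; ring
    rw [map_mul] at hw'
    rw [ht', hsπ]
    linear_combination (-(w * algebraMap A K π * f y)) * he'' +
      (-(f e' * w * algebraMap A K π)) * hc' + (f e' * algebraMap A K π * f c) * hw'

end Groth.Calg1
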