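import Mathlib

/-!
Noether normalisation over a domain, after inverting one element.
-/

set_option autoImplicit false
universe u

namespace Groth.Calg1

open Polynomial TensorProduct
open scoped nonZeroDivisors

theorem exists_noetherNormalization {R S : Type u} [CommRing R] [IsDomain R] [CommRing S]
    [Algebra R S] [Algebra.FiniteType R S] (hinj : Function.Injective (algebraMap R S)) :
    ∃ (d : ℕ) (y : Fin d → S) (S' : Subalgebra R S), AlgebraicIndependent R y ∧ (∀ i, y i ∈ S') ∧
      S'.FG ∧ (∀ s ∈ S', IsIntegral (Algebra.adjoin R (Set.range y)) s) ∧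
      ∃ f : R, f ≠ 0 ∧ ∀ s : S, ∃ n : ℕ, (f ^ n) • s ∈ S' := by
  classical
  let K := FractionRing R
  let L := K ⊗[R] S
  let ι : S →ₐ[R] L := Algebra.TensorProduct.includeRight
  have hker : ∀ s, ι s = 0 → ∃ c ∈ R⁰, c • s = 0 := fun s hs => by
    have h0 : TensorProduct.mk R K S 1 s = TensorProduct.mk R K S 1 0 := by
      rw [map_zero]; exact hs
    obtain ⟨c, hc⟩ := IsLocalizedModule.exists_of_eq (S := R⁰) h0
    exact ⟨c, c.2, by simpa [Submonoid.smul_def] using hc⟩
  have hsurj : ∀ z : L, ∃ c ∈ R⁰, ∃ s, c • z = ι s := fun z => by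
    obtain ⟨⟨s, c⟩, h⟩ := IsLocalizedModule.surj R⁰ (TensorProduct.mk R K S 1) z
    exact ⟨c, c.2, s, h⟩
  haveI : Nontrivial L := by
    refine ⟨⟨ι 1, 0, fun h => ?_⟩⟩
    obtain ⟨c, hc, hc0⟩ := hker 1 h
    exact nonZeroDivisors.ne_zero hc (hinj (by simpa [Algebra.smul_def] using hc0))
  obtain ⟨d, g₀, hg₀i, hg₀⟩ := exists_integral_inj_algHom_of_fg K L
  choose c hc y hcy using fun i => hsurj (g₀ (MvPolynomial.X i))
  have hcne : ∀ i, algebraMap R K (c i) ≠ 0 := fun i =>
    (map_ne_zero_iff _ (IsFractionRing.injective R K)).mpr (nonZeroDivisors.ne_zero (hc i))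
  -- rescale the variables
  let g : MvPolynomial (Fin d) K →ₐ[K] L := MvPolynomial.aeval fun i => ι (y i)
  let σ : MvPolynomial (Fin d) K →ₐ[K] MvPolynomial (Fin d) K :=
    MvPolynomial.aeval fun i => MvPolynomial.C (algebraMap R K (c i)) * MvPolynomial.X i
  let τ : MvPolynomial (Fin d) K →ₐ[K] MvPolynomial (Fin d) K :=
    MvPolynomial.aeval fun i => MvPolynomial.C (algebraMap R K (c i))⁻¹ * MvPolynomial.X i
  have hgσ : g₀.comp σ = g := MvPolynomial.algHom_ext fun i => by
    simp [g, σ, ← hcy, ← MvPolynomial.algebraMap_eq, ← Algebra.smul_def, AlgHom.commutes]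
  have hστ : σ.comp τ = AlgHom.id K _ := MvPolynomial.algHom_ext fun i => by
    simp only [AlgHom.comp_apply, σ, τ, MvPolynomial.aeval_X, map_mul, MvPolynomial.aeval_C,
      MvPolynomial.algebraMap_eq, AlgHom.id_apply, ← mul_assoc]
    rw [← map_mul, inv_mul_cancel₀ (hcne i), map_one, one_mul]
  have hτσ : τ.comp σ = AlgHom.id K _ := MvPolynomial.algHom_ext fun i => by
    simp only [AlgHom.comp_apply, σ, τ, MvPolynomial.aeval_X, map_mul, MvPolynomial.aeval_C,
      MvPolynomial.algebraMap_eq, AlgHom.id_apply, ← mul_assoc]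
    rw [← map_mul, mul_inv_cancel₀ (hcne i), map_one, one_mul]
  have hσ : Function.Bijective σ :=
    Function.bijective_iff_has_inverse.mpr ⟨τ, AlgHom.congr_fun hτσ, AlgHom.congr_fun hστ⟩
  have hgi : Function.Injective g := by
    rw [← hgσ]; exact hg₀i.comp hσ.1
  have hg : g.toRingHom.IsIntegral := by
    rw [← hgσ]
    exact (RingHom.isIntegral_of_surjective σ.toRingHom hσ.2).trans _ _ hg₀
  have hnat : ∀ P : MvPolynomial (Fin d) R,
      g (MvPolynomial.map (algebraMap R K) P) = ι (MvPolynomial.aeval y P) := fun P => by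
    show MvPolynomial.aeval (fun i => ι (y i)) (MvPolynomial.map (algebraMap R K) P) = _
    rw [MvPolynomial.aeval_map_algebraMap, MvPolynomial.comp_aeval_apply]
  have hindep : AlgebraicIndependent R y := by
    rw [algebraicIndependent_iff_injective_aeval, injective_iff_map_eq_zero]
    intro P hP
    have h1 : g (MvPolynomial.map (algebraMap R K) P) = 0 := by rw [hnat, hP, map_zero]
    exact MvPolynomial.map_injective _ (IsFractionRing.injective R K)
      (by rw [map_zero]; exact hgi (by rw [h1, map_zero]))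
  set A := Algebra.adjoin R (Set.range y) with hA
  have key : ∀ s : S, ∃ e : R, e ≠ 0 ∧ IsIntegral A (e • s) := fun s => by
    letI : Algebra (MvPolynomial (Fin d) R) (MvPolynomial (Fin d) K) :=
      MvPolynomial.algebraMvPolynomial
    letI : Algebra (MvPolynomial (Fin d) K) L := g.toRingHom.toAlgebra
    letI : Algebra (MvPolynomial (Fin d) R) L :=
      (g.toRingHom.comp (MvPolynomial.map (algebraMap R K))).toAlgebra
    haveI : IsScalarTower (MvPolynomial (Fin d) R) (MvPolynomial (Fin d) K) L :=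
      IsScalarTower.of_algebraMap_eq' rfl
    obtain ⟨⟨_, e, he, rfl⟩, p, hp, hp0⟩ :=
      IsIntegral.exists_multiple_integral_of_isLocalization (Rₘ := MvPolynomial (Fin d) K)
        ((R⁰).map (MvPolynomial.C (σ := Fin d))) (ι s) (hg (ι s))
    -- the coefficients live in `A`
    let φ : MvPolynomial (Fin d) R →+* S := (MvPolynomial.aeval y).toRingHom
    have hφ : ι.toRingHom.comp φ = algebraMap (MvPolynomial (Fin d) R) L :=
      RingHom.ext fun P => (hnat P).symm
    have hes : (MvPolynomial.C e : MvPolynomial (Fin d) R) • ι s = ι (e • s) := by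
      rw [map_smul, ← algebraMap_smul L e (ι s), smul_eq_mul, Algebra.smul_def]
      congr 1
      simp [RingHom.algebraMap_toAlgebra, g, MvPolynomial.algebraMap_eq]
      exact (IsScalarTower.algebraMap_apply R K L e).symm
    have h0 : ι ((p * X).eval₂ φ (e • s)) = 0 := by
      have : eval₂ (ι.toRingHom.comp φ) (ι.toRingHom (e • s)) p = 0 := by
        rw [hφ]
        show eval₂ _ (ι (e • s)) p = 0
        rw [← hes]; exact hp0
      rw [← hom_eval₂] at this
      rw [eval₂_mul, map_mul]
      exact mul_eq_zero_of_left this _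
    obtain ⟨c', hc', hc0⟩ := hker _ h0
    refine ⟨c' * e, mul_ne_zero (nonZeroDivisors.ne_zero hc') (nonZeroDivisors.ne_zero he), ?_⟩
    have hint : φ.IsIntegralElem ((c' * e) • s) := by
      refine ⟨(p * X).scaleRoots (MvPolynomial.C c'), ?_, ?_⟩
      · exact (monic_scaleRoots_iff _).mpr (hp.mul monic_X)
      · have hφc : φ (MvPolynomial.C c') = algebraMap R S c' := by simp [φ]
        rw [mul_smul, Algebra.smul_def, ← hφc, scaleRoots_eval₂_mul]
        obtain ⟨k, hk⟩ : ∃ k, (p * X).natDegree = k + 1 :=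
          ⟨p.natDegree, by rw [hp.natDegree_mul monic_X, natDegree_X]⟩
        rw [hk, pow_succ, mul_assoc, hφc, ← Algebra.smul_def, hc0, mul_zero]
    let φA : MvPolynomial (Fin d) R →+* A :=
      ((MvPolynomial.aeval y).codRestrict A fun P => by
        rw [hA, Algebra.adjoin_range_eq_range_aeval]; exact ⟨P, rfl⟩).toRingHom
    obtain ⟨q, hq, hq0⟩ := hint
    exact ⟨q.map φA, hq.map _, by rw [eval₂_map]; exact hq0⟩
  choose e he hint using key
  obtain ⟨T, hT⟩ := (Algebra.FiniteType.out : (⊤ : Subalgebra R S).FG)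
  let f : R := ∏ t ∈ T, e t
  let W : Finset S := Finset.image y Finset.univ ∪ T.image fun t => f • t
  refine ⟨d, y, Algebra.adjoin R (W : Set S), hindep, fun i => Algebra.subset_adjoin (by simp [W]),
    ⟨W, rfl⟩, ?_, f, Finset.prod_ne_zero_iff.mpr fun t _ => he t, fun s => ?_⟩
  · intro s hs
    have hle : Algebra.adjoin R (W : Set S) ≤ (integralClosure A S).restrictScalars R := by
      refine Algebra.adjoin_le fun w hw => ?_
      simp only [W, Finset.coe_union, Finset.coe_image, Finset.coe_univ, Set.image_univ,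
        Set.mem_union, Set.mem_range, Set.mem_image] at hw
      rcases hw with ⟨i, rfl⟩ | ⟨t, ht, rfl⟩
      · exact (isIntegral_algebraMap : IsIntegral A
          (algebraMap A S ⟨y i, Algebra.subset_adjoin ⟨i, rfl⟩⟩))
      · show IsIntegral A (f • t)
        have : f • t = algebraMap R A (∏ u ∈ T.erase t, e u) • (e t • t) := by
          rw [algebraMap_smul, smul_smul, Finset.prod_erase_mul T e ht]
        rw [this]
        exact (hint t).smul _
    exact hle hs
  · have hs : s ∈ Algebra.adjoin R (T : Set S) := hT ▸ trivial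
    induction hs using Algebra.adjoin_induction with
    | mem t ht => exact ⟨1, Algebra.subset_adjoin (by simp [W]; exact Or.inr ⟨t, ht, rfl⟩)⟩
    | algebraMap r => exact ⟨0, by simp⟩
    | add a b _ _ ha hb =>
      obtain ⟨m, hm⟩ := ha
      obtain ⟨n, hn⟩ := hb
      refine ⟨m + n, ?_⟩
      rw [smul_add]
      refine add_mem ?_ ?_
      · rw [pow_add, mul_comm, mul_smul]; exact Subalgebra.smul_mem _ hm _
      · rw [pow_add, mul_smul]; exact Subalgebra.smul_mem _ hn _
    | mul a b _ _ ha hb =>
      obtain ⟨m, hm⟩ := ha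
      obtain ⟨n, hn⟩ := hb
      exact ⟨m + n, by rw [pow_add, ← smul_mul_smul_comm]; exact mul_mem hm hn⟩

end Groth.Calg1
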