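import Mathlib
import Groth.Agent.DAlg.Classes
import Groth.Agent.DAlg.BaseChange
import Groth.Agent.PCohPunctual.Devissage
import Groth.Agent.FlatCxBase.BaseChange

/-!
Pseudo-coherence is Zariski local on the ring.
-/

set_option autoImplicit false

universe u

open CategoryTheory CategoryTheory.Limits CategoryTheory.Pretriangulated HomologicalComplex

attribute [local instance] HasDerivedCategory.standard

namespace Groth.Calg1

open Groth.DAlg PCohPunctual

variable {R : Type u} [CommRing R]

theorem finite_of_iso {M N : ModuleCat.{u} R} (e : M ≅ N) (h : Module.Finite R M) : Module.Finite R N :=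
  haveI := h
  Module.Finite.equiv e.toLinearEquiv

/-- Extension of scalars, termwise. -/
noncomputable abbrev extC (S : Type u) [CommRing S] [Algebra R S] :
    DRing.Cx R ⥤ DRing.Cx S :=
  (ModuleCat.extendScalars.{u, u, u} (algebraMap R S)).mapHomologicalComplex (ComplexShape.up ℤ)

theorem nonempty_homology_extC (S : Type u) [CommRing S] [Algebra R S] [Module.Flat R S]
    (K : DRing.Cx R) (i : ℤ) :
    Nonempty (((extC S).obj K).homology i ≅ (ModuleCat.extendScalars.{u, u, u} (algebraMap R S)).obj (K.homology i)) := by
  let F := ModuleCat.extendScalars.{u, u, u} (algebraMap R S)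
  haveI : PreservesFiniteLimits F :=
    ModuleCat.preservesFiniteLimits_extendScalars_of_flat (RingHom.flat_algebraMap_iff.2 inferInstance)
  exact ⟨(K.sc i).mapHomologyIso F⟩

theorem isZero_homology_extC (S : Type u) [CommRing S] [Algebra R S] [Module.Flat R S]
    {K : DRing.Cx R} {i : ℤ} (h : IsZero (K.homology i)) : IsZero (((extC S).obj K).homology i) := by
  obtain ⟨e⟩ := nonempty_homology_extC S K i
  exact ((ModuleCat.extendScalars.{u, u, u} (algebraMap R S)).map_isZero h).of_iso e

theorem isZero_HD_iff (K : DRing.Cx R) (i : ℤ) :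
    IsZero ((DerivedCategory.homologyFunctor (ModuleCat.{u} R) i).obj (DRing.toD K)) ↔ IsZero (K.homology i) :=
  ((DerivedCategory.homologyFunctorFactors (ModuleCat.{u} R) i).app K).isZero_iff

theorem finite_of_cover {r : ℕ} (f : Fin r → R) (hf : Ideal.span (Set.range f) = ⊤) (M : ModuleCat.{u} R)
    (h : ∀ i, Module.Finite (Localization.Away (f i))
      ((ModuleCat.extendScalars (algebraMap R (Localization.Away (f i)))).obj M)) : Module.Finite R M := by
  haveI : ∀ g : (Set.range f : Set R), IsLocalizedModule.Away g.val
      (TensorProduct.mk R (Localization.Away g.val) M 1) := fun g =>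
    (isLocalizedModule_iff_isBaseChange (Submonoid.powers g.val) (Localization.Away g.val) _).2
      (TensorProduct.isBaseChange R M (Localization.Away g.val))
  refine Module.Finite.of_localizationSpan' (Set.range f) hf
    (Rₚ := fun g => Localization.Away g.val) (Mₚ := fun g => TensorProduct R (Localization.Away g.val) M)
    (fun g => TensorProduct.mk R (Localization.Away g.val) M 1) ?_
  rintro ⟨_, i, rfl⟩
  haveI := h i
  exact Module.Finite.equiv (FlatCxBase.extendEquiv (Localization.Away (f i)) M)

theorem isPseudoCoherent_of_cover {r : ℕ} (f : Fin r → R) (hf : Ideal.span (Set.range f) = ⊤) :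
    ∀ (k : ℕ) (K : DRing.Cx R) (m : ℤ), (∀ j, m + k < j → IsZero (K.homology j)) →
      (∀ i, PCn (finFree (Localization.Away (f i))) m (DRing.toD ((extC (Localization.Away (f i))).obj K))) →
      PCn (finFree R) m (DRing.toD K) := by
  intro k
  induction k with
  | zero =>
    intro K m hac hK
    have hac' : ∀ j, m < j → IsZero (K.homology j) := fun j hj => hac j (by simpa using hj)
    refine pcn_of_ft (isAdditiveSub_finFree R) (isQuasiLiftable_finFree R)
      (fun j hj => (isZero_HD_iff K j).2 (hac' j hj)) ((finite_iff_ft R _).2 ?_)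
    haveI : Module.Finite R (K.homology m) := finite_of_cover f hf _ fun i => by
      obtain ⟨e⟩ := nonempty_homology_extC (Localization.Away (f i)) K m
      have h1 := (finite_iff_ft _ _).1 (ft_of_pcn (isQuasiStable_finFree _)
        (fun j hj => (isZero_HD_iff _ j).2 (isZero_homology_extC (Localization.Away (f i)) (hac' j hj))) (hK i))
      exact finite_of_iso (((DerivedCategory.homologyFunctorFactors
        (ModuleCat.{u} (Localization.Away (f i))) m).app _).trans e) h1
    exact finite_of_iso ((DerivedCategory.homologyFunctorFactors (ModuleCat.{u} R) m).app K).symm ‹_›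
  | succ k ih =>
    intro K m hac hK
    obtain ⟨n, hn⟩ : ∃ n : ℤ, n = m + k + 1 := ⟨_, rfl⟩
    have hacn : ∀ j, n < j → IsZero (K.homology j) := fun j hj => hac j (by push_cast; omega)
    haveI : Module.Finite R (K.homology n) := finite_of_cover f hf _ fun i => by
      obtain ⟨e⟩ := nonempty_homology_extC (Localization.Away (f i)) K n
      have h1 := (finite_iff_ft _ _).1 (ft_of_pcn (isQuasiStable_finFree _)
        (fun j hj => (isZero_HD_iff _ j).2 (isZero_homology_extC (Localization.Away (f i)) (hacn j hj)))
        ((hK i).mono (show m ≤ n by omega)))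
      exact finite_of_iso (((DerivedCategory.homologyFunctorFactors
        (ModuleCat.{u} (Localization.Away (f i))) n).app _).trans e) h1
    obtain ⟨N, g, hg⟩ := Module.Finite.exists_fin' R (K.homology n)
    let P : ModuleCat.{u} R := ModuleCat.of R (Fin N → R)
    have hPf : finFree R P :=
      ⟨inferInstanceAs (Module.Finite R (Fin N → R)), inferInstanceAs (Module.Free R (Fin N → R))⟩
    have hπ : Function.Surjective (K.homologyπ n) := (ModuleCat.epi_iff_surjective _).1 inferInstance
    choose z hz using fun t => hπ (g (Pi.single t 1))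
    let l : P ⟶ K.cycles n := ModuleCat.ofHom ((Pi.basisFun R (Fin N)).constr R z)
    have hl : l ≫ K.homologyπ n = ModuleCat.ofHom g := by
      refine ModuleCat.hom_ext ((Pi.basisFun R (Fin N)).ext fun t => ?_)
      change K.homologyπ n ((Pi.basisFun R (Fin N)).constr R z ((Pi.basisFun R (Fin N)) t)) = g ((Pi.basisFun R (Fin N)) t)
      rw [Module.Basis.constr_basis, hz, Pi.basisFun_apply]
    let φ : (single (ModuleCat.{u} R) (ComplexShape.up ℤ) n).obj P ⟶ K :=
      mkHomFromSingle (l ≫ K.iCycles n) (fun j _ => by rw [Category.assoc, iCycles_d, comp_zero])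
    have hepi : Epi (homologyMap φ n) := by
      have h1 : (singleObjCyclesSelfIso (ComplexShape.up ℤ) n P).inv ≫ cyclesMap φ n = l := by
        rw [← cancel_mono (K.iCycles n), Category.assoc, cyclesMap_i, singleObjCyclesSelfIso_inv_iCycles_assoc]
        simp [φ]
      have h2 : (singleObjCyclesSelfIso (ComplexShape.up ℤ) n P).inv ≫
          ((single (ModuleCat.{u} R) (ComplexShape.up ℤ) n).obj P).homologyπ n ≫ homologyMap φ n = ModuleCat.ofHom g := by
        rw [homologyπ_naturality, ← Category.assoc, h1, hl]
      haveI : Epi (ModuleCat.ofHom g) := (ModuleCat.epi_iff_surjective _).2 hg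
      haveI := epi_of_epi_fac h2
      exact epi_of_epi (((single (ModuleCat.{u} R) (ComplexShape.up ℤ) n).obj P).homologyπ n) _
    let C := CochainComplex.mappingCone φ
    have hT := DerivedCategory.mappingCone_triangle_distinguished φ
    have hPz : ∀ j, j ≠ n → IsZero (((single (ModuleCat.{u} R) (ComplexShape.up ℤ) n).obj P).homology j) :=
      fun j hj => (exactAt_iff_isZero_homology _ _).1 (exactAt_single_obj (ComplexShape.up ℤ) n P j hj)
    have hC : ∀ j, m + k < j → IsZero (C.homology j) := by
      intro j hj
      refine (isZero_HD_iff C j).1 ?_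
      have hepi' : Epi ((DerivedCategory.homologyFunctor (ModuleCat.{u} R) j).map (DerivedCategory.Q.map φ)) := by
        rcases eq_or_ne j n with rfl | hne
        · exact ((MorphismProperty.epimorphisms (ModuleCat.{u} R)).arrow_mk_iso_iff
            (Arrow.isoOfNatIso (DerivedCategory.homologyFunctorFactors (ModuleCat.{u} R) j) (Arrow.mk φ))).2 hepi
        · exact ⟨fun a b _ => ((isZero_HD_iff K j).2 (hacn j (by omega))).eq_of_src a b⟩
      exact (DerivedCategory.HomologySequence.exact₃ _ hT j (j + 1) rfl).isZero_of_both_zeros
        ((DerivedCategory.HomologySequence.epi_homologyMap_mor₁_iff _ hT j).1 hepi')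
        (((isZero_HD_iff _ (j + 1)).2 (hPz (j + 1) (by omega))).eq_of_tgt _ _)
    have hPC : ∀ (q : ℤ), PCn (finFree R) q (DRing.toD ((single (ModuleCat.{u} R) (ComplexShape.up ℤ) n).obj P)) := by
      intro q
      refine ⟨_, ⟨⟨n, fun j hj => isZero_single_obj_X _ _ _ _ (by omega)⟩, fun j _ => ?_⟩, ⟨Iso.refl _⟩⟩
      rcases eq_or_ne j n with rfl | hne
      · exact (isAdditiveSub_finFree R).of_iso (singleObjXSelf (ComplexShape.up ℤ) j P).symm hPf
      · exact (isAdditiveSub_finFree R).zero _ (isZero_single_obj_X _ _ _ _ hne)
    have hCloc : ∀ i, PCn (finFree (Localization.Away (f i))) m (DRing.toD ((extC (Localization.Away (f i))).obj C)) := by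
      intro i
      let S := Localization.Away (f i)
      let φ' := (extC S).map φ
      have h2 : PCn (finFree S) m (DRing.toD (CochainComplex.mappingCone φ')) := by
        refine PCn.cone (isAdditiveSub_finFree S) (isQuasiStable_finFree S) (isQuasiLiftable_finFree S)
          (DerivedCategory.mappingCone_triangle_distinguished φ') ?_ (hK i)
        refine ⟨_, ⟨⟨n, fun j hj => (ModuleCat.extendScalars.{u, u, u} (algebraMap R S)).map_isZero
          (isZero_single_obj_X (ComplexShape.up ℤ) n P j (by omega))⟩, fun j _ => ?_⟩, ⟨Iso.refl _⟩⟩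
        rcases eq_or_ne j n with rfl | hne
        · refine (isAdditiveSub_finFree S).of_iso
            ((ModuleCat.extendScalars.{u, u, u} (algebraMap R S)).mapIso (singleObjXSelf (ComplexShape.up ℤ) j P).symm) ?_
          exact ⟨Module.Finite.equiv (FlatCxBase.extendEquiv S P).symm,
            Module.Free.of_equiv (FlatCxBase.extendEquiv S P).symm⟩
        · exact (isAdditiveSub_finFree S).zero _ ((ModuleCat.extendScalars.{u, u, u} (algebraMap R S)).map_isZero
            (isZero_single_obj_X (ComplexShape.up ℤ) n P j hne))
      exact h2.of_iso (DerivedCategory.Q.mapIso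
        (CochainComplex.mappingCone.mapHomologicalComplexIso φ (ModuleCat.extendScalars.{u, u, u} (algebraMap R S))).symm)
    exact PCn.ext (isAdditiveSub_finFree R) (isQuasiStable_finFree R) (isQuasiLiftable_finFree R)
      hT (hPC m) (ih C m hC hCloc)

theorem isPseudoCoherent_of_span {r : ℕ} (f : Fin r → R) (hf : Ideal.span (Set.range f) = ⊤)
    (K : DRing.Cx R) (m : ℤ)
    (hK : ∀ i, DRing.IsPseudoCoherent (Localization.Away (f i)) m
      (DRing.toD ((extC (Localization.Away (f i))).obj K))) :
    DRing.IsPseudoCoherent R m (DRing.toD K) := by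
  have hK' := fun i => isPseudoCoherent_iff.1 (hK i)
  choose b hb using fun i => (hK' i).bddAbove
  obtain ⟨B, hB⟩ : ∃ B : ℤ, ∀ i, b i ≤ B := by
    rcases isEmpty_or_nonempty (Fin r) with h | h
    · exact ⟨0, fun i => isEmptyElim i⟩
    · obtain ⟨i₀, hi₀⟩ := Finite.exists_max b
      exact ⟨b i₀, hi₀⟩
  refine isPseudoCoherent_iff.2 (isPseudoCoherent_of_cover f hf (B - m).toNat K m (fun j hj => ?_) hK')
  have hz : ∀ i, IsZero ((ModuleCat.extendScalars.{u, u, u} (algebraMap R (Localization.Away (f i)))).obj
      (K.homology j)) := fun i => by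
    obtain ⟨e⟩ := nonempty_homology_extC (Localization.Away (f i)) K j
    have := hB i
    exact ((isZero_HD_iff _ j).1 (hb i j (by omega))).of_iso e.symm
  refine ModuleCat.isZero_iff_subsingleton.2 ⟨fun x y => ?_⟩
  haveI : ∀ g : (Set.range f : Set R), IsLocalizedModule.Away g.val
      (TensorProduct.mk R (Localization.Away g.val) (K.homology j) 1) := fun g =>
    (isLocalizedModule_iff_isBaseChange (Submonoid.powers g.val) (Localization.Away g.val) _).2
      (TensorProduct.isBaseChange R (K.homology j) (Localization.Away g.val))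
  refine Module.eq_of_isLocalized_span (R := R) (Set.range f) hf
    (fun g : (Set.range f : Set R) => TensorProduct R (Localization.Away g.val) (K.homology j))
    (fun g => TensorProduct.mk R (Localization.Away g.val) (K.homology j) 1) x y ?_
  rintro ⟨_, i, rfl⟩
  haveI := ModuleCat.subsingleton_of_isZero (hz i)
  exact (FlatCxBase.extendEquiv (Localization.Away (f i)) (K.homology j)).symm.injective (Subsingleton.elim _ _)

end Groth.Calg1
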