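import Mathlib
import Groth.Prelude.Def_CAlgX
import Groth.Agent.VarietyBC.TensorAlgClosed

/-!
Tensor products over a separably closed field of rings with a unique minimal prime.
-/

set_option autoImplicit false

universe u

open TensorProduct

namespace Groth.Calg1

theorem nilradical_isPrime_of_hasUniqueMinimalPrime {A : Type u} [CommRing A]
    (h : CAlgX.HasUniqueMinimalPrime A) : (nilradical A).IsPrime := by
  obtain ⟨p, hp, huniq⟩ := h
  have : nilradical A = p := by
    refine le_antisymm (nilradical_le_prime p (H := Ideal.minimalPrimes_isPrime hp)) ?_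
    rw [nilradical_eq_sInf]
    refine le_sInf fun J (hJ : J.IsPrime) => ?_
    obtain ⟨q, hq, hqJ⟩ := Ideal.exists_minimalPrimes_le (bot_le : (⊥ : Ideal A) ≤ J)
    exact (huniq q hq) ▸ hqJ
  exact this ▸ Ideal.minimalPrimes_isPrime hp

theorem hasUniqueMinimalPrime_of_nilradical_isPrime {A : Type u} [CommRing A]
    (h : (nilradical A).IsPrime) : CAlgX.HasUniqueMinimalPrime A :=
  ⟨nilradical A, ⟨⟨h, bot_le⟩, fun q hq _ => nilradical_le_prime q (H := hq.1)⟩, fun q hq =>
    (le_antisymm (hq.2 ⟨h, bot_le⟩ (nilradical_le_prime q (H := hq.1.1))) (nilradical_le_prime q (H := hq.1.1)))⟩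

theorem isNilpotent_of_mem_ker {k kb M N : Type u} [Field k] [Field kb] [Algebra k kb] [IsPurelyInseparable k kb]
    [CommRing M] [CommRing N] [Algebra k M] [Algebra k N] [Algebra kb M] [Algebra kb N]
    [IsScalarTower k kb M] [IsScalarTower k kb N] [Nontrivial (M ⊗[k] N)] (y : M ⊗[k] N)
    (hy : Algebra.TensorProduct.mapOfCompatibleSMul kb k k M N y = 0) : IsNilpotent y := by
  have hmem : y ∈ LinearMap.ker (TensorProduct.mapOfCompatibleSMul kb k kb M N) := hy
  rw [TensorProduct.AlgebraTensorModule.ker_mapOfCompatibleSMul] at hmem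
  clear hy
  induction hmem using Submodule.span_induction with
  | mem x hx =>
    obtain ⟨a, m, n, rfl⟩ := hx
    have e : (a • m) ⊗ₜ[k] n - m ⊗ₜ[k] (a • n) =
        ((algebraMap kb M a) ⊗ₜ[k] (1 : N) - (1 : M) ⊗ₜ[k] (algebraMap kb N a)) * (m ⊗ₜ[k] n) := by
      rw [sub_mul, Algebra.TensorProduct.tmul_mul_tmul, Algebra.TensorProduct.tmul_mul_tmul,
        Algebra.smul_def, Algebra.smul_def, one_mul, one_mul]
    rw [e]
    refine (Commute.all _ _).isNilpotent_mul_right ?_
    obtain ⟨q, _⟩ := ExpChar.exists k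
    haveI : ExpChar (M ⊗[k] N) q :=
      expChar_of_injective_algebraMap (RingHom.injective (algebraMap k (M ⊗[k] N))) q
    obtain ⟨i, b, hb⟩ := IsPurelyInseparable.pow_mem k q a
    refine ⟨q ^ i, ?_⟩
    rw [sub_pow_expChar_pow, Algebra.TensorProduct.tmul_pow, Algebra.TensorProduct.tmul_pow, one_pow, one_pow,
      ← map_pow, ← map_pow, ← hb, ← IsScalarTower.algebraMap_apply, ← IsScalarTower.algebraMap_apply,
      Algebra.algebraMap_eq_smul_one (R := k) (A := M), Algebra.algebraMap_eq_smul_one (R := k) (A := N),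
      TensorProduct.smul_tmul, sub_self]
  | zero => exact IsNilpotent.zero
  | add x z _ _ hx hz => exact (Commute.all _ _).isNilpotent_add hx hz
  | smul c x _ hx => exact hx.smul c

theorem nilradical_isPrime_tensor_fields (k K L : Type u) [Field k] [IsSepClosed k] [Field K] [Field L]
    [Algebra k K] [Algebra k L] : (nilradical (K ⊗[k] L)).IsPrime := by
  let kb := AlgebraicClosure k
  let Kb := AlgebraicClosure K
  let Lb := AlgebraicClosure L
  letI : Algebra kb Kb := (IsAlgClosed.lift : kb →ₐ[k] Kb).toRingHom.toAlgebra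
  letI : Algebra kb Lb := (IsAlgClosed.lift : kb →ₐ[k] Lb).toRingHom.toAlgebra
  haveI : IsScalarTower k kb Kb := IsScalarTower.of_algebraMap_eq fun x =>
    ((IsAlgClosed.lift : kb →ₐ[k] Kb).commutes x).symm
  haveI : IsScalarTower k kb Lb := IsScalarTower.of_algebraMap_eq fun x =>
    ((IsAlgClosed.lift : kb →ₐ[k] Lb).commutes x).symm
  haveI : Nontrivial (Kb ⊗[k] Lb) := Algebra.TensorProduct.nontrivial_of_algebraMap_injective_of_flat_left k Kb Lb (algebraMap k Lb).injective
  let i : K ⊗[k] L →ₐ[k] Kb ⊗[k] Lb :=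
    Algebra.TensorProduct.map (IsScalarTower.toAlgHom k K Kb) (IsScalarTower.toAlgHom k L Lb)
  have hi : Function.Injective i := by
    change Function.Injective (TensorProduct.map (IsScalarTower.toAlgHom k K Kb).toLinearMap
      (IsScalarTower.toAlgHom k L Lb).toLinearMap)
    exact TensorProduct.map_injective_of_flat_flat' _ _ (IsScalarTower.toAlgHom k K Kb).toRingHom.injective
      (IsScalarTower.toAlgHom k L Lb).toRingHom.injective
  let φ : K ⊗[k] L →ₐ[k] Kb ⊗[kb] Lb := (Algebra.TensorProduct.mapOfCompatibleSMul kb k k Kb Lb).comp i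
  haveI : IsDomain (Kb ⊗[kb] Lb) := Groth.VarietyBC.isDomain_tensor
  have : nilradical (K ⊗[k] L) = RingHom.ker φ := by
    refine le_antisymm (nilradical_le_prime _ (H := RingHom.ker_isPrime φ)) fun x hx => ?_
    rw [mem_nilradical]
    exact (IsNilpotent.map_iff hi).1 (isNilpotent_of_mem_ker (kb := kb) (i x) hx)
  exact this ▸ RingHom.ker_isPrime φ

/-- Over a separably closed field the tensor product of two rings with unique minimal primes has a
unique minimal prime. -/
theorem hasUniqueMinimalPrime_tensor {k R S : Type u} [Field k] [IsSepClosed k] [CommRing R] [CommRing S]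
    [Algebra k R] [Algebra k S] (hR : CAlgX.HasUniqueMinimalPrime R) (hS : CAlgX.HasUniqueMinimalPrime S) :
    CAlgX.HasUniqueMinimalPrime (R ⊗[k] S) := by
  haveI := nilradical_isPrime_of_hasUniqueMinimalPrime hR
  haveI := nilradical_isPrime_of_hasUniqueMinimalPrime hS
  refine hasUniqueMinimalPrime_of_nilradical_isPrime ?_
  let P := R ⧸ nilradical R
  let Q := S ⧸ nilradical S
  let K := FractionRing P
  let L := FractionRing Q
  let g : R ⊗[k] S →ₐ[k] P ⊗[k] Q :=
    Algebra.TensorProduct.map (Ideal.Quotient.mkₐ k (nilradical R)) (Ideal.Quotient.mkₐ k (nilradical S))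
  let j : P ⊗[k] Q →ₐ[k] K ⊗[k] L :=
    Algebra.TensorProduct.map (IsScalarTower.toAlgHom k P K) (IsScalarTower.toAlgHom k Q L)
  have hj : Function.Injective j := by
    change Function.Injective (TensorProduct.map (IsScalarTower.toAlgHom k P K).toLinearMap
      (IsScalarTower.toAlgHom k Q L).toLinearMap)
    exact TensorProduct.map_injective_of_flat_flat' _ _ (IsFractionRing.injective P K) (IsFractionRing.injective Q L)
  have hg : RingHom.ker g ≤ nilradical (R ⊗[k] S) := by
    change RingHom.ker (Algebra.TensorProduct.map _ _) ≤ _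
    rw [Algebra.TensorProduct.map_ker _ _ (Ideal.Quotient.mkₐ_surjective k _) (Ideal.Quotient.mkₐ_surjective k _),
      sup_le_iff, Ideal.map_le_iff_le_comap, Ideal.map_le_iff_le_comap]
    constructor <;> intro x hx <;> rw [RingHom.mem_ker, Ideal.Quotient.mkₐ_eq_mk, Ideal.Quotient.eq_zero_iff_mem] at hx <;>
      exact (mem_nilradical.1 hx).map _
  have hP := nilradical_isPrime_tensor_fields k K L
  have : nilradical (R ⊗[k] S) = (nilradical (K ⊗[k] L)).comap (j.comp g) := by
    refine le_antisymm (nilradical_le_prime _ (H := hP.comap _)) fun x hx => ?_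
    obtain ⟨n, hn⟩ := mem_nilradical.1 hx
    have h0 : g (x ^ n) = 0 := hj (by rw [map_zero, map_pow, map_pow]; exact hn)
    exact mem_nilradical.2 (IsNilpotent.of_pow (m := n) (mem_nilradical.1 (hg h0)))
  exact this ▸ hP.comap _

end Groth.Calg1
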