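import Groth.Agent.S4546
import Groth.Agent.Ega41Rank.Index
import Groth.Agent.Ega41Sep.Separable
import Groth.Agent.Calg6.PowerSeries
import Mathlib.RingTheory.MvPowerSeries.Expand
import Mathlib.RingTheory.EssentialFiniteness

/-!
Derivations of finitely generated domains over power series rings detecting non-`p`-th powers.
-/

set_option autoImplicit false
set_option linter.style.haveILetI false

universe u

open MvPowerSeries

namespace Groth.Calg1.SepDer

/-- A power series from its coefficients. -/
def mkSeries {R : Type*} {σ : Type*} (f : (σ →₀ ℕ) → R) : MvPowerSeries σ R := f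

theorem coeff_mkSeries {R : Type*} [Semiring R] {σ : Type*} (f : (σ →₀ ℕ) → R) (n : σ →₀ ℕ) :
    coeff n (mkSeries f) = f n := rfl

variable {k : Type u} [Field k] {d : ℕ} (p : ℕ) [Fact p.Prime]

/-- Series in the `p`-th powers of the variables with coefficients in a subfield. -/
noncomputable def expSub (k' : Subfield k) : Subring (MvPowerSeries (Fin d) k) :=
  ((expand p (Fact.out : p.Prime).ne_zero).toRingHom.comp (map k'.subtype)).range

theorem mem_expSub {k' : Subfield k} {a : MvPowerSeries (Fin d) k} :
    a ∈ expSub p k' ↔ (∀ n, coeff (p • n) a ∈ k') ∧ ∀ m, (∀ n, m ≠ p • n) → coeff m a = 0 := by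
  classical
  constructor
  · rintro ⟨b, rfl⟩
    refine ⟨fun n => ?_, fun m hm => ?_⟩
    · show coeff (p • n) (expand p (Fact.out : p.Prime).ne_zero (map k'.subtype b)) ∈ k'
      rw [coeff_expand_smul, coeff_map]
      exact SetLike.coe_mem _
    · by_contra hne
      refine hm (m.mapRange (· / p) (Nat.zero_div p)) (Finsupp.ext fun i => ?_)
      have hi : p ∣ m i := by
        by_contra hdvd
        exact hne (coeff_expand_of_not_dvd p (Fact.out : p.Prime).ne_zero _ hdvd)
      rw [Finsupp.smul_apply, Finsupp.mapRange_apply, smul_eq_mul, Nat.mul_div_cancel' hi]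
  · rintro ⟨h1, h2⟩
    let b : MvPowerSeries (Fin d) k' := fun n => ⟨coeff (p • n) a, h1 n⟩
    refine ⟨b, ?_⟩
    ext m
    by_cases hm : ∃ n, m = p • n
    · obtain ⟨n, rfl⟩ := hm
      show coeff (p • n) (expand p (Fact.out : p.Prime).ne_zero (map k'.subtype b)) = _
      rw [coeff_expand_smul, coeff_map]
      rfl
    · push Not at hm
      rw [h2 m hm]
      obtain ⟨i, hi⟩ : ∃ i, ¬ p ∣ m i := by
        by_contra! hall
        exact hm (m.mapRange (· / p) (Nat.zero_div p)) (Finsupp.ext fun i => by
          rw [Finsupp.smul_apply, Finsupp.mapRange_apply, smul_eq_mul, Nat.mul_div_cancel' (hall i)])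
      exact coeff_expand_of_not_dvd p (Fact.out : p.Prime).ne_zero _ hi

theorem nsmul_of_le {m n : Fin d →₀ ℕ} (h : p • n ≤ p • m) : n ≤ m := fun i =>
  Nat.le_of_mul_le_mul_left (by simpa using h i) (Fact.out : p.Prime).pos

/-- The subring of series in `p`-th powers is saturated. -/
theorem mem_expSub_of_mul {k' : Subfield k} {a b : MvPowerSeries (Fin d) k} (ha : a ∈ expSub p k')
    (ha0 : a ≠ 0) (hab : a * b ∈ expSub p k') : b ∈ expSub p k' := by
  classical
  haveI : IsDomain (MvPowerSeries (Fin d) k) := NoZeroDivisors.to_isDomain _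
  obtain ⟨π, hπ⟩ := LinearMap.exists_leftInverse_of_injective (Algebra.linearMap k' k)
    (LinearMap.ker_eq_bot.mpr (algebraMap k' k).injective)
  have hπ' : ∀ x : k', π (x : k) = x := fun x => LinearMap.congr_fun hπ x
  let c : MvPowerSeries (Fin d) k := fun m => if ∃ n, m = p • n then ((π (coeff m b) : k') : k) else 0
  have hc : ∀ m, coeff m c = if ∃ n, m = p • n then ((π (coeff m b) : k') : k) else 0 := fun m => rfl
  have hcS : c ∈ expSub p k' := by
    rw [mem_expSub]
    refine ⟨fun n => ?_, fun m hm => ?_⟩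
    · rw [hc]
      split_ifs
      · exact SetLike.coe_mem _
      · exact zero_mem _
    · rw [hc, if_neg (by push Not; exact hm)]
  have heq : a * c = a * b := by
    ext m
    by_cases hm : ∃ n, m = p • n
    · obtain ⟨n, rfl⟩ := hm
      have h0 := ((mem_expSub p).1 hab).1 n
      rw [show coeff (p • n) (a * b) = ((π (coeff (p • n) (a * b)) : k') : k) from
        congrArg Subtype.val (hπ' ⟨_, h0⟩).symm]
      rw [coeff_mul, coeff_mul, map_sum, AddSubmonoidClass.coe_finset_sum]
      refine Finset.sum_congr rfl fun q hq => ?_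
      rw [Finset.HasAntidiagonal.mem_antidiagonal] at hq
      by_cases h1 : ∃ i, q.1 = p • i
      · obtain ⟨i, hi⟩ := h1
        have hle : i ≤ n := nsmul_of_le p (by rw [← hi, ← hq]; exact le_self_add)
        have hq2 : q.2 = p • (n - i) := by
          refine add_left_cancel (a := q.1) (hq.trans ?_)
          rw [hi, ← nsmul_add, add_tsub_cancel_of_le hle]
        rw [hc, if_pos ⟨_, hq2⟩, hi]
        have hai := ((mem_expSub p).1 ha).1 i
        rw [show coeff (p • i) a * coeff q.2 b = (⟨_, hai⟩ : k') • coeff q.2 b from rfl, map_smul]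
        rfl
      · push Not at h1
        rw [((mem_expSub p).1 ha).2 _ h1, zero_mul, zero_mul, map_zero, ZeroMemClass.coe_zero]
    · push Not at hm
      rw [((mem_expSub p).1 hab).2 m hm, ((mem_expSub p).1 (Subring.mul_mem _ ha hcS)).2 m hm]
  rw [← mul_left_cancel₀ ha0 heq]
  exact hcS

theorem pow_mem_expSub [CharP k p] {k' : Subfield k} (hk' : ∀ c : k, c ^ p ∈ k') (a : MvPowerSeries (Fin d) k) :
    a ^ p ∈ expSub p k' := by
  haveI : ExpChar k p := ExpChar.prime Fact.out
  haveI : CharP (MvPowerSeries (Fin d) k) p :=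
    charP_of_injective_ringHom (f := (C : k →+* MvPowerSeries (Fin d) k)) C_injective p
  refine ⟨mkSeries fun n => ⟨coeff n a ^ p, hk' _⟩, ?_⟩
  show expand p (Fact.out : p.Prime).ne_zero (map k'.subtype _) = a ^ p
  rw [← MvPowerSeries.map_frobenius_expand (p := p) (hp := (Fact.out : p.Prime).ne_zero) (f := a), map_expand]
  congr 1

/-- A power series ring is a finite module over the series in `p`-th powers with coefficients in a cofinite subfield. -/
theorem finite_expSub (k' : Subfield k) [Module.Finite k' k] :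
    Module.Finite (expSub (d := d) p k') (MvPowerSeries (Fin d) k) := by
  classical
  let e := Module.finBasis k' k
  let A := MvPowerSeries (Fin d) k
  let gen : Fin (Module.finrank k' k) × (Fin d → Fin p) → A :=
    fun q => C (e q.1) * monomial (Finsupp.equivFunOnFinite.symm fun i => (q.2 i : ℕ)) 1
  refine ⟨⟨Finset.univ.image gen, eq_top_iff.2 fun a _ => ?_⟩⟩
  let co : Fin (Module.finrank k' k) × (Fin d → Fin p) → A := fun q =>
    expand p (Fact.out : p.Prime).ne_zero (map k'.subtype
      (mkSeries fun n => e.repr (coeff (p • n + Finsupp.equivFunOnFinite.symm fun i => (q.2 i : ℕ)) a) q.1))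
  have hco : a = ∑ q, co q * gen q := by
    ext m
    let r : Fin d → Fin p := fun i => ⟨m i % p, Nat.mod_lt _ (Fact.out : p.Prime).pos⟩
    let n : Fin d →₀ ℕ := Finsupp.equivFunOnFinite.symm fun i => m i / p
    have hm : m = p • n + Finsupp.equivFunOnFinite.symm fun i => (r i : ℕ) := Finsupp.ext fun i => by
      simp [n, r, Nat.div_add_mod]
    rw [map_sum, Fintype.sum_prod_type]
    rw [Finset.sum_congr rfl (fun j _ => Finset.sum_eq_single r (fun r' _ hr' => ?_)
      (fun h => absurd (Finset.mem_univ r) h))]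
    · conv_lhs => rw [← e.sum_repr (coeff m a)]
      refine Finset.sum_congr rfl fun j _ => ?_
      rw [show co (j, r) * gen (j, r) = C (e j) * (co (j, r) * monomial _ 1) by simp only [gen]; ring,
        coeff_C_mul, coeff_mul_monomial, if_pos (show (Finsupp.equivFunOnFinite.symm fun i => (r i : ℕ)) ≤ m from
          fun i => Nat.mod_le _ _), mul_one,
        show m - (Finsupp.equivFunOnFinite.symm fun i => (r i : ℕ)) = p • n from Finsupp.ext fun i => by
          simp [n, r]; have := Nat.div_add_mod (m i) p; omega]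
      rw [coeff_expand_smul, coeff_map, coeff_mkSeries]
      show ((e.repr (coeff m a) j : k') : k) * e j =
        e j * ((e.repr (coeff (p • n + Finsupp.equivFunOnFinite.symm fun i => (r i : ℕ)) a) j : k') : k)
      rw [← hm, mul_comm]
    · rw [show co (j, r') * gen (j, r') = C (e j) * (co (j, r') * monomial _ 1) by simp only [gen]; ring,
        coeff_C_mul, coeff_mul_monomial]
      split_ifs with hle
      · obtain ⟨i, hi⟩ := Function.ne_iff.1 hr'
        rw [coeff_expand_of_not_dvd (i := i), zero_mul, mul_zero]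
        intro hdvd
        refine hi (Fin.ext ?_)
        have hle' : (r' i : ℕ) ≤ m i := by simpa using hle i
        rw [Finsupp.tsub_apply] at hdvd
        simp only [Finsupp.coe_equivFunOnFinite_symm] at hdvd
        show (r' i : ℕ) = m i % p
        obtain ⟨t, ht⟩ := hdvd
        rw [show m i = r' i + p * t by omega, Nat.add_mul_mod_self_left, Nat.mod_eq_of_lt (r' i).2]
      · exact mul_zero _
  rw [hco]
  refine Submodule.sum_mem _ fun q _ => ?_
  exact Submodule.smul_mem _ (⟨co q, ⟨_, rfl⟩⟩ : expSub p k') (Submodule.subset_span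
    (Finset.mem_coe.2 (Finset.mem_image_of_mem _ (Finset.mem_univ q))))

/-- A directed family of cofinite subfields meeting in the field of `p`-th powers. -/
theorem exists_cofinite_subfields [CharP k p] :
    ∃ (ι : Type u) (_ : Preorder ι) (_ : IsDirected ι (· ≤ ·)) (_ : Nonempty ι) (kf : ι → Subfield k),
      Antitone kf ∧ (∀ i (c : k), c ^ p ∈ kf i) ∧ (∀ i, Module.Finite (kf i) k) ∧
        ∀ c : k, (∀ i, c ∈ kf i) → ∃ x, x ^ p = c := by
  classical
  let F := Groth.Ega41Sep.ZModU.{u} p
  haveI : CharP F p := charP_of_injective_ringHom (f := ULift.ringEquiv.symm.toRingHom) (RingEquiv.injective _) p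
  letI : Algebra F k := Groth.Ega41Sep.zmodUAlgebra p k
  obtain ⟨T, hT⟩ := Groth.Ega41Sep.exists_isPBasis p F k
  obtain ⟨b, hb⟩ := Groth.Ega41Sep.isPBasis_iff_basis.1 hT
  let kf : Finset T → IntermediateField F k := fun s =>
    IntermediateField.adjoin F (Set.range (fun v : k => v ^ p) ∪ (Subtype.val '' ((s : Set T)ᶜ)))
  have hD : ∀ s, ∀ y ∈ kf s, ∀ t ∈ s, b.repr (KaehlerDifferential.D F k y) t = 0 := by
    intro s y hy
    induction hy using IntermediateField.adjoin_induction with
    | mem z hz =>
      intro t ht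
      rcases hz with ⟨v, rfl⟩ | ⟨t', ht', rfl⟩
      · rw [Derivation.leibniz_pow, ← Nat.cast_smul_eq_nsmul k, CharP.cast_eq_zero, zero_smul, map_zero]; rfl
      · rw [← hb, Module.Basis.repr_self, Finsupp.single_eq_of_ne]
        rintro rfl
        exact ht' ht
    | algebraMap c => intro t _; rw [Derivation.map_algebraMap, map_zero]; rfl
    | add a c _ _ ha hc => intro t ht; rw [map_add, map_add, Finsupp.add_apply, ha t ht, hc t ht, add_zero]
    | inv a _ ha => intro t ht; rw [Derivation.leibniz_inv, map_smul, Finsupp.smul_apply, ha t ht, smul_zero]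
    | mul a c _ _ ha hc =>
      intro t ht
      rw [Derivation.leibniz, map_add, map_smul, map_smul, Finsupp.add_apply, Finsupp.smul_apply,
        Finsupp.smul_apply, ha t ht, hc t ht, smul_zero, smul_zero, add_zero]
  refine ⟨Finset T, inferInstance, inferInstance, inferInstance, fun s => (kf s).toSubfield, fun s t hst => ?_,
    fun s c => ?_, fun s => ?_, fun c hc => ?_⟩
  · exact IntermediateField.adjoin.mono F _ _ (Set.union_subset_union_right _
      (Set.image_mono (Set.compl_subset_compl.2 (Finset.coe_subset.2 hst))))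
  · exact IntermediateField.subset_adjoin F _ (Or.inl ⟨c, rfl⟩)
  · let E : IntermediateField (kf s) k := IntermediateField.adjoin (kf s) (Subtype.val '' (s : Set T))
    haveI : FiniteDimensional (kf s) E := by
      refine IntermediateField.finiteDimensional_adjoin (S := Subtype.val '' (s : Set T)) fun x _ => ?_
      refine IsIntegral.of_pow (Fact.out : p.Prime).pos ?_
      exact isIntegral_algebraMap (x := (⟨x ^ p, IntermediateField.subset_adjoin F _ (Or.inl ⟨x, rfl⟩)⟩ : kf s))
    have hE : E = ⊤ := by
      refine eq_top_iff.2 fun y hy' => ?_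
      clear hy'
      have hgen : Submodule.span k (KaehlerDifferential.D F k '' T) = ⊤ := by
        rw [← b.span_eq]
        congr 1
        ext w
        simp [hb]
      have h1 := (Groth.Ega41Sep.mem_adjoin_iff_D_mem_span (p := p) (k := F) T y).2
        (hgen ▸ Submodule.mem_top)
      induction h1 using Algebra.adjoin_induction with
      | mem z hz =>
        by_cases hzs : (⟨z, hz⟩ : T) ∈ s
        · exact IntermediateField.subset_adjoin (kf s) _ ⟨⟨z, hz⟩, hzs, rfl⟩
        · exact E.algebraMap_mem (⟨z, IntermediateField.subset_adjoin F _ (Or.inr ⟨⟨z, hz⟩, hzs, rfl⟩)⟩ : kf s)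
      | algebraMap r =>
        obtain ⟨x, hx⟩ := Groth.Ega41Sep.pow_mem_range_of_mem_pPower p r.2
        exact E.algebraMap_mem (⟨(r : k), hx ▸ IntermediateField.subset_adjoin F _ (Or.inl ⟨x, rfl⟩)⟩ : kf s)
      | add a c _ _ ha hc => exact add_mem ha hc
      | mul a c _ _ ha hc => exact mul_mem ha hc
    have : Module.Finite (kf s) (⊤ : IntermediateField (kf s) k) := hE ▸ ‹FiniteDimensional (kf s) E›
    exact Module.Finite.equiv (IntermediateField.topEquiv (F := kf s) (E := k)).toLinearEquiv
  · refine Groth.Ega41Sep.pow_mem_range_of_mem_pPower p ((Groth.Ega41Sep.Admissible.D_eq_zero_iff (p := p) c).1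
      (b.repr.injective (Finsupp.ext fun t => ?_)))
    rw [map_zero]
    exact hD {t} c (hc {t}) t (Finset.mem_singleton_self t)

set_option maxHeartbeats 1000000 in
/-- A finitely generated domain over a power series ring has a derivation not killing a given non-`p`-th power. -/
theorem exists_derivation {B : Type u} [CommRing B] [IsDomain B] [CharP k p]
    [Algebra (MvPowerSeries (Fin d) k) B] [Algebra.FiniteType (MvPowerSeries (Fin d) k) B]
    (hinj : Function.Injective (algebraMap (MvPowerSeries (Fin d) k) B)) (f : B)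
    (hf : ∀ x : FractionRing B, x ^ p ≠ algebraMap B (FractionRing B) f) :
    ∃ D : Derivation ℤ B B, D f ≠ 0 := by
  classical
  let A := MvPowerSeries (Fin d) k
  haveI : IsDomain A := NoZeroDivisors.to_isDomain _
  haveI : CharP A p := charP_of_injective_ringHom (f := (C : k →+* A)) C_injective p
  let L := FractionRing A
  let K := FractionRing B
  haveI : CharP L p := charP_of_injective_algebraMap (IsFractionRing.injective A L) p
  haveI : CharP B p := charP_of_injective_algebraMap hinj p
  haveI : CharP K p := charP_of_injective_algebraMap (IsFractionRing.injective B K) p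
  haveI : FaithfulSMul A K := (faithfulSMul_iff_algebraMap_injective A K).2 (by
    rw [IsScalarTower.algebraMap_eq A B K]
    exact (IsFractionRing.injective B K).comp hinj)
  letI : Algebra L K := FractionRing.liftAlgebra A K
  haveI : Algebra.EssFiniteType B K := .of_isLocalization K (nonZeroDivisors B)
  haveI : Algebra.EssFiniteType A K := .comp A B K
  haveI : Algebra.EssFiniteType L K := .of_comp A L K
  let F := Groth.Ega41Sep.ZModU.{u} p
  haveI : CharP F p := charP_of_injective_ringHom (f := ULift.ringEquiv.symm.toRingHom) (RingEquiv.injective _) p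
  haveI : PerfectRing F p := PerfectRing.ofFiniteOfIsReduced p _
  letI : Algebra F L := Groth.Ega41Sep.zmodUAlgebra p L
  letI : Algebra F K := ((algebraMap L K).comp (algebraMap F L)).toAlgebra
  haveI : IsScalarTower F L K := IsScalarTower.of_algebraMap_eq fun _ => rfl
  obtain ⟨ι, _, _, _, kf, hanti, hpow, hfin, hinter⟩ := exists_cofinite_subfields (k := k) p
  let kk : ι → IntermediateField F L := fun i =>
    IntermediateField.adjoin F (algebraMap A L '' (expSub (d := d) p (kf i) : Set A))
  have hkk : Antitone kk := fun i j hij => IntermediateField.adjoin.mono F _ _ (Set.image_mono fun a ha => by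
    rw [SetLike.mem_coe, mem_expSub] at ha ⊢
    exact ⟨fun n => hanti hij (ha.1 n), ha.2⟩)
  -- the intersection
  have hdiv : ∀ i, ∀ y ∈ kk i, ∃ a ∈ expSub p (kf i), ∃ b ∈ expSub p (kf i), b ≠ 0 ∧
      y * algebraMap A L b = algebraMap A L a := by
    intro i y hy
    induction hy using IntermediateField.adjoin_induction with
    | mem z hz =>
      obtain ⟨a, ha, rfl⟩ := hz
      exact ⟨a, ha, 1, one_mem _, one_ne_zero, by rw [map_one, mul_one]⟩
    | algebraMap c =>
      have hc : c = ((c.down.val : ℕ) : F) := ULift.ext _ _ (by rw [ULift.down_natCast, ZMod.natCast_zmod_val])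
      exact ⟨(c.down.val : ℕ), natCast_mem _ _, 1, one_mem _, one_ne_zero, by
        conv_lhs => rw [hc]
        rw [map_natCast, map_natCast, map_one, mul_one]⟩
    | add x y _ _ hx hy =>
      obtain ⟨a, ha, b, hb, hb0, hx⟩ := hx
      obtain ⟨a', ha', b', hb', hb0', hy⟩ := hy
      refine ⟨a * b' + a' * b, add_mem (mul_mem ha hb') (mul_mem ha' hb), b * b', mul_mem hb hb',
        mul_ne_zero hb0 hb0', ?_⟩
      rw [map_add, map_mul, map_mul, map_mul, ← hx, ← hy]; ring
    | inv x _ hx =>
      obtain ⟨a, ha, b, hb, hb0, hx⟩ := hx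
      rcases eq_or_ne x 0 with rfl | h0
      · exact ⟨0, zero_mem _, 1, one_mem _, one_ne_zero, by rw [inv_zero, zero_mul, map_zero]⟩
      refine ⟨b, hb, a, ha, ?_, by rw [← hx, inv_mul_cancel_left₀ h0]⟩
      rintro rfl
      rw [map_zero, mul_eq_zero] at hx
      exact hx.elim h0 fun h => hb0 (IsFractionRing.injective A L (h.trans (map_zero _).symm))
    | mul x y _ _ hx hy =>
      obtain ⟨a, ha, b, hb, hb0, hx⟩ := hx
      obtain ⟨a', ha', b', hb', hb0', hy⟩ := hy
      refine ⟨a * a', mul_mem ha ha', b * b', mul_mem hb hb', mul_ne_zero hb0 hb0', ?_⟩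
      rw [map_mul, map_mul, ← hx, ← hy]; ring
  have hP₀ : (⨅ i, kk i ⊔ IntermediateField.adjoin F (Set.range fun y : L => y ^ p)) =
      IntermediateField.adjoin F (Set.range fun y : L => y ^ p) := by
    refine le_antisymm (fun y hy => ?_) (le_iInf fun i => le_sup_right)
    have hy' : ∀ i, y ∈ kk i := fun i => by
      refine (sup_le le_rfl (IntermediateField.adjoin_le_iff.2 ?_) : kk i ⊔ _ ≤ kk i)
        (Groth.Ega41Sep.Admissible.mem_iInf_field.1 hy i)
      rintro _ ⟨z, rfl⟩
      obtain ⟨a, b, hb, rfl⟩ := IsFractionRing.div_surjective (A := A) z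
      show (algebraMap A L a / algebraMap A L b) ^ p ∈ kk i
      rw [div_pow, ← map_pow, ← map_pow]
      exact div_mem (IntermediateField.subset_adjoin F _ ⟨_, pow_mem_expSub p (hpow i) a, rfl⟩)
        (IntermediateField.subset_adjoin F _ ⟨_, pow_mem_expSub p (hpow i) b, rfl⟩)
    obtain ⟨a, b, hb, rfl⟩ := IsFractionRing.div_surjective (A := A) y
    have hb0 : b ≠ 0 := nonZeroDivisors.ne_zero hb
    have hbL : algebraMap A L b ≠ 0 := fun h => hb0 (IsFractionRing.injective A L (h.trans (map_zero _).symm))
    obtain ⟨e, he⟩ : ∃ e, p = e + 1 := ⟨p - 1, by have := (Fact.out : p.Prime).pos; omega⟩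
    have hmem : ∀ i, a * b ^ e ∈ expSub p (kf i) := fun i => by
      obtain ⟨a', ha', b', hb', hb0', h⟩ := hdiv i _ (hy' i)
      refine mem_expSub_of_mul p hb' hb0' ?_
      have h2 : b * a' = a * b' := IsFractionRing.injective A L (by
        rw [map_mul, map_mul, ← h, div_mul_eq_mul_div, mul_div_cancel₀ _ hbL])
      rw [show b' * (a * b ^ e) = b ^ p * a' by
        rw [he, pow_succ]; linear_combination -(b ^ e) * h2]
      exact mul_mem (pow_mem_expSub p (hpow i) b) ha'
    choose root hroot using fun n : Fin d →₀ ℕ => hinter (coeff (p • n) (a * b ^ e)) fun i => ((mem_expSub p).1 (hmem i)).1 n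
    obtain ⟨i₀⟩ := ‹Nonempty ι›
    have hpw : (mkSeries root : A) ^ p = a * b ^ e := by
      haveI : ExpChar k p := ExpChar.prime Fact.out
      rw [← MvPowerSeries.map_frobenius_expand (p := p) (hp := (Fact.out : p.Prime).ne_zero)]
      ext m
      by_cases hm : ∃ n, m = p • n
      · obtain ⟨n, rfl⟩ := hm
        rw [coeff_map, coeff_expand_smul, coeff_mkSeries, frobenius_def]
        exact hroot n
      · push Not at hm
        rw [((mem_expSub p).1 (hmem i₀)).2 m hm, coeff_map]
        obtain ⟨i, hi⟩ : ∃ i, ¬ p ∣ m i := by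
          by_contra! hall
          exact hm (m.mapRange (· / p) (Nat.zero_div p)) (Finsupp.ext fun i => by
            rw [Finsupp.smul_apply, Finsupp.mapRange_apply, smul_eq_mul, Nat.mul_div_cancel' (hall i)])
        rw [coeff_expand_of_not_dvd p (Fact.out : p.Prime).ne_zero _ hi, map_zero]
    refine IntermediateField.subset_adjoin F _ ⟨algebraMap A L (mkSeries root) / algebraMap A L b, ?_⟩
    show (_ / _) ^ p = _
    rw [div_pow, ← map_pow, hpw, map_mul, map_pow, he, pow_succ]
    rw [mul_comm (algebraMap A L a), mul_div_mul_left _ _ (pow_ne_zero e hbL)]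
  haveI : Module.Finite K (EGA41.imperfection F L K) := (Groth.Ega41Rank.index_essFiniteType (k := F) L K).1.1
  have h6 := Groth.Agent.S4546.result p (k₀ := F) (K := L) (L := K) kk hkk hP₀
  -- the element is not a `p`-th power
  obtain ⟨i, hi⟩ : ∃ i, algebraMap B K f ∉
      (kk i).map (IsScalarTower.toAlgHom F L K) ⊔ IntermediateField.adjoin F (Set.range fun y : K => y ^ p) := by
    by_contra! hall
    have hmem : algebraMap B K f ∈ IntermediateField.adjoin F (Set.range fun y : K => y ^ p) := by
      rw [← h6]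
      exact Groth.Ega41Sep.Admissible.mem_iInf_field.2 hall
    obtain ⟨c, hc⟩ := Groth.Ega41Sep.pow_mem_range_of_mem_pPower p
      ((Groth.Ega41Sep.Admissible.mem_pPower_iff (p := p) _).2 hmem)
    exact hf c hc
  let k' := (kk i).map (IsScalarTower.toAlgHom F L K)
  have hDf : KaehlerDifferential.D k' K (algebraMap B K f) ≠ 0 := fun h0 => hi
    ((Groth.Ega41Sep.Admissible.mem_pPower_iff_sup (p := p) k' _).1
      ((Groth.Ega41Sep.Admissible.D_eq_zero_iff (p := p) (k₀ := k') _).1 h0))
  obtain ⟨lam, hlam⟩ : ∃ lam : Ω[K⁄k'] →ₗ[K] K, lam (KaehlerDifferential.D k' K (algebraMap B K f)) ≠ 0 := by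
    by_contra! hall
    haveI : Module.Free K Ω[K⁄k'] := Module.Free.of_divisionRing K _
    exact hDf ((Module.forall_dual_apply_eq_zero_iff K _).1 hall)
  let δ : K → K := fun x => lam (KaehlerDifferential.D k' K x)
  have hδadd : ∀ x y, δ (x + y) = δ x + δ y := fun x y => by simp [δ]
  have hδmul : ∀ x y, δ (x * y) = x * δ y + y * δ x := fun x y => by simp [δ]
  have hδ0 : ∀ a ∈ expSub p (kf i), δ (algebraMap B K (algebraMap A B a)) = 0 := fun a ha => by
    have hmem : algebraMap B K (algebraMap A B a) ∈ k' := by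
      refine ⟨algebraMap A L a, IntermediateField.subset_adjoin F _ ⟨a, ha, rfl⟩, ?_⟩
      show algebraMap L K (algebraMap A L a) = _
      rw [← IsScalarTower.algebraMap_apply, ← IsScalarTower.algebraMap_apply]
    show lam (KaehlerDifferential.D k' K _) = 0
    rw [show algebraMap B K (algebraMap A B a) = algebraMap k' K ⟨_, hmem⟩ from rfl, Derivation.map_algebraMap, map_zero]
  haveI := hfin i
  haveI : Module.Finite (expSub (d := d) p (kf i)) A := finite_expSub p (kf i)
  let A₁ := expSub (d := d) p (kf i)
  letI : Algebra A₁ B := ((algebraMap A B).comp A₁.subtype).toAlgebra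
  haveI : IsScalarTower A₁ A B := IsScalarTower.of_algebraMap_eq fun _ => rfl
  haveI : Algebra.FiniteType A₁ B := Algebra.FiniteType.trans (inferInstance : Algebra.FiniteType A₁ A) ‹_›
  obtain ⟨G, hG⟩ := ‹Algebra.FiniteType A₁ B›
  obtain ⟨⟨c, hc⟩, hcden⟩ := IsLocalization.exist_integer_multiples_of_finite (nonZeroDivisors B)
    (fun g : G => δ (algebraMap B K g.1))
  have hcl : ∀ x : B, ∃ y : B, algebraMap B K y = algebraMap B K c * δ (algebraMap B K x) := by
    intro x
    have hx : x ∈ Algebra.adjoin A₁ (G : Set B) := hG ▸ Algebra.mem_top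
    induction hx using Algebra.adjoin_induction with
    | mem z hz =>
      obtain ⟨y, hy⟩ := hcden ⟨z, hz⟩
      exact ⟨y, hy.trans (Algebra.smul_def _ _)⟩
    | algebraMap a => exact ⟨0, by
        rw [show algebraMap A₁ B a = algebraMap A B a.1 from rfl, hδ0 a.1 a.2, mul_zero, map_zero]⟩
    | add x y _ _ hx hy =>
      obtain ⟨x', hx⟩ := hx
      obtain ⟨y', hy⟩ := hy
      exact ⟨x' + y', by rw [map_add, map_add, hδadd, mul_add, hx, hy]⟩
    | mul x y _ _ hx hy =>
      obtain ⟨x', hx⟩ := hx
      obtain ⟨y', hy⟩ := hy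
      exact ⟨x * y' + y * x', by rw [map_add, map_mul, map_mul, map_mul, hδmul, hx, hy]; ring⟩
  choose D hD using hcl
  have hKinj := IsFractionRing.injective B K
  have hDadd : ∀ x y, D (x + y) = D x + D y := fun x y => hKinj (by
    rw [map_add, hD, hD, hD, map_add, hδadd, mul_add])
  refine ⟨Derivation.mk' (AddMonoidHom.mk' D hDadd).toIntLinearMap fun x y => hKinj ?_, fun h => ?_⟩
  · show algebraMap B K (D (x * y)) = algebraMap B K (x • D y + y • D x)
    rw [smul_eq_mul, smul_eq_mul, map_add, map_mul, map_mul, hD, hD, hD, map_mul, hδmul]; ring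
  · have h1 : algebraMap B K (D f) = 0 := (congrArg _ h).trans (map_zero _)
    rw [hD, mul_eq_zero] at h1
    exact h1.elim (fun h => nonZeroDivisors.ne_zero hc (hKinj (h.trans (map_zero _).symm))) hlam

end Groth.Calg1.SepDer
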